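import Cfsg.Agent.Lib.Forms.Unitary
import Cfsg.Prelude.Def_ClassicalGeometry

/-!
The standard Hermitian form over a field with `q²` elements; `SU_n(q)` is generated by transvections.
-/

set_option autoImplicit false

namespace Cfsg.Agent.FormsLib

open Matrix

variable {F : Type*} [Field F] [Fintype F] {q : ℕ}

theorem exists_qhom (hF : Fintype.card F = q ^ 2) :
    ∃ σ : F →+* F, (∀ x, σ x = x ^ q) ∧ (∀ x, σ (σ x) = x) ∧ 2 ≤ q := by
  obtain ⟨p, hchar⟩ := CharP.exists F
  obtain ⟨⟨k, hk⟩, hp, hcard⟩ := FiniteField.card F p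
  have := Fact.mk hp
  have hcard' : q ^ 2 = p ^ k := hF ▸ hcard
  obtain ⟨f, -, hq⟩ := (Nat.dvd_prime_pow hp).1 (hcard' ▸ dvd_pow_self q two_ne_zero)
  refine ⟨iterateFrobenius F p f, fun x => by rw [iterateFrobenius_def, ← hq], fun x => ?_, ?_⟩
  · rw [iterateFrobenius_def, iterateFrobenius_def, ← hq, ← pow_mul, ← pow_two, ← hF,
      FiniteField.pow_card]
  · by_contra h
    have h2 := Fintype.one_lt_card (α := F)
    rw [hF] at h2
    interval_cases q <;> simp at h2

/-- The standard Hermitian form, linear in the second argument. -/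
noncomputable def hermB (n : ℕ) (σ : F →+* F) : (Fin n → F) →ₛₗ[σ] (Fin n → F) →ₗ[F] F :=
  LinearMap.mk₂'ₛₗ σ (RingHom.id F) (fun u v => ∑ i, v i * σ (u i))
    (fun u u' v => by simp [mul_add, Finset.sum_add_distrib])
    (fun c u v => by simp [Finset.mul_sum, mul_left_comm])
    (fun u v v' => by simp [add_mul, Finset.sum_add_distrib])
    (fun c u v => by simp [Finset.mul_sum, mul_assoc])

theorem hermB_apply {n : ℕ} {σ : F →+* F} (hσ : ∀ x, σ x = x ^ q) (u v : Fin n → F) :
    hermB n σ u v = hermForm n F q v u := by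
  simp [hermB, hermForm, hσ]

theorem hermB_isUnitary (hF : Fintype.card F = q ^ 2) (n : ℕ) {σ : F →+* F}
    (hσ : ∀ x, σ x = x ^ q) (hinv : ∀ x, σ (σ x) = x) (hq : 2 ≤ q) :
    IsUnitaryForm σ (hermB n σ) ∧ (3 ≤ q → ∃ ν : F, ν ≠ 0 ∧ ν * σ ν ≠ 1) := by
  classical
  obtain ⟨g, hg⟩ := IsCyclic.exists_generator (α := Fˣ)
  have hcard : Fintype.card Fˣ = (q + 1) * (q - 1) := by
    rw [Fintype.card_units, hF]
    obtain ⟨r, rfl⟩ : ∃ r, q = r + 1 := ⟨q - 1, by omega⟩
    simp only [Nat.add_sub_cancel]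
    have : (r + 1) ^ 2 = (r + 1 + 1) * r + 1 := by ring
    omega
  have hord : orderOf g = (q + 1) * (q - 1) := by
    rw [orderOf_eq_card_of_forall_mem_zpowers hg, Nat.card_eq_fintype_card, hcard]
  have hne : ∀ k, 0 < k → k < orderOf g → (g : F) ^ k ≠ 1 := fun k h0 h1 e =>
    pow_ne_one_of_lt_orderOf h0.ne' h1 (Units.ext (by simpa using e))
  have hsne : σ ≠ RingHom.id F := by
    intro e
    refine hne (q - 1) (by omega) (by rw [hord]; exact lt_mul_of_one_lt_left (by omega) (by omega)) ?_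
    have h1 : (g : F) * (g : F) ^ (q - 1) = g := by
      rw [← pow_succ', Nat.sub_add_cancel (by omega), ← hσ, e, RingHom.id_apply]
    exact (mul_eq_left₀ (Units.ne_zero g)).1 h1
  refine ⟨⟨⟨hinv, by simp, fun u v => ?_, fun v => ?_, fun v hv => ?_⟩, hsne, fun a ha => ?_⟩,
    fun h3 => ⟨g, Units.ne_zero g, ?_⟩⟩
  · simp only [hermB, LinearMap.mk₂'ₛₗ_apply, map_sum, map_mul, hinv, one_mul, mul_comm]
  · have hfix : σ (hermB n σ v v) = hermB n σ v v := by
      simp only [hermB, LinearMap.mk₂'ₛₗ_apply, map_sum, map_mul, hinv, mul_comm]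
    obtain ⟨d, hd⟩ : ∃ d : F, d + σ d ≠ 0 := by
      by_contra hc
      push Not at hc
      have h1 : (1 : F) + 1 = 0 := by simpa using hc 1
      apply hsne
      ext a
      have := hc a
      simp only [RingHom.id_apply]
      linear_combination this - a * h1
    refine ⟨hermB n σ v v * d / (d + σ d), ?_⟩
    simp only [map_div₀, map_mul, map_add, hfix, hinv, add_comm (σ d) d, one_mul]
    field_simp
  · funext i
    have := hv (Pi.single i 1)
    simpa [hermB, Pi.single_apply] using this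
  · by_cases ha0 : a = 0
    · exact ⟨0, by simp [ha0]⟩
    obtain ⟨j, hj⟩ := mem_powers_iff_mem_zpowers.2 (hg (Units.mk0 a ha0))
    have hj' : (g : F) ^ j = a := by simpa using congrArg Units.val hj
    have h1 : g ^ (j * (q - 1)) = 1 := by
      ext
      have h2 : a * a ^ (q - 1) = a := by rw [← pow_succ', Nat.sub_add_cancel (by omega), ← hσ, ha]
      rw [Units.val_pow_eq_pow_val, pow_mul, hj', (mul_eq_left₀ ha0).1 h2, Units.val_one]
    obtain ⟨i, rfl⟩ : q + 1 ∣ j := by
      have h2 := orderOf_dvd_of_pow_eq_one h1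
      rw [hord] at h2
      exact (Nat.mul_dvd_mul_iff_right (by omega)).1 h2
    refine ⟨(g : F) ^ i, ?_⟩
    rw [hσ, ← pow_succ', ← pow_mul, ← hj', mul_comm]
  · rw [hσ, ← pow_succ']
    exact hne _ (Nat.succ_pos q) (by rw [hord]; exact lt_mul_of_one_lt_right (by omega) (by omega))

theorem closure_unitaryTransvection (hF : Fintype.card F = q ^ 2) (n : ℕ) (h32 : ¬ (n = 3 ∧ q = 2)) :
    Subgroup.closure {A : ↥(SU n F q) | ∃ (v : Fin n → F) (c : F), hermForm n F q v v = 0 ∧
      ((A : Matrix.SpecialLinearGroup (Fin n) F) : Matrix (Fin n) (Fin n) F) =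
        unitaryTransvection n q v c} = ⊤ := by
  obtain ⟨σ, hσ, hinv, hq⟩ := exists_qhom hF
  obtain ⟨hU, hbig⟩ := hermB_isUnitary hF n hσ hinv hq
  rw [eq_top_iff]
  intro A _
  let φ : ↥(SU n F q) →* ((Fin n → F) ≃ₗ[F] (Fin n → F)) :=
    MonoidHom.comp (Matrix.SpecialLinearGroup.toLin' : Matrix.SpecialLinearGroup (Fin n) F →* _)
      (SU n F q).subtype
  have hφ : ∀ (A : ↥(SU n F q)) x, φ A x =
      ((A : Matrix.SpecialLinearGroup (Fin n) F) : Matrix (Fin n) (Fin n) F) *ᵥ x :=
    fun A x => Matrix.SpecialLinearGroup.toLin'_apply _ x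
  have hinj : Function.Injective φ := fun A A' h => by
    apply Subtype.ext
    apply Subtype.ext
    refine Matrix.toLin'.injective (LinearMap.ext fun x => ?_)
    rw [Matrix.toLin'_apply, Matrix.toLin'_apply, ← hφ, ← hφ, h]
  have hdet : ∀ A, (φ A).det = 1 := fun A => by
    apply Units.ext
    rw [LinearEquiv.coe_det, Units.val_one]
    have : (φ A : (Fin n → F) →ₗ[F] (Fin n → F)) =
        Matrix.toLin' ((A : Matrix.SpecialLinearGroup (Fin n) F) : Matrix (Fin n) (Fin n) F) :=
      LinearMap.ext fun x => hφ A x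
    rw [this, LinearMap.det_toLin']
    exact (A : Matrix.SpecialLinearGroup (Fin n) F).2
  have hpres : ∀ A, Preserves (hermB n σ) (φ A) := fun A u v => by
    rw [hermB_apply hσ, hermB_apply hσ, hφ, hφ]
    exact A.2 v u
  have hmem : φ A ∈ uGroup (hermB n σ) ⊤ := by
    refine mem_uGroup_top hU ?_ (hpres A) (hdet A)
    rw [Module.finrank_fin_fun]
    by_cases h : q = 2
    · exact Or.inr fun e => h32 ⟨e, h⟩
    · exact Or.inl (hbig (by omega))
  suffices h : uGroup (hermB n σ) ⊤ ≤ (Subgroup.closure {A : ↥(SU n F q) | ∃ (v : Fin n → F) (c : F),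
      hermForm n F q v v = 0 ∧ ((A : Matrix.SpecialLinearGroup (Fin n) F) : Matrix (Fin n) (Fin n) F) =
        unitaryTransvection n q v c}).map φ by
    obtain ⟨A', hA', he⟩ := h hmem
    rwa [← hinj he]
  rw [uGroup, Subgroup.closure_le]
  rintro g ⟨v, c, -, hvv, hc, hg⟩
  set M : Matrix (Fin n) (Fin n) F := unitaryTransvection n q v c with hM
  have hMx : ∀ x, M *ᵥ x = g x := fun x => by
    rw [hg, hM, unitaryTransvection, Matrix.add_mulVec, Matrix.one_mulVec, Matrix.smul_mulVec,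
      Matrix.vecMulVec_mulVec, hermB_apply hσ, hermForm]
    ext i
    simp only [Pi.add_apply, Pi.smul_apply, op_smul_eq_mul, smul_eq_mul, dotProduct,
      mul_comm (x _)]
    ring
  have hMdet : M.det = 1 := by
    have hfv : (c • hermB n σ v) v = 0 := by simp [hvv]
    have : Matrix.toLin' M = LinearMap.transvection (c • hermB n σ v) v := LinearMap.ext fun x => by
      rw [Matrix.toLin'_apply, hMx, hg, LinearMap.transvection.apply]
      simp
    rw [← LinearMap.det_toLin', this, LinearMap.transvection.det, hfv, add_zero]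
  have hgp : Preserves (hermB n σ) g := uTau_preserves hU (W := ⊤) ⟨v, c, Submodule.mem_top, hvv, hc, hg⟩
  let A' : ↥(SU n F q) := ⟨⟨M, hMdet⟩, fun a b => by
    show hermForm n F q (M *ᵥ a) (M *ᵥ b) = hermForm n F q a b
    rw [hMx, hMx, ← hermB_apply hσ, ← hermB_apply hσ]
    exact hgp b a⟩
  refine ⟨A', Subgroup.subset_closure ⟨v, c, ?_, rfl⟩, LinearEquiv.ext fun x => ?_⟩
  · rw [← hermB_apply hσ]; exact hvv
  · rw [hφ]; exact hMx x

end Cfsg.Agent.FormsLib
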