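import Cfsg.Agent.Lib.Forms.Sp
import Mathlib

/-!
Isometry groups of forms on abstract spaces: transport, orthogonal decompositions, standard coordinates.
-/

set_option autoImplicit false

namespace Cfsg.Agent.FormModel

open Cfsg.Agent.FormsLib

variable {F V V' : Type*} [Field F] [AddCommGroup V] [Module F V] [AddCommGroup V'] [Module F V']
  {σ : F →+* F}

/-- The isometry group of a sesquilinear form. -/
def isoSub (B : V →ₛₗ[σ] V →ₗ[F] F) : Subgroup (V ≃ₗ[F] V) where
  carrier := {g | Preserves B g}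
  mul_mem' ha hb := ha.mul hb
  one_mem' := preserves_one
  inv_mem' ha := ha.symm

theorem isoGroup_eq (B : LinearMap.BilinForm F V) : isoGroup B = isoSub B := rfl

/-- Transport of the isometry group along an isometry. -/
def isoSubCongr {B : V →ₛₗ[σ] V →ₗ[F] F} {B' : V' →ₛₗ[σ] V' →ₗ[F] F} (e : V ≃ₗ[F] V')
    (he : ∀ u v, B' (e u) (e v) = B u v) : isoSub B ≃* isoSub B' where
  toFun g := ⟨e.symm.trans (g.1.trans e), fun u v => by
    show B' (e (g.1 (e.symm u))) (e (g.1 (e.symm v))) = _
    rw [he, g.2, ← he, e.apply_symm_apply, e.apply_symm_apply]⟩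
  invFun g := ⟨e.trans (g.1.trans e.symm), fun u v => by
    show B (e.symm (g.1 (e u))) (e.symm (g.1 (e v))) = _
    rw [← he, e.apply_symm_apply, e.apply_symm_apply, g.2, he]⟩
  left_inv g := Subtype.ext (LinearEquiv.ext fun v => by simp)
  right_inv g := Subtype.ext (LinearEquiv.ext fun v => by simp)
  map_mul' g h := Subtype.ext (LinearEquiv.ext fun v => by
    show e ((g.1 * h.1) (e.symm v)) = e (g.1 (e.symm (e (h.1 (e.symm v)))))
    simp)

/-- The setwise stabiliser of a subspace. -/
def stabSub (W : Submodule F V) : Subgroup (V ≃ₗ[F] V) where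
  carrier := {g | ∀ v, v ∈ W ↔ g v ∈ W}
  mul_mem' {a b} ha hb v := (hb v).trans (ha _)
  one_mem' _ := Iff.rfl
  inv_mem' {a} ha v := by
    rw [ha (a⁻¹ v)]
    show v ∈ W ↔ a (a.symm v) ∈ W
    rw [a.apply_symm_apply]

/-- The subspace right-orthogonal to `W`. -/
def perp (B : V →ₛₗ[σ] V →ₗ[F] F) (W : Submodule F V) : Submodule F V where
  carrier := {x | ∀ w ∈ W, B w x = 0}
  add_mem' ha hb w hw := by rw [map_add, ha w hw, hb w hw, add_zero]
  zero_mem' w _ := map_zero _
  smul_mem' c x hx w hw := by rw [map_smul, hx w hw, smul_zero]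

theorem isCompl_perp [FiniteDimensional F V] {B : V →ₛₗ[σ] V →ₗ[F] F} {W : Submodule F V}
    (hrefl : ∀ x y, B x y = 0 → B y x = 0) (hW : ∀ u ∈ W, (∀ v ∈ W, B u v = 0) → u = 0) :
    IsCompl W (perp B W) := by
  classical
  let b := Module.finBasis F W
  let L : V →ₗ[F] (Fin (Module.finrank F W) → F) := LinearMap.pi fun i => B (b i : V)
  have hL : ∀ x, L x = 0 → x ∈ perp B W := fun x hx w hw => by
    have h1 : (⟨w, hw⟩ : W) = ∑ i, b.repr ⟨w, hw⟩ i • b i := (b.sum_repr _).symm
    have h2 := congrArg (fun y : W => B (y : V) x) h1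
    simp only [Submodule.coe_sum, Submodule.coe_smul, map_sum, map_smulₛₗ, LinearMap.sum_apply,
      LinearMap.smul_apply, smul_eq_mul] at h2
    rw [h2]
    exact Finset.sum_eq_zero fun i _ => by
      rw [show B (b i : V) x = 0 from congrFun hx i, mul_zero]
  have hdis : Disjoint W (perp B W) := Submodule.disjoint_def.2 fun x hx hx' =>
    hW x hx fun v hv => hrefl _ _ (hx' v hv)
  have hbij : Function.Injective (L.comp W.subtype) := by
    rw [← LinearMap.ker_eq_bot, Submodule.eq_bot_iff]
    exact fun x hx => Subtype.ext ((Submodule.disjoint_def.1 hdis) x.1 x.2 (hL x.1 hx))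
  have hsurj : Function.Surjective (L.comp W.subtype) :=
    (LinearMap.injective_iff_surjective_of_finrank_eq_finrank (by simp)).1 hbij
  refine ⟨hdis, codisjoint_iff.2 (eq_top_iff.2 fun x _ => ?_)⟩
  obtain ⟨w, hw⟩ := hsurj (L x)
  refine Submodule.mem_sup.2 ⟨w, w.2, x - w, hL _ ?_, add_sub_cancel _ _⟩
  rw [map_sub, show L (w : V) = L x from hw, sub_self]

/-- The restriction of a form to a subspace. -/
def restr (B : V →ₛₗ[σ] V →ₗ[F] F) (W : Submodule F V) : W →ₛₗ[σ] W →ₗ[F] F :=
  LinearMap.mk₂'ₛₗ σ (RingHom.id F) (fun u v => B u v)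
    (fun u u' v => by simp) (fun c u v => by simp) (fun u v v' => by simp) (fun c u v => by simp)

@[simp]
theorem restr_apply (B : V →ₛₗ[σ] V →ₗ[F] F) (W : Submodule F V) (u v : W) : restr B W u v = B u v := rfl

/-- The stabiliser of a non-degenerate subspace is the product of the isometry groups of the two summands. -/
theorem exists_stab_prod [FiniteDimensional F V] {B : V →ₛₗ[σ] V →ₗ[F] F} {W : Submodule F V}
    (hrefl : ∀ x y, B x y = 0 → B y x = 0) (hW : ∀ u ∈ W, (∀ v ∈ W, B u v = 0) → u = 0) :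
    Nonempty (↥(stabSub W ⊓ isoSub B) ≃* isoSub (restr B W) × isoSub (restr B (perp B W))) := by
  have hc := isCompl_perp hrefl hW
  let e : (W × perp B W) ≃ₗ[F] V := Submodule.prodEquivOfIsCompl W (perp B W) hc
  have hea : ∀ p, e p = (p.1 : V) + p.2 := fun p => Submodule.coe_prodEquivOfIsCompl' W _ hc p
  have hB : ∀ (a a' : W) (b b' : perp B W), B (e (a, b)) (e (a', b')) = B a a' + B b b' := by
    intro a a' b b'
    simp only [hea, map_add, LinearMap.add_apply, b'.2 a a.2, hrefl _ _ (b.2 a' a'.2), add_zero, zero_add]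
  let φ : isoSub (restr B W) × isoSub (restr B (perp B W)) →* ↥(stabSub W ⊓ isoSub B) :=
    MonoidHom.mk' (fun p => ⟨e.symm.trans ((p.1.1.prodCongr p.2.1).trans e), ⟨fun v => by
        obtain ⟨⟨a, b⟩, rfl⟩ := e.surjective v
        show e (a, b) ∈ W ↔ e ((p.1.1.prodCongr p.2.1) (e.symm (e (a, b)))) ∈ W
        rw [e.symm_apply_apply, hea, hea]
        show (a : V) + b ∈ W ↔ ((p.1.1 a : W) : V) + (p.2.1 b : perp B W) ∈ W
        rw [Submodule.add_mem_iff_right _ a.2, Submodule.add_mem_iff_right _ (p.1.1 a).2]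
        constructor <;> intro h
        · have : b = 0 := Subtype.ext ((Submodule.disjoint_def.1 hc.disjoint) _ h b.2)
          rw [this, map_zero]
          exact zero_mem W
        · have h2 : p.2.1 b = 0 := Subtype.ext ((Submodule.disjoint_def.1 hc.disjoint) _ h (p.2.1 b).2)
          rw [(LinearEquiv.map_eq_zero_iff _).1 h2]
          exact zero_mem W,
      fun u v => by
        obtain ⟨⟨a, b⟩, rfl⟩ := e.surjective u
        obtain ⟨⟨a', b'⟩, rfl⟩ := e.surjective v
        show B (e ((p.1.1.prodCongr p.2.1) (e.symm (e (a, b)))))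
          (e ((p.1.1.prodCongr p.2.1) (e.symm (e (a', b'))))) = _
        rw [e.symm_apply_apply, e.symm_apply_apply, hB, LinearEquiv.prodCongr_apply,
          LinearEquiv.prodCongr_apply, hB]
        exact congrArg₂ (· + ·) (p.1.2 a a') (p.2.2 b b')⟩⟩)
      (fun p p' => Subtype.ext (LinearEquiv.ext fun v => by
        show e (((p.1 * p'.1).1.prodCongr (p.2 * p'.2).1) (e.symm v)) =
          e ((p.1.1.prodCongr p.2.1) (e.symm (e ((p'.1.1.prodCongr p'.2.1) (e.symm v)))))
        rw [e.symm_apply_apply]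
        rfl))
  refine ⟨(MulEquiv.ofBijective φ ⟨fun p p' h => ?_, fun g => ?_⟩).symm⟩
  · have h1 : ∀ x, (p.1.1.prodCongr p.2.1) x = (p'.1.1.prodCongr p'.2.1) x := fun x => by
      have := congrArg (fun g : ↥(stabSub W ⊓ isoSub B) => g.1 (e x)) h
      change e ((p.1.1.prodCongr p.2.1) (e.symm (e x))) = e ((p'.1.1.prodCongr p'.2.1) (e.symm (e x))) at this
      rw [e.symm_apply_apply] at this
      exact e.injective this
    refine Prod.ext (Subtype.ext (LinearEquiv.ext fun a => ?_)) (Subtype.ext (LinearEquiv.ext fun b => ?_))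
    · exact (congrArg Prod.fst (h1 (a, 0)) :)
    · exact (congrArg Prod.snd (h1 (0, b)) :)
  · have hP : ∀ x, x ∈ perp B W ↔ g.1 x ∈ perp B W := fun x => by
      constructor
      · intro hx w hw
        have h1 : g.1⁻¹ w ∈ W := by
          rw [(g.2.1 : g.1 ∈ stabSub W) (g.1⁻¹ w)]
          show g.1 (g.1.symm w) ∈ W
          rwa [g.1.apply_symm_apply]
        have h2 := g.2.2 (g.1⁻¹ w) x
        rw [hx _ h1] at h2
        rwa [show g.1 (g.1⁻¹ w) = w from g.1.apply_symm_apply w] at h2
      · intro hx w hw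
        rw [← g.2.2 w x]
        exact hx _ ((g.2.1 w).1 hw)
    let a : isoSub (restr B W) := ⟨g.1.ofSubmodules W W (le_antisymm
        (Submodule.map_le_iff_le_comap.2 fun v hv => (g.2.1 v).1 hv)
        fun v hv => ⟨g.1.symm v, (g.2.1 _).2 (by rwa [g.1.apply_symm_apply]), g.1.apply_symm_apply v⟩),
      fun u v => g.2.2 u v⟩
    let b : isoSub (restr B (perp B W)) := ⟨g.1.ofSubmodules (perp B W) (perp B W) (le_antisymm
        (Submodule.map_le_iff_le_comap.2 fun v hv => (hP v).1 hv)
        fun v hv => ⟨g.1.symm v, (hP _).2 (by rwa [g.1.apply_symm_apply]), g.1.apply_symm_apply v⟩),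
      fun u v => g.2.2 u v⟩
    refine ⟨(a, b), Subtype.ext (LinearEquiv.ext fun v => ?_)⟩
    obtain ⟨⟨x, y⟩, rfl⟩ := e.surjective v
    show e ((a.1.prodCongr b.1) (e.symm (e (x, y)))) = g.1 (e (x, y))
    rw [e.symm_apply_apply, LinearEquiv.prodCongr_apply, hea, hea, map_add]
    rfl

/-- Standard coordinates for a non-degenerate alternating form. -/
theorem exists_symp_coords [FiniteDimensional F V] {B : LinearMap.BilinForm F V} (hA : LinearMap.IsAlt B)
    (hB : ∀ u, (∀ v, B u v = 0) → u = 0) {m : ℕ} (hdim : Module.finrank F V = 2 * m) :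
    ∃ e : (Fin m ⊕ Fin m → F) ≃ₗ[F] V, ∀ u v, B (e u) (e v) = spB m F u v := by
  classical
  have hnd : LinearMap.Nondegenerate B :=
    ⟨hB, fun y hy => hB y fun x => by rw [alt_swap hA x y, hy x, neg_zero]⟩
  obtain ⟨m', b, h1, h2, h3⟩ := exists_symplectic_basis_nondeg hA hnd
  have hm : m' = m := by
    have := Module.finrank_eq_card_basis b
    rw [Fintype.card_sum, Fintype.card_fin] at this
    omega
  subst hm
  let c : Module.Basis (Fin m' ⊕ Fin m') F V := b.reindex (Equiv.sumComm _ _)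
  have hcl : ∀ i, c (Sum.inl i) = b (Sum.inr i) := fun i => by simp [c]
  have hcr : ∀ i, c (Sum.inr i) = b (Sum.inl i) := fun i => by simp [c]
  refine ⟨c.equivFun.symm, fun u v => ?_⟩
  simp only [Module.Basis.equivFun_symm_apply, Fintype.sum_sum_type, hcl, hcr, map_add, map_sum, map_smul,
    LinearMap.add_apply, LinearMap.sum_apply, LinearMap.smul_apply, smul_eq_mul, h1, h2, h3,
    alt_swap hA (b (Sum.inl _)) (b (Sum.inr _)), mul_zero, mul_ite, mul_one, mul_neg, Finset.sum_const_zero,
    Finset.sum_ite_eq, Finset.sum_ite_eq', Finset.mem_univ, if_true, spB_expand, Finset.sum_sub_distrib]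
  simp only [mul_comm, Finset.sum_neg_distrib, Finset.sum_ite_eq, Finset.mem_univ, if_true, zero_add, add_zero, mul_neg, neg_mul, sub_eq_add_neg]

/-- The isometry group of a non-degenerate alternating form is the symplectic group. -/
theorem exists_symp_equiv [FiniteDimensional F V] {B : LinearMap.BilinForm F V} (hA : LinearMap.IsAlt B)
    (hB : ∀ u, (∀ v, B u v = 0) → u = 0) {m : ℕ} (hdim : Module.finrank F V = 2 * m) :
    Nonempty (↥(isoSub B) ≃* Matrix.symplecticGroup (Fin m) F) := by
  obtain ⟨e, he⟩ := exists_symp_coords hA hB hdim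
  exact ⟨((spEquiv m F).trans ((MulEquiv.subgroupCongr (isoGroup_eq _)).trans (isoSubCongr e he))).symm⟩

end Cfsg.Agent.FormModel
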