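import Cfsg.Agent.Lib.Forms.Sp

/-!
The order of the symplectic group over a finite field, by counting symplectic frames.
-/

set_option autoImplicit false

namespace Cfsg.Agent.FormsLib

variable {F : Type*} [Field F] [Fintype F] {m : ℕ}

open scoped Matrix

/-- Partial symplectic frames of length `j`. -/
structure IsFrame {j : ℕ} (e f : Fin j → Fin m ⊕ Fin m → F) : Prop where
  ef : ∀ i k, spB m F (e i) (f k) = if i = k then 1 else 0
  ee : ∀ i k, spB m F (e i) (e k) = 0
  ff : ∀ i k, spB m F (f i) (f k) = 0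

/-- The type of frames of length `j`. -/
def Frame (m j : ℕ) (F : Type*) [Field F] : Type _ :=
  {p : (Fin j → Fin m ⊕ Fin m → F) × (Fin j → Fin m ⊕ Fin m → F) // IsFrame p.1 p.2}

instance instFiniteFrame (j : ℕ) : Finite (Frame m j F) := by
  unfold Frame; infer_instance

/-- The common perpendicular of a frame. -/
noncomputable def frameOrtho {j : ℕ} (p : Frame m j F) : Submodule F (Fin m ⊕ Fin m → F) :=
  LinearMap.ker (LinearMap.pi fun s : Fin j ⊕ Fin j => spB m F (Sum.elim p.1.1 p.1.2 s))

omit [Fintype F] in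
theorem mem_frameOrtho {j : ℕ} {p : Frame m j F} {v : Fin m ⊕ Fin m → F} :
    v ∈ frameOrtho p ↔ (∀ i, spB m F (p.1.1 i) v = 0) ∧ ∀ i, spB m F (p.1.2 i) v = 0 := by
  simp [frameOrtho, funext_iff, Sum.forall]

omit [Fintype F] in
theorem finrank_frameOrtho {j : ℕ} (p : Frame m j F) :
    Module.finrank F (frameOrtho p) + 2 * j = 2 * m := by
  set L := LinearMap.pi fun s : Fin j ⊕ Fin j => spB m F (Sum.elim p.1.1 p.1.2 s) with hL
  have hfe : ∀ i k, spB m F (p.1.2 i) (p.1.1 k) = if i = k then -1 else 0 := fun i k => by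
    rw [alt_swap spB_alt (p.1.1 k) (p.1.2 i), p.2.ef]
    rcases eq_or_ne i k with h | h
    · simp [h]
    · simp [h, h.symm]
  have hsurj : Function.Surjective L := by
    intro c
    refine ⟨(∑ i, c (.inl i) • p.1.2 i) - ∑ i, c (.inr i) • p.1.1 i, funext fun s => ?_⟩
    rcases s with i | i
    · simp [hL, map_sum, p.2.ef, p.2.ee]
    · simp [hL, map_sum, hfe, p.2.ff]
  have := L.finrank_range_add_finrank_ker
  rw [LinearMap.range_eq_top.2 hsurj, finrank_top] at this
  simp only [Module.finrank_pi, Fintype.card_sum, Fintype.card_fin] at this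
  show Module.finrank F (LinearMap.ker L) + _ = _
  omega

/-- Hyperbolic pairs inside a subspace. -/
def pairsIn (W : Submodule F (Fin m ⊕ Fin m → F)) : Type _ :=
  {p : W × W // spB m F p.1 p.2 = 1}

/-- Adding a pair to a frame. -/
noncomputable def frameSucc (j : ℕ) :
    Frame m (j + 1) F ≃ Σ p : Frame m j F, pairsIn (frameOrtho p) where
  toFun p :=
    ⟨⟨(Fin.tail p.1.1, Fin.tail p.1.2),
      ⟨fun i k => by simpa [Fin.tail, Fin.succ_inj] using p.2.ef i.succ k.succ,
        fun i k => p.2.ee i.succ k.succ, fun i k => p.2.ff i.succ k.succ⟩⟩,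
      ⟨(⟨p.1.1 0, mem_frameOrtho.2 ⟨fun i => p.2.ee i.succ 0, fun i => by
          show spB m F (p.1.2 i.succ) (p.1.1 0) = 0
          rw [alt_swap spB_alt (p.1.1 0), p.2.ef, if_neg (Fin.succ_ne_zero i).symm, neg_zero]⟩⟩,
        ⟨p.1.2 0, mem_frameOrtho.2 ⟨fun i => by
          show spB m F (p.1.1 i.succ) (p.1.2 0) = 0
          rw [p.2.ef, if_neg (Fin.succ_ne_zero i)], fun i => p.2.ff i.succ 0⟩⟩),
        by simpa using p.2.ef 0 0⟩⟩
  invFun s := ⟨(Fin.cons (s.2.1.1 : _ → F) s.1.1.1, Fin.cons (s.2.1.2 : _ → F) s.1.1.2), by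
    obtain ⟨p, ⟨⟨a, ha⟩, ⟨b, hb⟩⟩, hab⟩ := s
    rw [mem_frameOrtho] at ha hb
    simp only at hab ⊢
    constructor
    · refine Fin.cases (Fin.cases (by simpa using hab) fun k => ?_)
        (fun i => Fin.cases ?_ fun k => ?_)
      · simp [(Fin.succ_ne_zero k).symm, alt_swap spB_alt (p.1.2 k) a, ha.2 k]
      · simp [Fin.succ_ne_zero i, hb.1 i]
      · simpa [Fin.succ_inj] using p.2.ef i k
    · refine Fin.cases (Fin.cases (by simpa using spB_alt a) fun k => ?_)
        (fun i => Fin.cases ?_ fun k => ?_)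
      · simp [alt_swap spB_alt (p.1.1 k) a, ha.1 k]
      · simp [ha.1 i]
      · simpa using p.2.ee i k
    · refine Fin.cases (Fin.cases (by simpa using spB_alt b) fun k => ?_)
        (fun i => Fin.cases ?_ fun k => ?_)
      · simp [alt_swap spB_alt (p.1.2 k) b, hb.2 k]
      · simp [hb.2 i]
      · simpa using p.2.ff i k⟩
  left_inv p := Subtype.ext (Prod.ext (Fin.cons_self_tail _) (Fin.cons_self_tail _))
  right_inv s := by
    obtain ⟨p, ⟨⟨a, ha⟩, ⟨b, hb⟩⟩, hab⟩ := s
    rfl

theorem card_pairsIn {j : ℕ} (p : Frame m j F) :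
    Nat.card (pairsIn (frameOrtho p)) =
      (Fintype.card F ^ (2 * (m - j)) - 1) * Fintype.card F ^ (2 * (m - j) - 1) := by
  classical
  set W := frameOrtho p with hW
  set q := Fintype.card F
  have hd : Module.finrank F W = 2 * (m - j) := by
    have := finrank_frameOrtho p
    rw [← hW] at this
    omega
  have hfib : ∀ u : {u : W // u ≠ 0},
      Nat.card {v : W // spB m F u.1 v = 1} = q ^ (2 * (m - j) - 1) := by
    rintro ⟨⟨u, hu⟩, hu0⟩
    let L : W →ₗ[F] F := (spB m F u).comp W.subtype
    obtain ⟨v₀, hv₀⟩ : ∃ v₀ : W, L v₀ ≠ 0 := by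
      by_contra h
      push Not at h
      apply hu0
      apply Subtype.ext
      apply spB_nondeg.1
      intro w
      rw [hW, mem_frameOrtho] at hu
      let w' := w - ((∑ i, spB m F (p.1.1 i) w • p.1.2 i) - ∑ i, spB m F (p.1.2 i) w • p.1.1 i)
      have hw' : w' ∈ W := by
        rw [hW, mem_frameOrtho]
        constructor <;> intro i
        · simp [w', map_sum, p.2.ef, p.2.ee]
        · have hfe : ∀ k, spB m F (p.1.2 i) (p.1.1 k) = if i = k then -1 else 0 := fun k => by
            rw [alt_swap spB_alt (p.1.1 k) (p.1.2 i), p.2.ef]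
            rcases eq_or_ne i k with h | h
            · simp [h]
            · simp [h, h.symm]
          simp [w', map_sum, hfe, p.2.ff]
      have h0 := h ⟨w', hw'⟩
      have he : ∀ i, spB m F u (p.1.1 i) = 0 := fun i => by
        rw [alt_swap spB_alt (p.1.1 i) u, hu.1 i, neg_zero]
      have hf : ∀ i, spB m F u (p.1.2 i) = 0 := fun i => by
        rw [alt_swap spB_alt (p.1.2 i) u, hu.2 i, neg_zero]
      simpa [L, w', map_sum, he, hf] using h0
    set v₁ := (L v₀)⁻¹ • v₀
    have hv₁ : L v₁ = 1 := by simp [v₁, hv₀]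
    have e : {v : W // spB m F u v = 1} ≃ LinearMap.ker L :=
      { toFun := fun v => ⟨v.1 - v₁, by
          rw [LinearMap.mem_ker, map_sub, hv₁]
          show spB m F u (v.1 : _ → F) - 1 = 0
          rw [v.2, sub_self]⟩
        invFun := fun v => ⟨v.1 + v₁, by
          show L (v.1 + v₁) = 1
          rw [map_add, hv₁, LinearMap.mem_ker.1 v.2, zero_add]⟩
        left_inv := fun v => by simp
        right_inv := fun v => by simp }
    rw [Nat.card_congr e, Module.natCard_eq_pow_finrank (K := F)]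
    have h1 := L.finrank_range_add_finrank_ker
    rw [LinearMap.range_eq_top.2 (fun c => ⟨c • v₁, by simp [hv₁]⟩), finrank_top,
      Module.finrank_self, hd] at h1
    rw [Nat.card_eq_fintype_card]
    congr 1
    omega
  have e2 : pairsIn W ≃ Σ u : {u : W // u ≠ 0}, {v : W // spB m F u.1 v = 1} :=
    { toFun := fun p => ⟨⟨p.1.1, fun h => by simpa [h] using p.2⟩, ⟨p.1.2, p.2⟩⟩
      invFun := fun s => ⟨(s.1.1, s.2.1), s.2.2⟩
      left_inv := fun p => rfl
      right_inv := fun s => rfl }
  rw [Nat.card_congr e2, Nat.card_sigma, Finset.sum_congr rfl (fun u _ => hfib u), Finset.sum_const,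
    smul_eq_mul, Finset.card_univ, Fintype.card_subtype_compl, Fintype.card_subtype_eq,
    ← Nat.card_eq_fintype_card, Module.natCard_eq_pow_finrank (K := F), hd, Nat.card_eq_fintype_card]

theorem card_frame (j : ℕ) :
    Nat.card (Frame m j F) = ∏ i ∈ Finset.range j,
      ((Fintype.card F ^ (2 * (m - i)) - 1) * Fintype.card F ^ (2 * (m - i) - 1)) := by
  induction j with
  | zero =>
    rw [Finset.range_zero, Finset.prod_empty]
    have : Unique (Frame m 0 F) :=
      { default := ⟨(Fin.elim0, Fin.elim0), ⟨fun i => i.elim0, fun i => i.elim0, fun i => i.elim0⟩⟩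
        uniq := fun p => Subtype.ext (Prod.ext (funext fun i => i.elim0) (funext fun i => i.elim0)) }
    exact Nat.card_unique
  | succ j ih =>
    have : Fintype (Frame m j F) := Fintype.ofFinite _
    have hfin : ∀ p : Frame m j F, Finite (pairsIn (frameOrtho p)) := fun p => by
      unfold pairsIn; infer_instance
    rw [Nat.card_congr (frameSucc j), Nat.card_sigma, Finset.sum_congr rfl
      (fun p _ => card_pairsIn p), Finset.sum_const, smul_eq_mul, Finset.card_univ,
      ← Nat.card_eq_fintype_card, ih, Finset.prod_range_succ]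

omit [Fintype F] in
theorem spB_single (i k : Fin m) :
    spB m F (Pi.single (.inr i) 1) (Pi.single (.inl k) 1) = (if i = k then 1 else 0) ∧
    spB m F (Pi.single (.inl i) 1) (Pi.single (.inl k) 1) = 0 ∧
    spB m F (Pi.single (.inr i) 1) (Pi.single (.inr k) 1) = 0 := by
  refine ⟨?_, ?_, ?_⟩ <;> simp [spB_apply, Matrix.J, Matrix.one_apply]

omit [Fintype F] in
/-- A full frame is a basis. -/
theorem frame_linearIndependent {j : ℕ} (p : Frame m j F) :
    LinearIndependent F (Sum.elim p.1.1 p.1.2) := by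
  rw [Fintype.linearIndependent_iff]
  intro c hc
  simp only [Fintype.sum_sum_type, Sum.elim_inl, Sum.elim_inr] at hc
  have hfe : ∀ i k, spB m F (p.1.2 i) (p.1.1 k) = if i = k then -1 else 0 := fun i k => by
    rw [alt_swap spB_alt (p.1.1 k) (p.1.2 i), p.2.ef]
    rcases eq_or_ne i k with h | h
    · simp [h]
    · simp [h, h.symm]
  rintro (i | i)
  · simpa [map_sum, hfe, p.2.ff] using congrArg (spB m F (p.1.2 i)) hc
  · simpa [map_sum, p.2.ef, p.2.ee] using congrArg (spB m F (p.1.1 i)) hc

omit [Fintype F] in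
/-- Isometries correspond to full frames. -/
theorem card_spIso_eq_frame : Nat.card (SpIso m F) = Nat.card (Frame m m F) := by
  have hpres : ∀ (g : SpIso m F) u v, spB m F (g.1 u) (g.1 v) = spB m F u v :=
    fun g => g.2
  apply Nat.card_eq_of_bijective (fun g : SpIso m F =>
    (⟨(fun i => g.1 (Pi.single (.inr i) 1), fun i => g.1 (Pi.single (.inl i) 1)),
      ⟨fun i k => by rw [hpres, (spB_single i k).1],
        fun i k => by rw [hpres, (spB_single i k).2.2],
        fun i k => by rw [hpres, (spB_single i k).2.1]⟩⟩ : Frame m m F))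
  constructor
  · intro g g' h
    have h1 := congrArg (fun p : Frame m m F => p.1.1) h
    have h2 := congrArg (fun p : Frame m m F => p.1.2) h
    apply Subtype.ext
    apply LinearEquiv.toLinearMap_injective
    apply (Pi.basisFun F (Fin m ⊕ Fin m)).ext
    rintro (i | i)
    · simpa using congrFun h2 i
    · simpa using congrFun h1 i
  · intro p
    let b := Pi.basisFun F (Fin m ⊕ Fin m)
    let φ : (Fin m ⊕ Fin m → F) →ₗ[F] (Fin m ⊕ Fin m → F) := b.constr F (Sum.elim p.1.2 p.1.1)
    have hpres' : ∀ u v, spB m F (φ u) (φ v) = spB m F u v := by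
      suffices h : (spB m F).compl₁₂ φ φ = spB m F from fun u v =>
        (congrArg (fun f : LinearMap.BilinForm F (Fin m ⊕ Fin m → F) => f u v) h)
      refine LinearMap.ext_basis b b ?_
      have hb : ∀ s, φ (b s) = Sum.elim p.1.2 p.1.1 s := fun s => b.constr_basis F _ s
      rintro (i | i) (k | k) <;> simp only [LinearMap.compl₁₂_apply, hb] <;>
        simp only [Sum.elim_inl, Sum.elim_inr, b, Pi.basisFun_apply]
      · rw [p.2.ff, (spB_single i k).2.1]
      · rw [alt_swap spB_alt (p.1.1 k) (p.1.2 i), alt_swap spB_alt (Pi.single (.inr k) 1 : _ → F)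
          (Pi.single (.inl i) 1), p.2.ef, (spB_single k i).1]
      · rw [p.2.ef, (spB_single i k).1]
      · rw [p.2.ee, (spB_single i k).2.2]
    obtain ⟨g, hg, hgf⟩ := spB_trace.exists_equiv φ hpres'
    refine ⟨⟨g, hg⟩, Subtype.ext (Prod.ext (funext fun i => ?_) (funext fun i => ?_))⟩
    · show g _ = _
      rw [hgf, ← Pi.basisFun_apply]
      exact b.constr_basis F _ (.inr i)
    · show g _ = _
      rw [hgf, ← Pi.basisFun_apply]
      exact b.constr_basis F _ (.inl i)

omit [Fintype F] [Field F] in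
theorem sum_odd_eq_sq (m : ℕ) : ∑ i ∈ Finset.range m, (2 * (m - i) - 1) = m ^ 2 := by
  induction m with
  | zero => simp
  | succ k ih =>
    rw [Finset.sum_range_succ', Finset.sum_congr rfl (fun i _ => show 2 * (k + 1 - (i + 1)) - 1 = 2 * (k - i) - 1 by rw [Nat.add_sub_add_right]), ih]
    have : 2 * (k + 1 - 0) - 1 = 2 * k + 1 := by omega
    rw [this]; ring

theorem card_symplecticGroup : Nat.card (Matrix.symplecticGroup (Fin m) F) =
    Fintype.card F ^ (m ^ 2) * ∏ i ∈ Finset.range m, (Fintype.card F ^ (2 * (i + 1)) - 1) := by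
  rw [Nat.card_congr (spEquiv m F).toEquiv, card_spIso_eq_frame, card_frame,
    Finset.prod_mul_distrib, Finset.prod_pow_eq_pow_sum, mul_comm]
  congr 1
  · congr 1
    exact sum_odd_eq_sq m
  · rw [← Finset.prod_range_reflect]
    refine Finset.prod_congr rfl fun x hx => ?_
    have := Finset.mem_range.1 hx
    congr 3
    omega

end Cfsg.Agent.FormsLib
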