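import Cfsg.Agent.Lib.Forms.Orth

/-!
Involutions in the derived subgroup of the odd-dimensional orthogonal group of `x₀² + Σ xᵢ yᵢ`.
-/

set_option autoImplicit false

namespace Cfsg.Agent.FormsLib

open scoped Matrix

section General

variable {F V : Type*} [Field F] [AddCommGroup V] [Module F V] {Q : QuadraticForm F V}

/-- A reflection as an element of the orthogonal group. -/
noncomputable def oRefl (Q : QuadraticForm F V) (v : V) (hv : Q v ≠ 0) : oGroup Q :=
  ⟨refl Q v hv, refl_mem Q hv⟩

theorem oRefl_congr {v w : V} (hv : Q v ≠ 0) (hw : Q w ≠ 0) (h : v = w) :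
    oRefl Q v hv = oRefl Q w hw := Subtype.ext (refl_congr Q hv hw h)

theorem oRefl_inv {v : V} (hv : Q v ≠ 0) : (oRefl Q v hv)⁻¹ = oRefl Q v hv :=
  Subtype.ext (refl_inv Q hv)

theorem oRefl_conj {v : V} (hv : Q v ≠ 0) (g : oGroup Q) :
    g * oRefl Q v hv * g⁻¹ = oRefl Q (g.1 v) (by rw [g.2]; exact hv) :=
  Subtype.ext (refl_conj Q hv g.2)

/-- The product of two reflections in vectors of equal norm with non-singular difference
is a commutator. -/
theorem oRefl_mul_mem_commutator {u v : V} (hu : Q u ≠ 0) (hv : Q v ≠ 0) (h : Q u = Q v)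
    (hd : Q (u - v) ≠ 0) : oRefl Q u hu * oRefl Q v hv ∈ commutator (oGroup Q) := by
  have e : oRefl Q v hv = oRefl Q (u - v) hd * oRefl Q u hu * (oRefl Q (u - v) hd)⁻¹ := by
    rw [oRefl_conj]
    exact oRefl_congr _ _ (refl_sub_apply Q h hd).symm
  have hm := Subgroup.commutator_mem_commutator (Subgroup.mem_top (oRefl Q u hu))
    (Subgroup.mem_top (oRefl Q (u - v) hd))
  rw [commutatorElement_def, oRefl_inv hu] at hm
  rw [e]
  simpa [commutator_def, mul_assoc] using hm

theorem det_eq_one_of_mem_commutator {z : oGroup Q} (hz : z ∈ commutator (oGroup Q)) :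
    LinearEquiv.det z.1 = 1 :=
  (Abelianization.commutator_subset_ker (LinearEquiv.det.comp (oGroup Q).subtype)) hz

end General

variable {F : Type*} [Field F] {m : ℕ}

/-- The odd form as a quadratic map. -/
noncomputable def qOdd (m : ℕ) (F : Type*) [Field F] :
    QuadraticForm F (Unit ⊕ (Fin m ⊕ Fin m) → F) :=
  LinearMap.BilinMap.toQuadraticMap (LinearMap.mk₂ F
    (fun u v : Unit ⊕ (Fin m ⊕ Fin m) → F =>
      u (.inl ()) * v (.inl ()) + ∑ i, u (.inr (.inl i)) * v (.inr (.inr i)))
    (fun u u' v => by simp only [Pi.add_apply, add_mul, Finset.sum_add_distrib]; ring)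
    (fun c u v => by simp only [Pi.smul_apply, smul_eq_mul, mul_add, Finset.mul_sum]; ring_nf)
    (fun u v v' => by simp only [Pi.add_apply, mul_add, Finset.sum_add_distrib]; ring)
    (fun c u v => by simp only [Pi.smul_apply, smul_eq_mul, mul_add, Finset.mul_sum]; ring_nf))

theorem qOdd_apply (v : Unit ⊕ (Fin m ⊕ Fin m) → F) :
    qOdd m F v = v (.inl ()) * v (.inl ()) + ∑ i, v (.inr (.inl i)) * v (.inr (.inr i)) := rfl

theorem coe_qOdd : ⇑(qOdd m F) = Cfsg.quadFormOdd m F := by
  funext v
  rw [qOdd_apply, Cfsg.quadFormOdd, pow_two]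

/-- The diagonalising family of `qOdd`. -/
def oddW : Option (Fin m) ⊕ Fin m → Unit ⊕ (Fin m ⊕ Fin m) → F
  | .inl none => Pi.single (.inl ()) 1
  | .inl (some i) => Pi.single (.inr (.inl i)) 1 + Pi.single (.inr (.inr i)) 1
  | .inr i => Pi.single (.inr (.inl i)) 1 - Pi.single (.inr (.inr i)) 1

/-- The norms of the diagonalising family. -/
def oddD : Option (Fin m) ⊕ Fin m → F
  | .inl _ => 1
  | .inr _ => -1

theorem oddD_ne_zero (s : Option (Fin m) ⊕ Fin m) : (oddD s : F) ≠ 0 := by
  rcases s with s | s <;> simp [oddD]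

theorem qOdd_polar (u v : Unit ⊕ (Fin m ⊕ Fin m) → F) :
    QuadraticMap.polar (qOdd m F) u v = 2 * (u (.inl ()) * v (.inl ())) +
      ∑ i, (u (.inr (.inl i)) * v (.inr (.inr i)) + v (.inr (.inl i)) * u (.inr (.inr i))) := by
  simp only [QuadraticMap.polar, qOdd_apply, Pi.add_apply, add_mul, mul_add, Finset.sum_add_distrib]
  ring

theorem oddW_polar (s t : Option (Fin m) ⊕ Fin m) :
    QuadraticMap.polar (qOdd m F) (oddW s) (oddW t) = if s = t then 2 * oddD s else 0 := by
  have hsum : ∀ (i k : Fin m) (a b : F),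
      (∑ x, (if x = i then a else 0) * (if x = k then b else 0)) = if i = k then a * b else 0 := by
    intro i k a b
    simp [eq_comm]
  rcases s with (_ | i) | i <;> rcases t with (_ | k) | k <;>
    rw [qOdd_polar] <;> simp [oddW, oddD, Pi.single_apply, Finset.sum_add_distrib, hsum] <;>
    (try split_ifs) <;> (try ring) <;> (try simp_all)

theorem qOdd_oddW (h2 : (2 : F) ≠ 0) (s : Option (Fin m) ⊕ Fin m) :
    qOdd m F (oddW s) = oddD s := by
  have h := oddW_polar (F := F) s s
  rw [polar_self', if_pos rfl] at h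
  exact mul_left_cancel₀ h2 h

theorem qOdd_oddW_ne (h2 : (2 : F) ≠ 0) (s : Option (Fin m) ⊕ Fin m) : qOdd m F (oddW s) ≠ 0 := by
  rw [qOdd_oddW h2]; exact oddD_ne_zero s

/-- The diagonalising basis. -/
noncomputable def oddBasis (h2 : (2 : F) ≠ 0) :
    Module.Basis (Option (Fin m) ⊕ Fin m) F (Unit ⊕ (Fin m ⊕ Fin m) → F) :=
  basisOfLinearIndependentOfCardEqFinrank (b := oddW) (by
    rw [Fintype.linearIndependent_iff]
    intro c hc s
    have h := congrArg (QuadraticMap.polarBilin (qOdd m F) (oddW s)) hc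
    simp only [map_sum, map_smul, QuadraticMap.polarBilin_apply_apply, oddW_polar, map_zero,
      smul_eq_mul, mul_ite, mul_zero, Finset.sum_ite_eq, Finset.mem_univ, if_true] at h
    exact (mul_eq_zero.1 h).resolve_right (mul_ne_zero h2 (oddD_ne_zero s)))
    (by simp [Module.finrank_pi]; omega)

theorem oddBasis_apply (h2 : (2 : F) ≠ 0) (s : Option (Fin m) ⊕ Fin m) :
    oddBasis h2 s = oddW s := by
  simp [oddBasis]

theorem qOdd_nondeg (h2 : (2 : F) ≠ 0) : (QuadraticMap.polarBilin (qOdd m F)).Nondegenerate := by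
  have hl : ∀ v, (∀ w, QuadraticMap.polarBilin (qOdd m F) v w = 0) → v = 0 := by
    intro v hv
    refine (oddBasis h2).ext_elem fun s => ?_
    have h := hv (oddBasis h2 s)
    nth_rewrite 1 [← (oddBasis h2).sum_repr v] at h
    simp only [map_sum, map_smul, LinearMap.coe_sum, Finset.sum_apply, LinearMap.smul_apply,
      QuadraticMap.polarBilin_apply_apply, oddBasis_apply, oddW_polar, smul_eq_mul, mul_ite,
      mul_zero, Finset.sum_ite_eq', Finset.mem_univ, if_true] at h
    simpa using (mul_eq_zero.1 h).resolve_right (mul_ne_zero h2 (oddD_ne_zero s))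
  refine ⟨hl, fun v hv => hl v fun w => ?_⟩
  show QuadraticMap.polar _ v w = 0
  rw [QuadraticMap.polar_comm]
  exact hv w

/-- Reflection in a member of the diagonalising family. -/
noncomputable def oddR (h2 : (2 : F) ≠ 0) (s : Option (Fin m) ⊕ Fin m) : oGroup (qOdd m F) :=
  oRefl (qOdd m F) (oddW s) (qOdd_oddW_ne h2 s)

theorem oddR_apply (h2 : (2 : F) ≠ 0) (s t : Option (Fin m) ⊕ Fin m) :
    (oddR h2 s).1 (oddW t) = if s = t then -oddW t else oddW t := by
  by_cases h : s = t
  · subst h
    rw [if_pos rfl]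
    exact refl_self _ (qOdd_oddW_ne h2 s)
  · rw [if_neg h]
    exact refl_fix _ (qOdd_oddW_ne h2 s) (by rw [oddW_polar, if_neg (fun hh => h hh.symm)])

theorem oddR_pair_mem (h2 : (2 : F) ≠ 0) {s t : Option (Fin m) ⊕ Fin m} (hst : s ≠ t)
    (hd : (oddD s : F) = oddD t) : oddR h2 s * oddR h2 t ∈ commutator (oGroup (qOdd m F)) := by
  refine oRefl_mul_mem_commutator _ _ (by rw [qOdd_oddW h2, qOdd_oddW h2, hd]) ?_
  rw [sub_eq_add_neg, quad_add, QuadraticMap.map_neg, QuadraticMap.polar_neg_right, oddW_polar,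
    if_neg hst, qOdd_oddW h2, qOdd_oddW h2, hd, neg_zero, add_zero, ← two_mul]
  exact mul_ne_zero h2 (oddD_ne_zero t)

/-- A different member of the same class, avoiding any given third member. -/
theorem exists_third (hm : 3 ≤ m) (s l : Option (Fin m) ⊕ Fin m) :
    ∃ t, t ≠ s ∧ t ≠ l ∧ (oddD t : F) = oddD s := by
  classical
  rcases s with s | s
  · obtain ⟨t, ht⟩ : ∃ t : Option (Fin m), t ∉ ({s} ∪ (Sum.elim (fun x => {x}) (fun _ => ∅) l) :
        Finset (Option (Fin m))) := by
      by_contra h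
      push Not at h
      have h1 := Finset.card_le_card (fun x (_ : x ∈ (Finset.univ : Finset (Option (Fin m)))) => h x)
      simp only [Finset.card_univ, Fintype.card_option, Fintype.card_fin] at h1
      have h3 := Finset.card_union_le {s}
        (Sum.elim (fun x => ({x} : Finset (Option (Fin m)))) (fun _ => ∅) l)
      rcases l with l | l <;> simp at h1 h3 <;> omega
    refine ⟨.inl t, fun h => ht ?_, fun h => ht ?_, rfl⟩
    · simp [Sum.inl.inj h]
    · subst h; simp
  · obtain ⟨t, ht⟩ : ∃ t : Fin m, t ∉ ({s} ∪ (Sum.elim (fun _ => ∅) (fun x => {x}) l) :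
        Finset (Fin m)) := by
      by_contra h
      push Not at h
      have h1 := Finset.card_le_card (fun x (_ : x ∈ (Finset.univ : Finset (Fin m))) => h x)
      simp only [Finset.card_univ, Fintype.card_fin] at h1
      have h3 := Finset.card_union_le {s}
        (Sum.elim (fun _ => (∅ : Finset (Fin m))) (fun x => {x}) l)
      rcases l with l | l <;> simp at h1 h3 <;> omega
    refine ⟨.inr t, fun h => ht ?_, fun h => ht ?_, rfl⟩
    · simp [Sum.inr.inj h]
    · subst h; simp

theorem oddR_repr (h2 : (2 : F) ≠ 0) {s l : Option (Fin m) ⊕ Fin m} (h : s ≠ l)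
    (v : Unit ⊕ (Fin m ⊕ Fin m) → F) :
    (oddBasis h2).repr ((oddR h2 s).1 v) l = (oddBasis h2).repr v l := by
  show (oddBasis h2).repr (refl (qOdd m F) (oddW s) (qOdd_oddW_ne h2 s) v) l = _
  rw [refl_apply, map_sub, map_smul, Finsupp.sub_apply, Finsupp.smul_apply,
    show (oddBasis h2).repr (oddW s) = Finsupp.single s 1 from by
      rw [← oddBasis_apply h2 s, Module.Basis.repr_self]]
  simp [h]

/-- The derived subgroup has trivial centre. -/
theorem center_commutator_oOdd (hm : 3 ≤ m) (h2 : (2 : F) ≠ 0) {z : oGroup (qOdd m F)}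
    (hz : z ∈ commutator (oGroup (qOdd m F)))
    (hcomm : ∀ g ∈ commutator (oGroup (qOdd m F)), g * z = z * g) : z = 1 := by
  classical
  set b := oddBasis (m := m) h2
  have hb : ∀ s, b s = oddW s := oddBasis_apply h2
  have happ : ∀ (g : oGroup (qOdd m F)), g ∈ commutator (oGroup (qOdd m F)) → ∀ v, g.1 (z.1 v) = z.1 (g.1 v) :=
    fun g hg v => congrArg (fun k : oGroup (qOdd m F) => k.1 v) (hcomm g hg)
  -- diagonal
  have hdiag : ∀ s, ∃ a : F, z.1 (oddW s) = a • oddW s := by
    intro s
    refine ⟨b.repr (z.1 (oddW s)) s, b.ext_elem fun l => ?_⟩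
    rw [map_smul, ← hb s, b.repr_self, hb s]
    by_cases hl : l = s
    · subst hl; simp
    obtain ⟨t, hts, htl, hd⟩ := exists_third (F := F) hm s l
    have h := happ _ (oddR_pair_mem h2 hts.symm hd.symm) (oddW s)
    simp only [Subgroup.coe_mul, LinearEquiv.mul_apply, oddR_apply, if_neg hts, if_pos, map_neg] at h
    have h' := congrArg (fun v => b.repr v l) h
    have hfix : ∀ v, b.repr ((oddR h2 s).1 ((oddR h2 t).1 v)) l = b.repr v l := fun v => by
      rw [oddR_repr h2 (Ne.symm hl), oddR_repr h2 htl]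
    simp only [hfix, map_neg, Finsupp.coe_neg, Pi.neg_apply] at h'
    have h4 : (2 : F) * b.repr (z.1 (oddW s)) l = 0 := by linear_combination h'
    simp [(mul_eq_zero.1 h4).resolve_left h2, Ne.symm hl]
  choose a ha using hdiag
  -- constant on each class
  have hclass : ∀ s k, s ≠ k → (oddD s : F) = oddD k → a s = a k := by
    intro s k hsk hdk
    obtain ⟨t, hts, htk, hdt⟩ := exists_third (F := F) hm s k
    have hne : ∀ {x y : Option (Fin m) ⊕ Fin m}, x ≠ y → (oddD x : F) = oddD y →
        (qOdd m F) (oddW x - oddW y) ≠ 0 := fun {x y} hxy hd => by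
      rw [sub_eq_add_neg, quad_add, QuadraticMap.map_neg, QuadraticMap.polar_neg_right, oddW_polar,
        if_neg hxy, qOdd_oddW h2, qOdd_oddW h2, hd, neg_zero, add_zero, ← two_mul]
      exact mul_ne_zero h2 (oddD_ne_zero _)
    let h₁ := oRefl (qOdd m F) _ (hne hts.symm hdt.symm)
    let h₂ := oRefl (qOdd m F) _ (hne htk (hdt.trans hdk))
    have e₁ : h₁.1 (oddW s) = oddW t :=
      refl_sub_apply (qOdd m F) (by rw [qOdd_oddW h2, qOdd_oddW h2, hdt]) (hne hts.symm hdt.symm)
    have e₂ : h₂.1 (oddW t) = oddW k :=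
      refl_sub_apply (qOdd m F) (by rw [qOdd_oddW h2, qOdd_oddW h2, hdt, hdk]) (hne htk (hdt.trans hdk))
    have f₂ : h₂.1 (oddW s) = oddW s := refl_fix (qOdd m F) (hne htk (hdt.trans hdk)) (by
      rw [QuadraticMap.polar_sub_right, oddW_polar, oddW_polar, if_neg hts.symm, if_neg hsk,
        sub_zero])
    have f₁ : h₁.1 (oddW k) = oddW k := refl_fix (qOdd m F) (hne hts.symm hdt.symm) (by
      rw [QuadraticMap.polar_sub_right, oddW_polar, oddW_polar, if_neg hsk.symm, if_neg htk.symm,
        sub_zero])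
    have hm' := Subgroup.commutator_mem_commutator (Subgroup.mem_top h₁) (Subgroup.mem_top h₂)
    rw [commutatorElement_def, oRefl_inv, oRefl_inv, ← commutator_def] at hm'
    have e : (h₁ * h₂ * h₁ * h₂).1 (oddW s) = oddW k := by
      simp only [Subgroup.coe_mul, LinearEquiv.mul_apply, f₂, e₁, e₂, f₁]
    have h := happ _ hm' (oddW s)
    rw [ha, map_smul, e, ha] at h
    have h' := congrArg (fun v => b.repr v k) h
    simpa [← hb] using h'
  -- the two classes agree
  let s1 : Option (Fin m) ⊕ Fin m := .inl none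
  let t1 : Option (Fin m) ⊕ Fin m := .inl (some ⟨0, by omega⟩)
  let k1 : Option (Fin m) ⊕ Fin m := .inl (some ⟨1, by omega⟩)
  let b1 : Option (Fin m) ⊕ Fin m := .inr ⟨0, by omega⟩
  have h_st : s1 ≠ t1 := by simp [s1, t1]
  have h_sk : s1 ≠ k1 := by simp [s1, k1]
  have h_tk : t1 ≠ k1 := by simp [t1, k1]
  have h_sb : s1 ≠ b1 := by simp [s1, b1]
  have h_tb : t1 ≠ b1 := by simp [t1, b1]
  have h_kb : k1 ≠ b1 := by simp [k1, b1]
  set u := oddW s1 + oddW t1 + oddW b1 (F := F) with hu
  have hQu : (qOdd m F) u = 1 := by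
    simp only [hu, quad_add, QuadraticMap.polar_add_left, oddW_polar, qOdd_oddW h2,
      if_neg h_st, if_neg h_sb, if_neg h_tb]
    simp [s1, t1, b1, oddD]
  have hpk : QuadraticMap.polar (qOdd m F) u (oddW k1) = 0 := by
    simp [hu, QuadraticMap.polar_add_left, oddW_polar, h_sk, h_tk, h_kb.symm]
  have hQk : (qOdd m F) (oddW k1) = 1 := qOdd_oddW h2 k1
  have hd : (qOdd m F) (u - oddW k1) ≠ 0 := by
    rw [sub_eq_add_neg, quad_add, QuadraticMap.map_neg, QuadraticMap.polar_neg_right, hpk, hQu, hQk,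
      neg_zero, add_zero, one_add_one_eq_two]
    exact h2
  have hmem := oRefl_mul_mem_commutator (Q := qOdd m F) (u := u) (v := oddW k1)
    (by rw [hQu]; exact one_ne_zero) (qOdd_oddW_ne h2 k1) (hQu.trans hQk.symm) hd
  have h := happ _ hmem (oddW b1)
  have himg : (oRefl (qOdd m F) u (by rw [hQu]; exact one_ne_zero) * oRefl (qOdd m F) (oddW k1) (qOdd_oddW_ne h2 k1)).1
      (oddW b1) = oddW b1 + (2 : F) • u := by
    show refl (qOdd m F) u (by rw [hQu]; exact one_ne_zero) (refl (qOdd m F) (oddW k1) (qOdd_oddW_ne h2 k1) (oddW b1)) = _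
    rw [refl_fix (qOdd m F) (qOdd_oddW_ne h2 k1) (by rw [oddW_polar, if_neg h_kb.symm]), refl_apply, hQu]
    simp [hu, QuadraticMap.polar_add_right, oddW_polar, h_sb.symm, h_tb.symm]
    simp [b1, oddD, qOdd_oddW h2]
    module
  rw [ha, map_smul, himg, map_add, map_smul, hu, map_add, map_add, ha, ha, ha] at h
  have hb1 := congrArg (fun v => b.repr v t1) h
  have hbe : ∀ s, b.repr (oddW s) = Finsupp.single s 1 := fun s => by rw [← hb s, b.repr_self]
  simp [hbe, h_st, h_tb.symm] at hb1
  have hab : a b1 = a t1 := mul_left_cancel₀ h2 (by linear_combination hb1)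
  have hall : ∀ s, a s = a t1 := by
    intro s
    rcases s with s | s
    · by_cases hh : (.inl s : Option (Fin m) ⊕ Fin m) = t1
      · rw [hh]
      · exact hclass _ _ hh rfl
    · by_cases hh : (.inr s : Option (Fin m) ⊕ Fin m) = b1
      · rw [hh, hab]
      · rw [← hab]; exact hclass _ _ hh rfl
  have hz' : ∀ v, z.1 v = a t1 • v := by
    intro v
    have : z.1.toLinearMap = a t1 • LinearMap.id := b.ext fun s => by simp [hb, ha, hall s]
    simpa using congrArg (fun f : _ →ₗ[F] _ => f v) this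
  have hsq : a t1 * a t1 = 1 := by
    have h := z.2 (oddW t1)
    rw [hz', QuadraticMap.map_smul, smul_eq_mul] at h
    exact mul_right_cancel₀ (qOdd_oddW_ne h2 t1) (by linear_combination h)
  have hdet := congrArg Units.val (det_eq_one_of_mem_commutator hz)
  rw [LinearEquiv.coe_det, show z.1.toLinearMap = a t1 • LinearMap.id from LinearMap.ext hz',
    LinearMap.det_smul, LinearMap.det_id, mul_one, Module.finrank_eq_card_basis b,
    Units.val_one] at hdet
  simp only [Fintype.card_sum, Fintype.card_option, Fintype.card_fin] at hdet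
  have : a t1 ^ (m + 1 + m) = (a t1 * a t1) ^ m * a t1 := by
    rw [← pow_two, ← pow_mul, ← pow_succ]
    congr 1
    omega
  rw [this, hsq, one_pow, one_mul] at hdet
  exact Subtype.ext (LinearEquiv.ext fun v => by simp [hz', hdet])

/-- First member of the `j`-th pair. -/
def pairS (j : ℕ) (hj : j < m) : Option (Fin m) ⊕ Fin m :=
  if j % 2 = 0 then .inl (if h : j = 0 then none else some ⟨j - 1, by omega⟩)
  else .inr ⟨j - 1, by omega⟩

/-- Second member of the `j`-th pair. -/
def pairT (j : ℕ) (hj : j < m) : Option (Fin m) ⊕ Fin m :=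
  if j % 2 = 0 then .inl (some ⟨j, hj⟩) else .inr ⟨j, hj⟩

theorem pair_facts {i j : ℕ} (hi : i < m) (hj : j < m) :
    pairS i hi ≠ pairT j hj ∧ (pairS i hi = pairS j hj → i = j) ∧
      (pairT i hi = pairT j hj → i = j) ∧ (oddD (pairS i hi) : F) = oddD (pairT i hi) := by
  unfold pairS pairT
  refine ⟨?_, ?_, ?_, ?_⟩ <;> split_ifs <;> simp [oddD, Fin.ext_iff] <;> omega

/-- Involution classes of the derived subgroup, indexed by `1..m`. -/
theorem exists_involution (h2 : (2 : F) ≠ 0) (k : ℕ) (hk : k ≤ m) :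
    ∃ g : oGroup (qOdd m F), g ∈ commutator (oGroup (qOdd m F)) ∧ g * g = 1 ∧
      Module.finrank F (LinearMap.range (g.1.toLinearMap - LinearMap.id)) = 2 * k := by
  classical
  suffices h : ∃ g : oGroup (qOdd m F), ∃ S : Finset (Option (Fin m) ⊕ Fin m),
      g ∈ commutator (oGroup (qOdd m F)) ∧ S.card = 2 * k ∧
      (∀ s ∈ S, ∃ j, ∃ hj : j < m, j < k ∧ (s = pairS j hj ∨ s = pairT j hj)) ∧
      ∀ s, g.1 (oddW s) = if s ∈ S then -oddW s else oddW s by
    obtain ⟨g, S, hg, hS, -, hgs⟩ := h
    refine ⟨g, hg, ?_, ?_⟩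
    · refine Subtype.ext (LinearEquiv.toLinearMap_injective ((oddBasis h2).ext fun s => ?_))
      show g.1 (g.1 _) = _
      rw [oddBasis_apply, hgs]
      split_ifs with hh
      · rw [map_neg, hgs, if_pos hh, neg_neg]; rfl
      · rw [hgs, if_neg hh]; rfl
    · have hrange : LinearMap.range (g.1.toLinearMap - LinearMap.id) =
          Submodule.span F (Set.range fun s : S => oddW (F := F) s.1) := by
        rw [LinearMap.range_eq_map, ← (oddBasis (m := m) h2).span_eq, Submodule.map_span]
        apply le_antisymm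
        · rw [Submodule.span_le]
          rintro _ ⟨_, ⟨s, rfl⟩, rfl⟩
          simp only [LinearMap.sub_apply, LinearMap.id_apply, LinearEquiv.coe_coe, oddBasis_apply,
            hgs, SetLike.mem_coe]
          split_ifs with hh
          · rw [show -oddW (F := F) s - oddW s = (-2 : F) • oddW s by module]
            exact Submodule.smul_mem _ _ (Submodule.subset_span ⟨⟨s, hh⟩, rfl⟩)
          · rw [sub_self]; exact zero_mem _
        · rw [Submodule.span_le]
          rintro _ ⟨s, rfl⟩
          have h : oddW (F := F) s.1 = (-2 : F)⁻¹ •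
              ((g.1.toLinearMap - LinearMap.id (R := F) (M := Unit ⊕ (Fin m ⊕ Fin m) → F)) (oddBasis h2 s.1)) := by
            simp only [LinearMap.sub_apply, LinearMap.id_apply, LinearEquiv.coe_coe, oddBasis_apply,
              hgs, if_pos s.2]
            rw [show -oddW (F := F) s.1 - oddW s.1 = (-2 : F) • oddW s.1 by module,
              inv_smul_smul₀ (neg_ne_zero.2 h2)]
          show oddW (F := F) s.1 ∈ _
          rw [h]
          exact Submodule.smul_mem _ _ (Submodule.subset_span ⟨_, ⟨s.1, rfl⟩, rfl⟩)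
      rw [hrange, finrank_span_eq_card, Fintype.card_coe, hS]
      have := ((oddBasis (m := m) h2).linearIndependent).comp (fun s : S => s.1) Subtype.val_injective
      simpa [Function.comp_def, oddBasis_apply] using this
  induction k with
  | zero => exact ⟨1, ∅, one_mem _, rfl, by simp, fun s => by simp⟩
  | succ k ih =>
    obtain ⟨g, S, hg, hS, hSm, hgs⟩ := ih (by omega)
    have hk' : k < m := by omega
    set s := pairS k hk'
    set t := pairT k hk'
    have hst : s ≠ t := (pair_facts (F := F) hk' hk').1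
    have hsS : s ∉ S := fun h => by
      obtain ⟨j, hj, hjk, e | e⟩ := hSm s h
      · exact absurd ((pair_facts (F := F) hk' hj).2.1 e) (by omega)
      · exact (pair_facts (F := F) hk' hj).1 e
    have htS : t ∉ S := fun h => by
      obtain ⟨j, hj, hjk, e | e⟩ := hSm t h
      · exact (pair_facts (F := F) hj hk').1 e.symm
      · exact absurd ((pair_facts (F := F) hk' hj).2.2.1 e) (by omega)
    refine ⟨g * (oddR h2 s * oddR h2 t), insert s (insert t S),
      mul_mem hg (oddR_pair_mem h2 hst (pair_facts hk' hk').2.2.2), ?_, ?_, ?_⟩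
    · rw [Finset.card_insert_of_notMem (by simp [hst, hsS]), Finset.card_insert_of_notMem htS, hS]
      ring
    · intro x hx
      simp only [Finset.mem_insert] at hx
      rcases hx with rfl | rfl | hx
      · exact ⟨k, hk', by omega, Or.inl rfl⟩
      · exact ⟨k, hk', by omega, Or.inr rfl⟩
      · obtain ⟨j, hj, hjk, e⟩ := hSm x hx
        exact ⟨j, hj, by omega, e⟩
    · intro x
      simp only [Subgroup.coe_mul, LinearEquiv.mul_apply, oddR_apply]
      by_cases hxt : t = x
      · subst hxt
        simp [hst, oddR_apply, hgs, htS, hst.symm]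
      · rw [if_neg hxt, oddR_apply]
        by_cases hxs : s = x
        · subst hxs
          simp [hgs, hsS]
        · simp [hgs, hxs, hxt, Ne.symm hxs, Ne.symm hxt]

end Cfsg.Agent.FormsLib
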