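import Cfsg.Agent.Lib.Forms.Sp
import Mathlib

/-!
Perfectness, primitivity and simplicity of the symplectic groups.
-/

set_option autoImplicit false

namespace Cfsg.Agent.FormsLib

open scoped LinearAlgebra.Projectivization Pointwise

variable {F : Type*} [Field F] {m : ℕ}

theorem spTau_mul (w : Fin m ⊕ Fin m → F) (c d : F) : spTau w c * spTau w d = spTau w (c + d) :=
  Subtype.ext (tau_mul spB_alt w c d)

theorem spTau_zero (w : Fin m ⊕ Fin m → F) : spTau w (0 : F) = 1 :=
  Subtype.ext (tau_zero spB_alt w)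

theorem spTau_zero_vec (c : F) : spTau (0 : Fin m ⊕ Fin m → F) c = 1 :=
  Subtype.ext (LinearEquiv.ext fun v => by simp)

theorem spTau_inv (w : Fin m ⊕ Fin m → F) (c : F) : (spTau w c)⁻¹ = spTau w (-c) :=
  Subtype.ext (tau_inv spB_alt w c)

theorem spTau_conj (g : SpIso m F) (w : Fin m ⊕ Fin m → F) (c : F) :
    g * spTau w c * g⁻¹ = spTau (g.1 w) c :=
  Subtype.ext (tau_conj spB_alt g.2 w c)

theorem spTau_smul (w : Fin m ⊕ Fin m → F) (a c : F) : spTau (a • w) c = spTau w (a * a * c) :=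
  Subtype.ext (tau_smul spB_alt w a c)

theorem spIso_exists_map_vec {v w : Fin m ⊕ Fin m → F} (hv : v ≠ 0) (hw : w ≠ 0) :
    ∃ g : SpIso m F, g.1 v = w := by
  obtain ⟨g, hg, h⟩ := exists_map_vec spB_alt spB_nondeg hv hw
  exact ⟨⟨g, tauGroup_le _ hg⟩, h⟩

theorem spTau_mem_commutator_of_sq_ne_one {a : F} (ha : a ≠ 0) (ha2 : a * a ≠ 1)
    (v : Fin m ⊕ Fin m → F) (c : F) : spTau v c ∈ commutator (SpIso m F) := by
  by_cases hv : v = 0
  · rw [hv, spTau_zero_vec]
    exact one_mem _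
  have hne : a * a - 1 ≠ 0 := sub_ne_zero.2 ha2
  set d := c / (a * a - 1) with hd
  obtain ⟨g, hg⟩ := spIso_exists_map_vec hv (smul_ne_zero ha hv)
  have h := Subgroup.commutator_mem_commutator (Subgroup.mem_top g) (Subgroup.mem_top (spTau v d))
  rw [commutatorElement_def, spTau_conj, hg, spTau_smul, spTau_inv, spTau_mul] at h
  have hc : a * a * d + -d = c := by
    rw [show a * a * d + -d = (a * a - 1) * d by ring, hd, mul_div_cancel₀ _ hne]
  rwa [hc] at h

/-- The class of a transvection modulo commutators does not depend on the vector. -/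
theorem mk_spTau_eq {v w : Fin m ⊕ Fin m → F} (hv : v ≠ 0) (hw : w ≠ 0) (c : F) :
    Abelianization.of (spTau v c) = Abelianization.of (spTau w c) := by
  obtain ⟨g, hg⟩ := spIso_exists_map_vec hv hw
  rw [← hg, ← spTau_conj, map_mul, map_mul, map_inv, mul_comm (Abelianization.of g),
    mul_inv_cancel_right]

theorem spTau_prod_four {u v : Fin m ⊕ Fin m → F} (h3 : (3 : F) = 0) (huv : spB m F u v = 0)
    (c : F) : spTau u c * spTau v c * spTau (u + v) c * spTau (u - v) c = 1 := by
  refine Subtype.ext (LinearEquiv.ext fun x => ?_)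
  have hvu : spB m F v u = 0 := by rw [alt_swap spB_alt u v, huv, neg_zero]
  simp [spB_alt u, spB_alt v, huv, hvu]
  linear_combination (norm := module)
    congrArg (fun t : F => t • ((c * spB m F x u) • u + (c * spB m F x v) • v)) h3

theorem spTau_prod_seven {u v w : Fin m ⊕ Fin m → F} (h2 : (2 : F) = 0) (huv : spB m F u v = 0)
    (huw : spB m F u w = 0) (hvw : spB m F v w = 0) (c : F) :
    spTau u c * spTau v c * spTau w c * spTau (u + v) c * spTau (u + w) c * spTau (v + w) c *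
      spTau (u + v + w) c = 1 := by
  refine Subtype.ext (LinearEquiv.ext fun x => ?_)
  have hvu : spB m F v u = 0 := by rw [alt_swap spB_alt u v, huv, neg_zero]
  have hwu : spB m F w u = 0 := by rw [alt_swap spB_alt u w, huw, neg_zero]
  have hwv : spB m F w v = 0 := by rw [alt_swap spB_alt v w, hvw, neg_zero]
  simp [spB_alt u, spB_alt v, spB_alt w, huv, hvu, huw, hwu, hvw, hwv]
  linear_combination (norm := module) congrArg (fun t : F => t •
    ((c * (2 * spB m F x u + spB m F x v + spB m F x w)) • u +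
      (c * (spB m F x u + 2 * spB m F x v + spB m F x w)) • v +
      (c * (spB m F x u + spB m F x v + 2 * spB m F x w)) • w)) h2

theorem spB_single_inl (i j : Fin m) :
    spB m F (Pi.single (.inl i) 1) (Pi.single (.inl j) 1) = 0 := by
  simp [spB_apply, Matrix.J]

/-- The perfectness criterion. -/
theorem commutator_spIso_eq_top
    (h : (∃ a : F, a ≠ 0 ∧ a * a ≠ 1) ∨ ((3 : F) = 0 ∧ 2 ≤ m) ∨ ((2 : F) = 0 ∧ 3 ≤ m)) :
    commutator (SpIso m F) = ⊤ := by
  rw [eq_top_iff, ← closure_spTau, Subgroup.closure_le]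
  rintro g ⟨v, c, rfl⟩
  rcases h with ⟨a, ha, ha2⟩ | ⟨h3, hm⟩ | ⟨h2, hm⟩
  · exact spTau_mem_commutator_of_sq_ne_one ha ha2 v c
  all_goals
    by_cases hv : v = 0
    · rw [hv, spTau_zero_vec]
      exact one_mem _
    show spTau v c ∈ commutator (SpIso m F)
    rw [← Abelianization.ker_of, MonoidHom.mem_ker]
  · let e₀ : Fin m ⊕ Fin m → F := Pi.single (.inl ⟨0, by omega⟩) 1
    let e₁ : Fin m ⊕ Fin m → F := Pi.single (.inl ⟨1, by omega⟩) 1
    have hne : ∀ (z : Fin m ⊕ Fin m → F) (i : Fin m ⊕ Fin m), z i ≠ 0 → z ≠ 0 :=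
      fun z i hi hz => hi (by simp [hz])
    have n0 : e₀ ≠ 0 := hne _ (.inl ⟨0, by omega⟩) (by simp [e₀])
    have n1 : e₁ ≠ 0 := hne _ (.inl ⟨1, by omega⟩) (by simp [e₁])
    have n2 : e₀ + e₁ ≠ 0 := hne _ (.inl ⟨0, by omega⟩) (by simp [e₀, e₁])
    have n3 : e₀ - e₁ ≠ 0 := hne _ (.inl ⟨0, by omega⟩) (by simp [e₀, e₁])
    have h4 := congrArg Abelianization.of (spTau_prod_four (u := e₀) (v := e₁) h3
      (spB_single_inl _ _) c)
    simp only [map_mul, map_one, mk_spTau_eq n0 hv, mk_spTau_eq n1 hv, mk_spTau_eq n2 hv,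
      mk_spTau_eq n3 hv] at h4
    have h3' : spTau v c * spTau v c * spTau v c = 1 := by
      rw [spTau_mul, spTau_mul, ← spTau_zero v]
      congr 1
      linear_combination c * h3
    have h3'' := congrArg Abelianization.of h3'
    simp only [map_mul, map_one] at h3''
    rwa [h3'', one_mul] at h4
  · let e₀ : Fin m ⊕ Fin m → F := Pi.single (.inl ⟨0, by omega⟩) 1
    let e₁ : Fin m ⊕ Fin m → F := Pi.single (.inl ⟨1, by omega⟩) 1
    let e₂ : Fin m ⊕ Fin m → F := Pi.single (.inl ⟨2, by omega⟩) 1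
    have hne : ∀ (z : Fin m ⊕ Fin m → F) (i : Fin m ⊕ Fin m), z i ≠ 0 → z ≠ 0 :=
      fun z i hi hz => hi (by simp [hz])
    have n0 : e₀ ≠ 0 := hne _ (.inl ⟨0, by omega⟩) (by simp [e₀])
    have n1 : e₁ ≠ 0 := hne _ (.inl ⟨1, by omega⟩) (by simp [e₁])
    have n2 : e₂ ≠ 0 := hne _ (.inl ⟨2, by omega⟩) (by simp [e₂])
    have n01 : e₀ + e₁ ≠ 0 := hne _ (.inl ⟨0, by omega⟩) (by simp [e₀, e₁])
    have n02 : e₀ + e₂ ≠ 0 := hne _ (.inl ⟨0, by omega⟩) (by simp [e₀, e₂])
    have n12 : e₁ + e₂ ≠ 0 := hne _ (.inl ⟨1, by omega⟩) (by simp [e₁, e₂])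
    have n012 : e₀ + e₁ + e₂ ≠ 0 := hne _ (.inl ⟨0, by omega⟩) (by simp [e₀, e₁, e₂])
    have h7 := congrArg Abelianization.of (spTau_prod_seven (u := e₀) (v := e₁) (w := e₂) h2
      (spB_single_inl _ _) (spB_single_inl _ _) (spB_single_inl _ _) c)
    simp only [map_mul, map_one, mk_spTau_eq n0 hv, mk_spTau_eq n1 hv, mk_spTau_eq n2 hv,
      mk_spTau_eq n01 hv, mk_spTau_eq n02 hv, mk_spTau_eq n12 hv, mk_spTau_eq n012 hv] at h7
    have h2' : spTau v c * spTau v c = 1 := by
      rw [spTau_mul, ← spTau_zero v]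
      congr 1
      linear_combination c * h2
    have h2'' := congrArg Abelianization.of h2'
    simp only [map_mul, map_one] at h2''
    simpa [h2'', ← mul_assoc] using h7

theorem perfect_hyp [Fintype F]
    (h : 3 ≤ m ∨ (m = 2 ∧ 3 ≤ Fintype.card F) ∨ 4 ≤ Fintype.card F) :
    (∃ a : F, a ≠ 0 ∧ a * a ≠ 1) ∨ ((3 : F) = 0 ∧ 2 ≤ m) ∨ ((2 : F) = 0 ∧ 3 ≤ m) := by
  classical
  by_cases h4 : ∃ a : F, a ≠ 0 ∧ a * a ≠ 1
  · exact Or.inl h4
  push Not at h4
  have hsub : (Finset.univ : Finset F) ⊆ {0, 1, -1} := fun a _ => by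
    by_cases ha : a = 0
    · simp [ha]
    · rcases mul_self_eq_one_iff.1 (h4 a ha) with h1 | h1 <;> simp [h1]
  have hle : Fintype.card F ≤ 3 := (Finset.card_le_card hsub).trans Finset.card_le_three
  have hcast : ((Fintype.card F : ℕ) : F) = 0 := FiniteField.cast_card_eq_zero F
  have h1 : 2 ≤ Fintype.card F := Fintype.one_lt_card
  refine Or.inr ?_
  interval_cases hq : Fintype.card F
  · exact Or.inr ⟨by simpa using hcast, by omega⟩
  · exact Or.inl ⟨by simpa using hcast, by omega⟩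

theorem sp_smul_mk (g : SpIso m F) {v : Fin m ⊕ Fin m → F} (hv : v ≠ 0) :
    g • Projectivization.mk F v hv =
      Projectivization.mk F (g.1 v) ((g.1.map_ne_zero_iff).2 hv) := rfl

/-- Transvections on a point of projective space. -/
noncomputable def pointTau (p : ℙ F (Fin m ⊕ Fin m → F)) : Subgroup (SpIso m F) where
  carrier := {g | ∃ c, g = spTau p.rep c}
  one_mem' := ⟨0, (spTau_zero _).symm⟩
  mul_mem' := by rintro _ _ ⟨c, rfl⟩ ⟨d, rfl⟩; exact ⟨c + d, spTau_mul _ _ _⟩
  inv_mem' := by rintro _ ⟨c, rfl⟩; exact ⟨-c, spTau_inv _ _⟩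

theorem mem_pointTau_mk {v : Fin m ⊕ Fin m → F} (hv : v ≠ 0) (g : SpIso m F) :
    g ∈ pointTau (Projectivization.mk F v hv) ↔ ∃ c, g = spTau v c := by
  obtain ⟨a, ha⟩ := Projectivization.exists_smul_eq_mk_rep F v hv
  show (∃ c, g = spTau _ c) ↔ _
  rw [← ha, Units.smul_def]
  constructor
  · rintro ⟨c, rfl⟩
    exact ⟨_, spTau_smul v _ c⟩
  · rintro ⟨c, rfl⟩
    refine ⟨c / ((a : F) * a), ?_⟩
    rw [spTau_smul, mul_div_cancel₀ _ (mul_ne_zero a.ne_zero a.ne_zero)]

/-- The Iwasawa structure of the symplectic group on points. -/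
noncomputable def spIwasawa : MulAction.IwasawaStructure (SpIso m F) (ℙ F (Fin m ⊕ Fin m → F)) where
  T := pointTau
  is_comm p := ⟨⟨by
    rintro ⟨_, c, rfl⟩ ⟨_, d, rfl⟩
    apply Subtype.ext
    show spTau _ c * spTau _ d = spTau _ d * spTau _ c
    rw [spTau_mul, spTau_mul, add_comm]⟩⟩
  is_conj g p := by
    induction p using Projectivization.ind with
    | _ v hv =>
    ext k
    rw [sp_smul_mk, mem_pointTau_mk, Subgroup.mem_pointwise_smul_iff_inv_smul_mem,
      mem_pointTau_mk]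
    show (∃ c, k = spTau (g.1 v) c) ↔ _
    constructor
    · rintro ⟨c, rfl⟩
      exact ⟨c, by rw [MulAut.smul_def, ← map_inv, MulAut.conj_apply, ← spTau_conj]; group⟩
    · rintro ⟨c, hc⟩
      refine ⟨c, ?_⟩
      rw [← spTau_conj, ← hc, MulAut.smul_def, ← map_inv, MulAut.conj_apply]
      group
  is_generator := by
    rw [eq_top_iff, ← closure_spTau, Subgroup.closure_le]
    rintro g ⟨w, c, rfl⟩
    by_cases hw : w = 0
    · rw [hw, spTau_zero_vec]
      exact one_mem _
    · exact Subgroup.mem_iSup_of_mem (Projectivization.mk F w hw)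
        ((mem_pointTau_mk hw _).2 ⟨c, rfl⟩)

theorem spIso_map_nonperp {u v u' v' : Fin m ⊕ Fin m → F} (hu : u ≠ 0) (hv : v ≠ 0) (hu' : u' ≠ 0)
    (hv' : v' ≠ 0) (h : spB m F u v ≠ 0) (h' : spB m F u' v' ≠ 0) :
    ∃ g : SpIso m F, g • Projectivization.mk F u hu = Projectivization.mk F u' hu' ∧
      g • Projectivization.mk F v hv = Projectivization.mk F v' hv' := by
  obtain ⟨g, hg, hgu, hgv⟩ := exists_map_pair spB_alt spB_nondeg (u := u)
    (v := (spB m F u v)⁻¹ • v) (u' := u') (v' := (spB m F u' v')⁻¹ • v')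
    (by simp [h]) (by simp [h'])
  refine ⟨⟨g, tauGroup_le _ hg⟩, ?_, ?_⟩
  · rw [sp_smul_mk]
    exact (Projectivization.mk_eq_mk_iff' F _ _ _ _).2 ⟨1, by rw [one_smul]; exact hgu.symm⟩
  · rw [sp_smul_mk, Projectivization.mk_eq_mk_iff' F]
    refine ⟨spB m F u v * (spB m F u' v')⁻¹, ?_⟩
    show _ = g v
    rw [map_smul, inv_smul_eq_iff₀ h] at hgv
    rw [hgv, smul_smul]

theorem spIso_map_perp {u v v' : Fin m ⊕ Fin m → F} (hu : u ≠ 0) (hv : v ≠ 0) (hv' : v' ≠ 0)
    (h : spB m F u v = 0) (h' : spB m F u v' = 0)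
    (hn : Projectivization.mk F u hu ≠ Projectivization.mk F v hv)
    (hn' : Projectivization.mk F u hu ≠ Projectivization.mk F v' hv') :
    ∃ g : SpIso m F, g • Projectivization.mk F u hu = Projectivization.mk F u hu ∧
      g • Projectivization.mk F v hv = Projectivization.mk F v' hv' := by
  have hout : ∀ (w : Fin m ⊕ Fin m → F) (hw : w ≠ 0),
      Projectivization.mk F u hu ≠ Projectivization.mk F w hw → w ∉ Submodule.span F {u} := by
    intro w hw hne hmem
    obtain ⟨a, rfl⟩ := Submodule.mem_span_singleton.1 hmem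
    exact hne ((Projectivization.mk_eq_mk_iff' F _ _ _ _).2 ⟨a, rfl⟩).symm
  obtain ⟨g, hg, hgv, hgu⟩ := exists_tau_step spB_alt spB_nondeg (Submodule.span F {u})
    (hout v hv hn) (hout v' hv' hn') (fun k hk => by
      obtain ⟨a, rfl⟩ := Submodule.mem_span_singleton.1 hk
      simp [alt_swap spB_alt u v, alt_swap spB_alt u v', h, h'])
  refine ⟨⟨g, tauGroup_le _ hg⟩, ?_, ?_⟩
  · rw [sp_smul_mk]
    exact (Projectivization.mk_eq_mk_iff' F _ _ _ _).2
      ⟨1, by rw [one_smul]; exact (hgu u (Submodule.mem_span_singleton_self u)).symm⟩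
  · rw [sp_smul_mk]
    exact (Projectivization.mk_eq_mk_iff' F _ _ _ _).2 ⟨1, by rw [one_smul]; exact hgv.symm⟩

/-- Any two vectors have a common non-perpendicular vector. -/
theorem exists_common_nonperp {u v : Fin m ⊕ Fin m → F} (hu : u ≠ 0) (hv : v ≠ 0) :
    ∃ z, spB m F u z ≠ 0 ∧ spB m F v z ≠ 0 := by
  have ex : ∀ w : Fin m ⊕ Fin m → F, w ≠ 0 → ∃ z, spB m F w z ≠ 0 := fun w hw => by
    by_contra hc
    push Not at hc
    exact hw (spB_nondeg.1 w hc)
  obtain ⟨a, ha⟩ := ex u hu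
  obtain ⟨b, hb⟩ := ex v hv
  exact exists_ne_zero_pair ha hb

theorem spIso_isPreprimitive :
    MulAction.IsPreprimitive (SpIso m F) (ℙ F (Fin m ⊕ Fin m → F)) := by
  have : MulAction.IsPretransitive (SpIso m F) (ℙ F (Fin m ⊕ Fin m → F)) := by
    refine ⟨fun p p' => ?_⟩
    induction p using Projectivization.ind with
    | _ v hv =>
    induction p' using Projectivization.ind with
    | _ w hw =>
    obtain ⟨g, hg⟩ := spIso_exists_map_vec hv hw
    refine ⟨g, ?_⟩
    rw [sp_smul_mk]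
    exact (Projectivization.mk_eq_mk_iff' F _ _ _ _).2 ⟨1, by rw [one_smul]; exact hg.symm⟩
  refine { isTrivialBlock_of_isBlock := fun {Δ} hΔ => ?_ }
  rw [MulAction.IsTrivialBlock, or_iff_not_imp_left, Set.not_subsingleton_iff]
  rintro ⟨p, hp, p', hp', hne⟩
  induction p using Projectivization.ind with
  | _ u hu =>
  induction p' using Projectivization.ind with
  | _ v hv =>
  -- points with a non-perpendicular partner in `Δ` pull in all such points
  have hstep : ∀ (a b : Fin m ⊕ Fin m → F) (ha : a ≠ 0) (hb : b ≠ 0),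
      Projectivization.mk F a ha ∈ Δ → Projectivization.mk F b hb ∈ Δ → spB m F a b ≠ 0 →
      ∀ (c d : Fin m ⊕ Fin m → F) (hc : c ≠ 0) (hd : d ≠ 0), Projectivization.mk F c hc ∈ Δ →
        spB m F c d ≠ 0 → Projectivization.mk F d hd ∈ Δ := by
    intro a b ha hb haΔ hbΔ hab c d hc hd hcΔ hcd
    obtain ⟨g, hga, hgb⟩ := spIso_map_nonperp ha hb hc hd hab hcd
    have hg : g • Δ = Δ := MulAction.isBlock_iff_smul_eq_of_mem.1 hΔ haΔ (hga ▸ hcΔ)
    rw [← hgb, ← hg]
    exact Set.smul_mem_smul_set hbΔ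
  obtain ⟨a, b, ha, hb, haΔ, hbΔ, hab⟩ : ∃ (a b : Fin m ⊕ Fin m → F) (ha : a ≠ 0) (hb : b ≠ 0),
      Projectivization.mk F a ha ∈ Δ ∧ Projectivization.mk F b hb ∈ Δ ∧ spB m F a b ≠ 0 := by
    by_cases huv : spB m F u v = 0
    · have hvu : v ∉ Submodule.span F {u} := fun hmem => by
        obtain ⟨a, rfl⟩ := Submodule.mem_span_singleton.1 hmem
        exact hne ((Projectivization.mk_eq_mk_iff' F _ _ _ _).2 ⟨a, rfl⟩).symm
      obtain ⟨z, hzu, hzv⟩ := spB_trace.exists_sep hvu
      have hz : z ≠ 0 := fun h => by simp [h] at hzv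
      have hzu0 : spB m F u z = 0 := by
        rw [alt_swap spB_alt z u, hzu u (Submodule.mem_span_singleton_self u), neg_zero]
      have hvz : spB m F v z ≠ 0 := by rw [alt_swap spB_alt z v, hzv]; simp
      have hn : Projectivization.mk F u hu ≠ Projectivization.mk F z hz := fun he => by
        obtain ⟨a, ha⟩ := (Projectivization.mk_eq_mk_iff' F _ _ hu hz).1 he
        have ha0 : a ≠ 0 := fun h => hu (by simp [← ha, h])
        rw [← ha, map_smul, LinearMap.smul_apply, smul_eq_mul] at huv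
        rw [alt_swap spB_alt z v] at hvz
        exact (mul_ne_zero ha0 (neg_ne_zero.1 hvz)) huv
      obtain ⟨g, hgu, hgv⟩ := spIso_map_perp hu hv hz huv hzu0 hne hn
      have hg : g • Δ = Δ := MulAction.isBlock_iff_smul_eq_of_mem.1 hΔ hp (hgu.symm ▸ hp)
      refine ⟨v, z, hv, hz, hp', ?_, hvz⟩
      rw [← hgv, ← hg]
      exact Set.smul_mem_smul_set hp'
    · exact ⟨u, v, hu, hv, hp, hp', huv⟩
  refine Set.eq_univ_of_forall fun q => ?_
  induction q using Projectivization.ind with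
  | _ w hw =>
  obtain ⟨z, hz1, hz2⟩ := exists_common_nonperp hu hw
  have hz : z ≠ 0 := fun h => by simp [h] at hz1
  have hzΔ : Projectivization.mk F z hz ∈ Δ := hstep a b ha hb haΔ hbΔ hab u z hu hz hp hz1
  exact hstep a b ha hb haΔ hbΔ hab z w hz hw hzΔ
    (by rw [alt_swap spB_alt w z]; exact neg_ne_zero.2 hz2)

theorem spIso_center_or_eq_top (hperf : commutator (SpIso m F) = ⊤) (N : Subgroup (SpIso m F))
    [N.Normal] : N ≤ Subgroup.center _ ∨ N = ⊤ := by
  have := spIso_isPreprimitive (m := m) (F := F)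
  by_cases hN : MulAction.fixedPoints N (ℙ F (Fin m ⊕ Fin m → F)) = Set.univ
  · refine Or.inl fun n hn => ?_
    obtain ⟨a, ha⟩ : ∃ a : F, ∀ v, n.1 v = a • v := by
      obtain ⟨a, ha⟩ := LinearMap.exists_eq_smul_id_of_forall_notLinearIndependent
        (f := n.1.toLinearMap) (fun v hli => by
          by_cases hv : v = 0
          · exact hli.ne_zero 0 (by simp [hv])
          have h1 : Projectivization.mk F v hv ∈ MulAction.fixedPoints N _ := hN ▸ Set.mem_univ _
          have h2 : n • Projectivization.mk F v hv = Projectivization.mk F v hv := h1 ⟨n, hn⟩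
          rw [sp_smul_mk] at h2
          obtain ⟨a, ha⟩ := (Projectivization.mk_eq_mk_iff' F _ _ _ _).1 h2
          have := (LinearIndependent.pair_iff.1 hli) a (-1) (by
            show a • v + (-1 : F) • n.1.toLinearMap v = 0
            rw [show n.1.toLinearMap v = a • v from ha.symm]
            module)
          simp at this)
      exact ⟨a, fun v => by simpa using congrArg (fun f : _ →ₗ[F] _ => f v) ha⟩
    rw [Subgroup.mem_center_iff]
    intro g
    refine Subtype.ext (LinearEquiv.ext fun v => ?_)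
    simp [ha]
  · exact Or.inr (top_le_iff.1 (hperf ▸ spIwasawa.commutator_le N hN))

theorem center_le_pm {g : SpIso m F} (hg : g ∈ Subgroup.center (SpIso m F)) :
    g = 1 ∨ ∀ v, g.1 v = -v := by
  have := eq_pm_one_of_commute spB_alt spB_nondeg g.2 (fun w => by
    have h := Subgroup.mem_center_iff.1 hg (spTau w 1)
    exact congrArg Subtype.val h.symm)
  rcases this with h | h
  · exact Or.inl (Subtype.ext h)
  · exact Or.inr h

/-- Minus one. -/
def spNeg : SpIso m F :=
  ⟨LinearEquiv.neg F, fun u v => by simp⟩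

theorem center_spIso : Subgroup.center (SpIso m F) = Subgroup.zpowers (spNeg (m := m) (F := F)) := by
  apply le_antisymm
  · intro g hg
    rcases center_le_pm hg with h | h
    · exact h ▸ one_mem _
    · have : g = spNeg := Subtype.ext (LinearEquiv.ext fun v => by rw [h v]; simp [spNeg])
      exact this ▸ Subgroup.mem_zpowers _
  · rw [Subgroup.zpowers_le, Subgroup.mem_center_iff]
    intro g
    refine Subtype.ext (LinearEquiv.ext fun v => ?_)
    simp [spNeg]

theorem isSimpleGroup_psp [Fintype F] (hm : 2 ≤ m) (h : m = 2 → 3 ≤ Fintype.card F) :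
    IsSimpleGroup (Matrix.symplecticGroup (Fin m) F ⧸
      Subgroup.center (Matrix.symplecticGroup (Fin m) F)) := by
  have hperf : commutator (SpIso m F) = ⊤ := commutator_spIso_eq_top (perfect_hyp (by omega))
  set G := Matrix.symplecticGroup (Fin m) F
  have : Nontrivial (G ⧸ Subgroup.center G) := by
    rw [QuotientGroup.nontrivial_iff]
    intro htop
    have hc : ∀ g : SpIso m F, g ∈ Subgroup.center (SpIso m F) := fun g => by
      rw [Subgroup.mem_center_iff]
      intro k
      apply (spEquiv m F).symm.injective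
      rw [map_mul, map_mul]
      exact Subgroup.mem_center_iff.1 (htop ▸ Subgroup.mem_top _) _
    let i0 : Fin m := ⟨0, by omega⟩
    let i1 : Fin m := ⟨1, by omega⟩
    have h01 : i0 ≠ i1 := by simp [i0, i1]
    obtain ⟨g, hg⟩ := spIso_exists_map_vec (F := F) (v := Pi.single (.inl i0) 1)
      (w := Pi.single (.inl i1) 1) (by simp) (by simp)
    rcases center_le_pm (hc g) with hh | hh
    · subst hh
      simpa [h01] using congrFun hg (Sum.inl i1)
    · rw [hh] at hg
      simpa [h01] using congrFun hg (Sum.inl i1)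
  refine IsSimpleGroup.mk fun N hN => ?_
  let f : SpIso m F →* G ⧸ Subgroup.center G :=
    (QuotientGroup.mk' _).comp (spEquiv m F).symm.toMonoidHom
  have hf : Function.Surjective f :=
    (QuotientGroup.mk'_surjective _).comp (spEquiv m F).symm.surjective
  rcases spIso_center_or_eq_top hperf (N.comap f) with h' | h'
  · refine Or.inl ((Subgroup.eq_bot_iff_forall _).2 fun x hx => ?_)
    obtain ⟨y, rfl⟩ := hf x
    show (QuotientGroup.mk' _ ((spEquiv m F).symm y)) = 1
    rw [QuotientGroup.mk'_apply, QuotientGroup.eq_one_iff, Subgroup.mem_center_iff]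
    intro g
    obtain ⟨k, rfl⟩ := (spEquiv m F).symm.surjective g
    rw [← map_mul, ← map_mul, Subgroup.mem_center_iff.1 (h' hx) k]
  · exact Or.inr (by rw [← Subgroup.map_comap_eq_self_of_surjective hf N, h', Subgroup.map_top_of_surjective f hf])

end Cfsg.Agent.FormsLib
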