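import Cfsg.Agent.Lib.Forms.Witt
import Mathlib

/-!
Alternating forms: symplectic bases, transvections, generation of the isometry group by transvections.
-/

set_option autoImplicit false

namespace Cfsg.Agent.FormsLib

variable {F V : Type*} [Field F] [AddCommGroup V] [Module F V]

/-- The isometry group of a bilinear form inside `V ≃ₗ V`. -/
def isoGroup (B : LinearMap.BilinForm F V) : Subgroup (V ≃ₗ[F] V) where
  carrier := {g | Preserves B g}
  mul_mem' ha hb := ha.mul hb
  one_mem' := preserves_one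
  inv_mem' ha := ha.symm

theorem mem_isoGroup {B : LinearMap.BilinForm F V} {g : V ≃ₗ[F] V} :
    g ∈ isoGroup B ↔ ∀ u v, B (g u) (g v) = B u v := Iff.rfl

theorem alt_swap {B : LinearMap.BilinForm F V} (hA : LinearMap.IsAlt B) (u v : V) :
    B v u = -B u v := (hA.neg u v).symm

/-- The transvection map `v ↦ v + c B(v, w) w`. -/
def tauHom (B : LinearMap.BilinForm F V) (w : V) (c : F) : V →ₗ[F] V :=
  LinearMap.id + (c • B.flip w).smulRight w

@[simp]
theorem tauHom_apply (B : LinearMap.BilinForm F V) (w : V) (c : F) (v : V) :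
    tauHom B w c v = v + (c * B v w) • w := by
  simp [tauHom]

variable {B : LinearMap.BilinForm F V}

theorem tauHom_comp (hA : LinearMap.IsAlt B) (w : V) (c d : F) :
    tauHom B w c ∘ₗ tauHom B w d = tauHom B w (c + d) := by
  ext v
  simp only [LinearMap.comp_apply, tauHom_apply, map_add, map_smul, LinearMap.add_apply,
    LinearMap.smul_apply, hA w, smul_eq_mul, mul_zero, add_zero]
  module

/-- The symplectic transvection as an equivalence. -/
def tau (hA : LinearMap.IsAlt B) (w : V) (c : F) : V ≃ₗ[F] V :=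
  LinearEquiv.ofLinearMap (tauHom B w c) (tauHom B w (-c))
    (by rw [tauHom_comp hA, add_neg_cancel]; ext v; simp)
    (by rw [tauHom_comp hA, neg_add_cancel]; ext v; simp)

@[simp]
theorem tau_apply (hA : LinearMap.IsAlt B) (w : V) (c : F) (v : V) :
    tau hA w c v = v + (c * B v w) • w := tauHom_apply B w c v

theorem tau_mem (hA : LinearMap.IsAlt B) (w : V) (c : F) : tau hA w c ∈ isoGroup B := by
  intro u v
  simp only [tau_apply, map_add, map_smul, LinearMap.add_apply, LinearMap.smul_apply, smul_eq_mul,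
    hA w]
  rw [alt_swap hA v w]
  ring

theorem tau_mul (hA : LinearMap.IsAlt B) (w : V) (c d : F) :
    tau hA w c * tau hA w d = tau hA w (c + d) :=
  LinearEquiv.toLinearMap_injective (tauHom_comp hA w c d)

theorem tau_zero (hA : LinearMap.IsAlt B) (w : V) : tau hA w 0 = 1 := by
  ext v
  simp

theorem tau_inv (hA : LinearMap.IsAlt B) (w : V) (c : F) : (tau hA w c)⁻¹ = tau hA w (-c) :=
  inv_eq_of_mul_eq_one_right (by rw [tau_mul, add_neg_cancel, tau_zero])

theorem tau_smul (hA : LinearMap.IsAlt B) (w : V) (a c : F) :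
    tau hA (a • w) c = tau hA w (a * a * c) := by
  ext v
  simp only [tau_apply, map_smul, smul_eq_mul]
  module

theorem tau_conj (hA : LinearMap.IsAlt B) {g : V ≃ₗ[F] V} (hg : g ∈ isoGroup B) (w : V) (c : F) :
    g * tau hA w c * g⁻¹ = tau hA (g w) c := by
  ext v
  simp only [LinearEquiv.mul_apply, tau_apply, map_add, map_smul]
  rw [show (g⁻¹ : V ≃ₗ[F] V) = g.symm from rfl, LinearEquiv.apply_symm_apply]
  rw [← hg (g.symm v) w, LinearEquiv.apply_symm_apply]

/-- The subgroup generated by all symplectic transvections. -/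
def tauGroup (hA : LinearMap.IsAlt B) : Subgroup (V ≃ₗ[F] V) :=
  Subgroup.closure {g | ∃ w c, g = tau hA w c}

theorem tau_mem_tauGroup (hA : LinearMap.IsAlt B) (w : V) (c : F) : tau hA w c ∈ tauGroup hA :=
  Subgroup.subset_closure ⟨w, c, rfl⟩

theorem tauGroup_le (hA : LinearMap.IsAlt B) : tauGroup hA ≤ isoGroup B :=
  (Subgroup.closure_le _).2 (by rintro g ⟨w, c, rfl⟩; exact tau_mem hA w c)

variable [FiniteDimensional F V]

/-- Two non-trivial functionals on a space have a common non-zero value. -/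
theorem exists_ne_zero_pair {W : Type*} [AddCommGroup W] [Module F W] {f g : W →ₗ[F] F}
    {u : W} (hu : f u ≠ 0) {v : W} (hv : g v ≠ 0) : ∃ z, f z ≠ 0 ∧ g z ≠ 0 := by
  by_cases h : g u = 0
  · by_cases h' : f v = 0
    · exact ⟨u + v, by simpa [h'] using hu, by simpa [h] using hv⟩
    · exact ⟨v, h', hv⟩
  · exact ⟨u, hu, h⟩

/-- Moving `x` to `y` by at most two transvections fixing `H` pointwise. -/
theorem exists_tau_step (hA : LinearMap.IsAlt B) (hB : LinearMap.Nondegenerate B) (H : Submodule F V)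
    {x y : V} (hxH : x ∉ H) (hyH : y ∉ H) (hH : ∀ h ∈ H, B y h = B x h) :
    ∃ g ∈ tauGroup hA, g x = y ∧ ∀ h ∈ H, g h = h := by
  have key : ∀ x y : V, B x y ≠ 0 → (∀ h ∈ H, B y h = B x h) →
      ∃ g ∈ tauGroup hA, g x = y ∧ ∀ h ∈ H, g h = h := by
    intro x y hxy hH
    refine ⟨tau hA (y - x) (B x y)⁻¹, tau_mem_tauGroup hA _ _, ?_, fun h hh => ?_⟩
    · simp only [tau_apply, map_sub, hA x, sub_zero, inv_mul_cancel₀ hxy, one_smul]
      abel
    · have h0 : B h (y - x) = 0 := by
        rw [map_sub, alt_swap hA y h, alt_swap hA x h, hH h hh, sub_self]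
      simp [h0]
  by_cases hxy : B x y ≠ 0
  · exact key x y hxy hH
  push Not at hxy
  have hT := isTraceForm_of_isAlt hA hB
  obtain ⟨z₁, hz₁, hz₁x⟩ := hT.exists_sep hxH
  obtain ⟨z₂, hz₂, hz₂y⟩ := hT.exists_sep hyH
  let W : Submodule F V := LinearMap.BilinForm.orthogonal B H
  have hmem : ∀ z, (∀ h ∈ H, B z h = 0) → z ∈ W := fun z hz h hh => by
    show B h z = 0
    rw [alt_swap hA z h, hz h hh, neg_zero]
  obtain ⟨z, hzx, hzy⟩ := exists_ne_zero_pair (f := (B x).comp W.subtype)
    (g := (B y).comp W.subtype) (u := ⟨z₁, hmem z₁ hz₁⟩) (v := ⟨z₂, hmem z₂ hz₂⟩)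
    (by simp [alt_swap hA z₁ x, hz₁x]) (by simp [alt_swap hA z₂ y, hz₂y])
  simp only [LinearMap.comp_apply, Submodule.coe_subtype] at hzx hzy
  have hzH : ∀ h ∈ H, B (z : V) h = 0 := fun h hh => by
    rw [alt_swap hA h (z : V), show B h (z : V) = 0 from z.2 h hh, neg_zero]
  obtain ⟨g₁, hg₁, hg₁x, hg₁H⟩ := key x (x + z) (by simpa [hA x] using hzx)
    (fun h hh => by simp [hzH h hh])
  obtain ⟨g₂, hg₂, hg₂x, hg₂H⟩ := key (x + z) y
    (by simpa [hxy, alt_swap hA y (z : V)] using hzy)
    (fun h hh => by simp [hzH h hh, hH h hh])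
  refine ⟨g₂ * g₁, mul_mem hg₂ hg₁, by simp [hg₁x, hg₂x], fun h hh => ?_⟩
  simp [hg₁H h hh, hg₂H h hh]

/-- Witt's theorem for alternating forms, with an extension in the transvection group. -/
theorem exists_extend_tauGroup (hA : LinearMap.IsAlt B) (hB : LinearMap.Nondegenerate B)
    (X : Submodule F V) (φ : X →ₗ[F] V) (hinj : Function.Injective φ)
    (hφ : ∀ x x' : X, B (φ x) (φ x') = B (x : V) (x' : V)) :
    ∃ g ∈ tauGroup hA, ∀ x : X, g (x : V) = φ x := by
  induction hn : Module.finrank F X using Nat.strong_induction_on generalizing X with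
  | _ n ih =>
  subst hn
  by_cases hX : X = ⊥
  · refine ⟨1, one_mem _, fun x => ?_⟩
    have : x = 0 := by
      ext
      exact (Submodule.eq_bot_iff X).1 hX x x.2
    simp [this]
  obtain ⟨H, x, hHX, hxX, hxH, hXeq, hlt⟩ := exists_hyperplane_of_ne_bot hX
  obtain ⟨g₀, hg₀, hg₀H⟩ := ih _ hlt H (φ.comp (Submodule.inclusion hHX))
    (hinj.comp (Submodule.inclusion_injective hHX)) (fun a b => hφ _ _) rfl
  have hiso : Preserves B g₀ := tauGroup_le hA hg₀
  have hfix : ∀ h (hh : h ∈ H), g₀.symm (φ ⟨h, hHX hh⟩) = h := fun h hh => by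
    rw [LinearEquiv.symm_apply_eq]
    exact (hg₀H ⟨h, hh⟩).symm
  set y := g₀.symm (φ ⟨x, hxX⟩) with hy
  have hyH : y ∉ H := fun hh => by
    have h1 : φ ⟨y, hHX hh⟩ = φ ⟨x, hxX⟩ := g₀.symm.injective ((hfix y hh).trans hy)
    exact hxH ((show y = x from congrArg Subtype.val (hinj h1)) ▸ hh)
  obtain ⟨g, hg, hgx, hgH⟩ := exists_tau_step hA hB H hxH hyH (fun h hh => by
      conv_lhs => rw [← hfix h hh, hy, hiso.symm]
      exact hφ _ _)
  refine ⟨g₀ * g, mul_mem hg₀ hg, fun w => ?_⟩
  obtain ⟨h, hh, s, hs, hw⟩ := Submodule.mem_sup.1 (hXeq.le w.2)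
  obtain ⟨a, rfl⟩ := Submodule.mem_span_singleton.1 hs
  have hw' : w = ⟨h, hHX hh⟩ + a • ⟨x, hxX⟩ := Subtype.ext hw.symm
  rw [hw', map_add, map_smul]
  show g₀ (g _) = _
  simp only [Submodule.coe_add, Submodule.coe_smul, map_add, map_smul]
  rw [hgH h hh, hgx, hy, LinearEquiv.apply_symm_apply]
  congr 1
  exact hg₀H ⟨h, hh⟩

theorem tauGroup_eq (hA : LinearMap.IsAlt B) (hB : LinearMap.Nondegenerate B) :
    tauGroup hA = isoGroup B := by
  refine le_antisymm (tauGroup_le hA) (fun g hg => ?_)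
  obtain ⟨g', hg', hext⟩ := exists_extend_tauGroup hA hB ⊤
    (g.toLinearMap.comp (⊤ : Submodule F V).subtype) (g.injective.comp Subtype.val_injective)
    (fun x x' => hg _ _)
  have : g = g' := LinearEquiv.ext fun v => (hext ⟨v, trivial⟩).symm
  exact this ▸ hg'

/-- Transitivity on hyperbolic pairs. -/
theorem exists_map_pair (hA : LinearMap.IsAlt B) (hB : LinearMap.Nondegenerate B) {u v u' v' : V}
    (h : B u v = 1) (h' : B u' v' = 1) : ∃ g ∈ tauGroup hA, g u = u' ∧ g v = v' := by
  have hu : u ∉ (⊥ : Submodule F V) := fun hu => by simp [(Submodule.mem_bot F).1 hu] at h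
  have hu' : u' ∉ (⊥ : Submodule F V) := fun hu => by simp [(Submodule.mem_bot F).1 hu] at h'
  obtain ⟨g₀, hg₀, hg₀u, -⟩ := exists_tau_step hA hB ⊥ hu hu' (fun k hk => by
    rw [(Submodule.mem_bot F).1 hk]; simp)
  have hiso : Preserves B g₀ := tauGroup_le hA hg₀
  have hw : B u (g₀.symm v') = 1 := by
    rw [← hiso u, LinearEquiv.apply_symm_apply, hg₀u, h']
  have hnot : ∀ w, B u w = 1 → w ∉ Submodule.span F {u} := fun w hw hm => by
    obtain ⟨a, rfl⟩ := Submodule.mem_span_singleton.1 hm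
    simp [hA u] at hw
  obtain ⟨g, hg, hgv, hgu⟩ := exists_tau_step hA hB (Submodule.span F {u}) (hnot v h) (hnot _ hw)
    (fun k hk => by
      obtain ⟨a, rfl⟩ := Submodule.mem_span_singleton.1 hk
      simp [alt_swap hA u (g₀.symm v'), alt_swap hA u v, hw, h])
  exact ⟨g₀ * g, mul_mem hg₀ hg,
    by simp [hgu u (Submodule.mem_span_singleton_self u), hg₀u], by simp [hgv]⟩

/-- Transitivity on non-zero vectors. -/
theorem exists_map_vec (hA : LinearMap.IsAlt B) (hB : LinearMap.Nondegenerate B) {v w : V}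
    (hv : v ≠ 0) (hw : w ≠ 0) : ∃ g ∈ tauGroup hA, g v = w := by
  obtain ⟨g, hg, hgv, -⟩ := exists_tau_step hA hB ⊥ (x := v) (y := w) (by simpa using hv)
    (by simpa using hw) (fun k hk => by rw [(Submodule.mem_bot F).1 hk]; simp)
  exact ⟨g, hg, hgv⟩

omit [FiniteDimensional F V] in
/-- An isometry commuting with all transvections is a scalar `±1`. -/
theorem eq_pm_one_of_commute (hA : LinearMap.IsAlt B) (hB : LinearMap.Nondegenerate B)
    {g : V ≃ₗ[F] V} (hg : g ∈ isoGroup B) (hc : ∀ w, g * tau hA w 1 = tau hA w 1 * g) :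
    g = 1 ∨ ∀ v, g v = -v := by
  have hline : ∀ w : V, ∃ a : F, g w = a • w := by
    intro w
    by_cases hw : w = 0
    · exact ⟨0, by simp [hw]⟩
    obtain ⟨v, hv⟩ : ∃ v, B v w ≠ 0 := by
      by_contra h
      push Not at h
      exact hw (hB.2 w h)
    have := congrArg (fun k : V ≃ₗ[F] V => k v) (hc w)
    simp only [LinearEquiv.mul_apply, tau_apply, map_add, map_smul, one_mul] at this
    refine ⟨(B v w)⁻¹ * B (g v) w, ?_⟩
    rw [mul_smul, ← add_left_cancel this, smul_smul, inv_mul_cancel₀ hv, one_smul]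
  obtain ⟨a, ha⟩ : ∃ a : F, ∀ v, g v = a • v := by
    obtain ⟨a, ha⟩ := LinearMap.exists_eq_smul_id_of_forall_notLinearIndependent (f := g.toLinearMap)
      (fun v hv => by
        obtain ⟨a, ha⟩ := hline v
        have := (LinearIndependent.pair_iff.1 hv) a (-1) (by simp [ha])
        simp at this)
    exact ⟨a, fun v => by simpa using congrArg (fun f : V →ₗ[F] V => f v) ha⟩
  by_cases hV : ∀ v : V, v = 0
  · exact Or.inl (LinearEquiv.ext fun v => by simp [hV v])
  push Not at hV
  obtain ⟨u, hu⟩ := hV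
  obtain ⟨v, hv⟩ : ∃ v, B u v ≠ 0 := by
    by_contra h
    push Not at h
    exact hu (hB.1 u h)
  have h1 := hg u v
  simp only [ha, map_smul, LinearMap.smul_apply, smul_eq_mul] at h1
  have h2 : a * a = 1 := mul_right_cancel₀ hv (by linear_combination h1)
  rcases mul_self_eq_one_iff.1 h2 with h | h
  · exact Or.inl (LinearEquiv.ext fun v => by simp [ha v, h])
  · exact Or.inr fun v => by simp [ha v, h]

omit [FiniteDimensional F V] in
/-- Symplectic decomposition of a subspace. -/
theorem exists_symplectic_decomp [FiniteDimensional F V] (hA : LinearMap.IsAlt B)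
    (W : Submodule F V) : ∃ (m : ℕ) (e f : Fin m → V) (R : Submodule F V),
      (∀ i, e i ∈ W) ∧ (∀ i, f i ∈ W) ∧ R ≤ W ∧
      (∀ i j, B (e i) (f j) = if i = j then 1 else 0) ∧ (∀ i j, B (e i) (e j) = 0) ∧
      (∀ i j, B (f i) (f j) = 0) ∧ (∀ r ∈ R, ∀ w ∈ W, B r w = 0) ∧
      W = Submodule.span F (Set.range e) ⊔ Submodule.span F (Set.range f) ⊔ R := by
  induction hn : Module.finrank F W using Nat.strong_induction_on generalizing W with
  | _ n ih =>
  subst hn
  by_cases h0 : ∀ u ∈ W, ∀ v ∈ W, B u v = 0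
  · refine ⟨0, fun i => i.elim0, fun i => i.elim0, W, fun i => i.elim0, fun i => i.elim0, le_rfl,
      fun i => i.elim0, fun i => i.elim0, fun i => i.elim0, h0, ?_⟩
    simp
  push Not at h0
  obtain ⟨u, hu, v, hv, huv⟩ := h0
  set f₀ := (B u v)⁻¹ • v with hf₀
  have hf₀W : f₀ ∈ W := W.smul_mem _ hv
  have hef : B u f₀ = 1 := by simp [hf₀, inv_mul_cancel₀ huv]
  have hfe : B f₀ u = -1 := by rw [alt_swap hA u f₀, hef]
  let W' : Submodule F V := W ⊓ LinearMap.ker (B u) ⊓ LinearMap.ker (B f₀)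
  have hlt : Module.finrank F W' < Module.finrank F W := by
    apply Submodule.finrank_lt_finrank_of_lt
    refine lt_of_le_of_ne (inf_le_left.trans inf_le_left) fun h => ?_
    have h1 : f₀ ∈ W' := h.symm ▸ hf₀W
    have h2 : B u f₀ = 0 := h1.1.2
    rw [hef] at h2
    exact one_ne_zero h2
  obtain ⟨m, e, f, R, heW, hfW, hRW, hef', hee, hff, hR, hspan⟩ := ih _ hlt W' rfl
  refine ⟨m + 1, Fin.cons u e, Fin.cons f₀ f, R, ?_, ?_, fun r hr => (hRW hr).1.1, ?_, ?_, ?_, ?_,
    ?_⟩
  · exact Fin.cases (by simpa using hu) (fun i => by simpa using (heW i).1.1)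
  · exact Fin.cases (by simpa using hf₀W) (fun i => by simpa using (hfW i).1.1)
  · refine Fin.cases (Fin.cases (by simpa using hef) fun j => ?_) (fun i => Fin.cases ?_ fun j => ?_)
    · have : B u (f j) = 0 := (hfW j).1.2
      simp [this, (Fin.succ_ne_zero j).symm]
    · have : B f₀ (e i) = 0 := (heW i).2
      simp [alt_swap hA f₀ (e i), this, Fin.succ_ne_zero i]
    · simpa [Fin.succ_inj] using hef' i j
  · refine Fin.cases (Fin.cases (by simpa using hA u) fun j => ?_) (fun i => Fin.cases ?_ fun j => ?_)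
    · simpa using (show B u (e j) = 0 from (heW j).1.2)
    · simp [alt_swap hA u (e i), show B u (e i) = 0 from (heW i).1.2]
    · simpa using hee i j
  · refine Fin.cases (Fin.cases (by simpa using hA f₀) fun j => ?_) (fun i => Fin.cases ?_ fun j => ?_)
    · simpa using (show B f₀ (f j) = 0 from (hfW j).2)
    · simp [alt_swap hA f₀ (f i), show B f₀ (f i) = 0 from (hfW i).2]
    · simpa using hff i j
  · intro r hr w hw
    have h1 : B u r = 0 := (hRW hr).1.2
    have h2 : B f₀ r = 0 := (hRW hr).2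
    have h1' : B r u = 0 := by rw [alt_swap hA u r, h1, neg_zero]
    have h2' : B r f₀ = 0 := by rw [alt_swap hA f₀ r, h2, neg_zero]
    have hw' : w + B f₀ w • u - B u w • f₀ ∈ W' := by
      refine ⟨⟨W.sub_mem (W.add_mem hw (W.smul_mem _ hu)) (W.smul_mem _ hf₀W), ?_⟩, ?_⟩
      · show B u _ = 0
        simp [hef, hA u]
      · show B f₀ _ = 0
        simp [hfe, hA f₀]
    have := hR r hr _ hw'
    simpa [h1', h2'] using this
  · apply le_antisymm
    · intro w hw
      have hw' : w + B f₀ w • u - B u w • f₀ ∈ W' := by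
        refine ⟨⟨W.sub_mem (W.add_mem hw (W.smul_mem _ hu)) (W.smul_mem _ hf₀W), ?_⟩, ?_⟩
        · show B u _ = 0
          simp [hef, hA u]
        · show B f₀ _ = 0
          simp [hfe, hA f₀]
      have hsub : W' ≤ Submodule.span F (Set.range (Fin.cons u e : Fin (m + 1) → V)) ⊔
          Submodule.span F (Set.range (Fin.cons f₀ f : Fin (m + 1) → V)) ⊔ R := by
        rw [hspan]
        refine sup_le_sup (sup_le_sup ?_ ?_) le_rfl
        all_goals
          apply Submodule.span_mono
          rw [Fin.range_cons]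
          exact Set.subset_insert _ _
      have hdec : w = (w + B f₀ w • u - B u w • f₀) + (- B f₀ w) • u + B u w • f₀ := by module
      rw [hdec]
      refine Submodule.add_mem _ (Submodule.add_mem _ (hsub hw') ?_) ?_
      · exact Submodule.mem_sup_left (Submodule.mem_sup_left (Submodule.smul_mem _ _
          (Submodule.subset_span ⟨0, by simp⟩)))
      · exact Submodule.mem_sup_left (Submodule.mem_sup_right (Submodule.smul_mem _ _
          (Submodule.subset_span ⟨0, by simp⟩)))
    · refine sup_le (sup_le ?_ ?_) (fun r hr => (hRW hr).1.1)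
      all_goals
        rw [Submodule.span_le]
        rintro _ ⟨i, rfl⟩
        revert i
        refine Fin.cases ?_ (fun i => ?_)
      · simpa using hu
      · simpa using (heW i).1.1
      · simpa using hf₀W
      · simpa using (hfW i).1.1

/-- A symplectic basis together with a basis of the radical. -/
theorem exists_symplectic_basis (hA : LinearMap.IsAlt B) :
    ∃ (m k : ℕ) (b : Module.Basis ((Fin m ⊕ Fin m) ⊕ Fin k) F V),
      (∀ i j, B (b (.inl (.inl i))) (b (.inl (.inr j))) = if i = j then 1 else 0) ∧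
      (∀ i j, B (b (.inl (.inl i))) (b (.inl (.inl j))) = 0) ∧
      (∀ i j, B (b (.inl (.inr i))) (b (.inl (.inr j))) = 0) ∧
      (∀ j v, B (b (.inr j)) v = 0) := by
  classical
  obtain ⟨m, e, f, R, -, -, -, hef, hee, hff, hR, hspan⟩ := exists_symplectic_decomp hA (⊤ : Submodule F V)
  let bR := Module.finBasis F R
  let fam : (Fin m ⊕ Fin m) ⊕ Fin (Module.finrank F R) → V :=
    Sum.elim (Sum.elim e f) (fun j => (bR j : V))
  have hRf : ∀ j v, B (bR j : V) v = 0 := fun j v => hR _ (bR j).2 v trivial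
  have hRf' : ∀ j v, B v (bR j : V) = 0 := fun j v => by
    rw [alt_swap hA (bR j : V) v, hRf, neg_zero]
  have hfe : ∀ i j, B (f i) (e j) = if i = j then -1 else 0 := fun i j => by
    rw [alt_swap hA (e j) (f i), hef]
    rcases eq_or_ne i j with h | h
    · simp [h]
    · simp [h, h.symm]
  have hli : LinearIndependent F fam := by
    rw [Fintype.linearIndependent_iff]
    intro c hc
    simp only [Fintype.sum_sum_type, fam, Sum.elim_inl, Sum.elim_inr] at hc
    have hE : ∀ i, c (.inl (.inl i)) = 0 := fun i => by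
      have := congrArg (B (f i)) hc
      simpa [map_sum, hfe, hff, hRf'] using this
    have hF : ∀ i, c (.inl (.inr i)) = 0 := fun i => by
      have := congrArg (B (e i)) hc
      simpa [map_sum, hef, hee, hRf'] using this
    have hRc : ∀ j, c (.inr j) = 0 := by
      apply Fintype.linearIndependent_iff.1 bR.linearIndependent (fun j => c (.inr j))
      apply Subtype.ext
      simpa [hE, hF] using hc
    rintro ((i | i) | j)
    · exact hE i
    · exact hF i
    · exact hRc j
  have hsp : ⊤ ≤ Submodule.span F (Set.range fam) := by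
    rw [hspan]
    refine sup_le (sup_le ?_ ?_) ?_
    · exact Submodule.span_mono (by rintro _ ⟨i, rfl⟩; exact ⟨.inl (.inl i), rfl⟩)
    · exact Submodule.span_mono (by rintro _ ⟨i, rfl⟩; exact ⟨.inl (.inr i), rfl⟩)
    · intro r hr
      rw [show r = ((⟨r, hr⟩ : R) : V) from rfl, ← bR.sum_repr ⟨r, hr⟩, Submodule.coe_sum]
      exact Submodule.sum_mem _ fun j _ =>
        Submodule.smul_mem _ _ (Submodule.subset_span ⟨.inr j, rfl⟩)
  refine ⟨m, _, Module.Basis.mk hli hsp, ?_, ?_, ?_, ?_⟩
  · exact fun i j => by simpa [Module.Basis.mk_apply, fam] using hef i j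
  · exact fun i j => by simpa [Module.Basis.mk_apply, fam] using hee i j
  · exact fun i j => by simpa [Module.Basis.mk_apply, fam] using hff i j
  · exact fun j v => by simpa [Module.Basis.mk_apply, fam] using hRf j v

/-- A symplectic basis of a non-degenerate space. -/
theorem exists_symplectic_basis_nondeg (hA : LinearMap.IsAlt B) (hB : LinearMap.Nondegenerate B) :
    ∃ (m : ℕ) (b : Module.Basis (Fin m ⊕ Fin m) F V),
      (∀ i j, B (b (.inl i)) (b (.inr j)) = if i = j then 1 else 0) ∧
      (∀ i j, B (b (.inl i)) (b (.inl j)) = 0) ∧ (∀ i j, B (b (.inr i)) (b (.inr j)) = 0) := by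
  obtain ⟨m, k, b, h1, h2, h3, h4⟩ := exists_symplectic_basis hA (B := B)
  have : IsEmpty (Fin k) := ⟨fun j => b.ne_zero _ (hB.1 _ (h4 j))⟩
  exact ⟨m, b.reindex (Equiv.sumEmpty _ (Fin k)), by simpa using h1, by simpa using h2,
    by simpa using h3⟩

end Cfsg.Agent.FormsLib
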