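import Cfsg.Agent.Lib.FormCentral.UnipotentCentralizer
import Cfsg.Agent.Lib.Forms.Models
import Cfsg.Agent.Lib.GLOrders.SympOrders
import Cfsg.Agent.Lib.Spinor.Discr

/-!
Bilinear forms preserved by a unipotent matrix of given Jordan type: blocks, models, congruence.
-/

set_option autoImplicit false

namespace Cfsg.Agent.UnipotentForms

open scoped Matrix
open Cfsg.Agent.JordanType Cfsg.Agent.S2581 Polynomial
open Cfsg.Agent.UnipotentCentralizer (G_recursion G_vanish_left block isUnit_trans commute_aeval proj_aeval proj_add proj_sub proj_smul colsM colsM_adm proj_colsM)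

variable {K : Type*} [Field K] [Fintype K]

section General

variable {t : ℕ} {d : Fin t → ℕ} (hd : ∀ k, 1 ≤ d k) {G : Matrix (Idx d) (Idx d) K}
  (hJ : (1 + (shift K d)ᵀ) * G * (1 + shift K d) = G) (hsym : ∀ a b, G a b = 0 → G b a = 0)

include hJ hsym in
theorem G_vanish (a b : Idx d) (h : d a.1 ≤ a.2 + b.2 ∨ d b.1 ≤ a.2 + b.2) : G a b = 0 := by
  rcases h with h | h
  · exact G_vanish_left hJ _ a b rfl h
  · exact hsym _ _ (G_vanish_left hJ _ b a rfl (by omega))

include hJ hsym in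
theorem block_isUnit (hu : IsUnit G) (i : Fin (Finset.univ.sup d + 1)) : IsUnit (block hd G i) := by
  classical
  rw [← Matrix.mulVec_injective_iff_isUnit]
  suffices key : ∀ v, block hd G i *ᵥ v = 0 → v = 0 by
    intro u v huv
    exact sub_eq_zero.1 (key _ (by rw [Matrix.mulVec_sub, huv, sub_self]))
  intro v hv
  let w : Idx d → K := fun a =>
    if h : d a.1 = (i : ℕ) ∧ (a.2 : ℕ) + 1 = d a.1 then v ⟨a.1, h.1⟩ else 0
  have hGw : ∀ a : Idx d, (G *ᵥ w) a =
      ∑ m : KB d i, G a ⟨m.1, ⟨d m.1 - 1, by have := hd m.1; omega⟩⟩ * v m := by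
    intro a
    rw [Matrix.mulVec, dotProduct]
    refine (Fintype.sum_of_injective
      (fun m : KB d i => (⟨m.1, ⟨d m.1 - 1, by have := hd m.1; omega⟩⟩ : Idx d))
      (fun m m' e => Subtype.ext (congrArg Sigma.fst e)) _ _ ?_ ?_).symm
    · intro b hb
      obtain ⟨l, ⟨r, hr⟩⟩ := b
      simp only [w]
      rw [dif_neg, mul_zero]
      rintro ⟨e1, e2⟩
      exact hb ⟨⟨l, e1⟩, congrArg (Sigma.mk _) (Fin.ext (by simp only; omega))⟩
    · intro m
      simp only [w]
      rw [dif_pos ⟨m.2, by have := hd m.1; omega⟩]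
  set z : Idx d → K := fun a =>
    if (i : ℕ) ≤ a.2 then (G *ᵥ w) ⟨a.1, ⟨(a.2 : ℕ) - i, by omega⟩⟩ else 0 with hz
  have hS : ((shift K d)ᵀ) ^ (i : ℕ) *ᵥ z = G *ᵥ w := by
    funext a
    rw [← Matrix.transpose_pow, Matrix.mulVec, dotProduct]
    by_cases hlt : (a.2 : ℕ) + i < d a.1
    · rw [Finset.sum_eq_single (⟨a.1, ⟨a.2 + i, hlt⟩⟩ : Idx d)]
      · rw [Matrix.transpose_apply, shift_pow_apply, if_pos ⟨rfl, rfl⟩, one_mul, hz]
        simp
      · intro b _ hb
        rw [Matrix.transpose_apply, shift_pow_apply, if_neg, zero_mul]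
        rintro ⟨e1, e2⟩
        obtain ⟨l, r⟩ := b
        change l = a.1 at e1
        subst e1
        exact hb (congrArg (Sigma.mk _) (Fin.ext e2))
      · simp
    · rw [Finset.sum_eq_zero]
      · rw [hGw]
        rcases eq_or_ne (d a.1) i with hai | hai
        · rcases Nat.eq_zero_or_pos (a.2 : ℕ) with h0 | h0
          · have h1 := congrFun hv ⟨a.1, hai⟩
            rw [Matrix.mulVec, dotProduct, Pi.zero_apply] at h1
            refine h1.symm.trans (Finset.sum_congr rfl fun m _ => ?_)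
            obtain ⟨k, ⟨r, hr⟩⟩ := a
            change r = 0 at h0
            subst h0
            rfl
          · refine (Finset.sum_eq_zero fun m _ => ?_).symm
            have := hd m.1
            have := m.2
            rw [G_vanish hJ hsym a _ (Or.inr (by simp only; omega)), zero_mul]
        · refine (Finset.sum_eq_zero fun m _ => ?_).symm
          have := hd m.1
          have := m.2
          rcases Nat.eq_zero_or_pos (a.2 : ℕ) with h0 | h0
          · rw [G_vanish hJ hsym a _ (Or.inl (by simp only; omega)), zero_mul]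
          · rw [G_vanish hJ hsym a _ (Or.inr (by simp only; omega)), zero_mul]
      · intro b _
        rw [Matrix.transpose_apply, shift_pow_apply, if_neg, zero_mul]
        rintro ⟨e1, e2⟩
        have h1 : (b.2 : ℕ) < d a.1 := e1 ▸ b.2.2
        omega
  set M : Matrix (Idx d) (Idx d) K := -(1 + (shift K d)ᵀ) with hM
  have h1 : M * G * shift K d = (shift K d)ᵀ * G := by
    have e : (1 + (shift K d)ᵀ) * G * shift K d + (shift K d)ᵀ * G + G = 0 + G := by
      rw [zero_add]
      refine Eq.trans ?_ hJ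
      noncomm_ring
    rw [hM, neg_mul, neg_mul, neg_eq_iff_add_eq_zero]
    exact add_right_cancel e
  have hcm : Commute M (shift K d)ᵀ := ((Commute.one_left _).add_left (Commute.refl _)).neg_left
  have hpow : ∀ k : ℕ, M ^ k * G * shift K d ^ k = (shift K d)ᵀ ^ k * G := by
    intro k
    induction k with
    | zero => simp
    | succ k ih =>
      calc M ^ (k + 1) * G * shift K d ^ (k + 1) = M ^ k * (M * G * shift K d) * shift K d ^ k := by
            rw [pow_succ, pow_succ']; simp only [mul_assoc]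
        _ = (shift K d)ᵀ * (M ^ k * G * shift K d ^ k) := by
            rw [h1, ← mul_assoc (M ^ k), (hcm.pow_left k).eq]; simp only [mul_assoc]
        _ = _ := by rw [ih, ← mul_assoc, ← pow_succ']
  have hw : w = shift K d ^ (i : ℕ) *ᵥ (G⁻¹ *ᵥ (M ^ (i : ℕ) *ᵥ z)) := by
    have hinj : Function.Injective fun x : Idx d → K => M ^ (i : ℕ) *ᵥ (G *ᵥ x) :=
      (Matrix.mulVec_injective_iff_isUnit.2 (((isUnit_trans hJ hu).neg).pow _)).comp
        (Matrix.mulVec_injective_iff_isUnit.2 hu)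
    refine hinj ?_
    show M ^ (i : ℕ) *ᵥ (G *ᵥ w) = M ^ (i : ℕ) *ᵥ (G *ᵥ _)
    rw [← hS, Matrix.mulVec_mulVec, (hcm.pow_pow _ _).eq]
    simp only [Matrix.mulVec_mulVec]
    congr 1
    rw [← mul_assoc (M ^ (i : ℕ)) G, ← mul_assoc (M ^ (i : ℕ) * G), hpow,
      mul_assoc ((shift K d)ᵀ ^ (i : ℕ)) G, ← mul_assoc G,
      Matrix.mul_nonsing_inv _ ((Matrix.isUnit_iff_isUnit_det _).1 hu), one_mul]
  funext m
  have h2 := congrFun hw (⟨m.1, ⟨d m.1 - 1, by have := hd m.1; omega⟩⟩ : Idx d)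
  simp only [w] at h2
  rw [dif_pos ⟨m.2, by have := hd m.1; omega⟩] at h2
  rw [show v ⟨m.1, m.2⟩ = v m from rfl] at h2
  rw [h2, Matrix.mulVec, dotProduct, Pi.zero_apply]
  refine Finset.sum_eq_zero fun b _ => ?_
  rw [shift_pow_apply, if_neg, zero_mul]
  rintro ⟨-, e2⟩
  have := m.2
  have := hd m.1
  simp only at e2
  omega

include hJ hsym in
theorem block_mul {Y : Matrix (Idx d) (Idx d) K} (hY : Commute (shift K d) Y)
    (i : Fin (Finset.univ.sup d + 1)) : block hd (G * Y) i = block hd G i * proj hd Y i := by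
  classical
  ext k l
  have hl1 := hd l.1
  have hl2 := l.2
  have hk2 := k.2
  rw [Matrix.mul_apply]
  show (G * Y) _ _ = _
  rw [Matrix.mul_apply]
  refine (Fintype.sum_of_injective
    (fun m : KB d i => (⟨m.1, ⟨d m.1 - 1, by have := hd m.1; omega⟩⟩ : Idx d))
    (fun m m' e => Subtype.ext (congrArg Sigma.fst e)) _ _ ?_ ?_).symm
  · intro a ha
    by_contra hne
    obtain ⟨hne1, hne2⟩ := mul_ne_zero_iff.1 hne
    have c1 : ¬ (d a.1 ≤ (a.2 : ℕ) ∨ d k.1 ≤ (a.2 : ℕ)) := fun hc =>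
      hne1 (G_vanish hJ hsym _ _ (by simp only; omega))
    rw [apply_of_commute hd hY _ a _ rfl] at hne2
    split_ifs at hne2 with hle
    · have c2 : adm d ((⟨a.1, ⟨(a.2 : ℕ) - (d l.1 - 1), by omega⟩⟩ : Idx d), l.1) := by
        by_contra hc
        exact hne2 (adm_of_commute hd hY ((⟨a.1, ⟨(a.2 : ℕ) - (d l.1 - 1), by omega⟩⟩ : Idx d), l.1) hc)
      simp only [adm] at c2 hle
      refine ha ⟨⟨a.1, by omega⟩, ?_⟩
      exact congrArg (Sigma.mk _) (Fin.ext (by simp only; omega))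
    · exact hne2 rfl
  · intro m
    show G _ _ * proj hd Y i m l = _
    congr 1
    have hm2 := m.2
    rw [apply_of_commute hd hY _ ⟨m.1, ⟨d m.1 - 1, _⟩⟩ _ rfl, dif_pos (by simp only; omega)]
    exact congrArg (fun x => Y x _) (congrArg (Sigma.mk _) (Fin.ext (by simp only; omega)))

include hJ hsym in
theorem transpose_mul_block {X : Matrix (Idx d) (Idx d) K} (hX : Commute (shift K d) X)
    (i : Fin (Finset.univ.sup d + 1)) : block hd (Xᵀ * G) i = (proj hd X i)ᵀ * block hd G i := by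
  classical
  ext k l
  have hl1 := hd l.1
  have hl2 := l.2
  have hk2 := k.2
  rw [Matrix.mul_apply]
  show (Xᵀ * G) _ _ = _
  rw [Matrix.mul_apply]
  refine (Fintype.sum_of_injective (fun m : KB d i => (⟨m.1, ⟨0, hd m.1⟩⟩ : Idx d))
    (fun m m' e => Subtype.ext (congrArg Sigma.fst e)) _ _ ?_ ?_).symm
  · intro a ha
    by_contra hne
    obtain ⟨hne1, hne2⟩ := mul_ne_zero_iff.1 hne
    have c1 : ¬ (d a.1 ≤ (a.2 : ℕ) + (d l.1 - 1) ∨ d l.1 ≤ (a.2 : ℕ) + (d l.1 - 1)) := fun hc =>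
      hne2 (G_vanish hJ hsym _ _ (by simp only; omega))
    have c2 : adm d (a, k.1) := by
      by_contra hc
      refine hne1 ?_
      rw [Matrix.transpose_apply, adm_of_commute hd hX (a, k.1) hc]
    simp only [adm] at c2
    refine ha ⟨⟨a.1, by omega⟩, ?_⟩
    exact congrArg (Sigma.mk _) (Fin.ext (by simp only; omega))
  · intro m
    rfl


/-- The adjoint of the form. -/
noncomputable def adjT (G X : Matrix (Idx d) (Idx d) K) : Matrix (Idx d) (Idx d) K :=
  G⁻¹ * Xᵀ * G

theorem G_mul_adjT (hu : IsUnit G) (X : Matrix (Idx d) (Idx d) K) : G * adjT G X = Xᵀ * G := by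
  rw [adjT, ← mul_assoc, ← mul_assoc, Matrix.mul_nonsing_inv _ ((Matrix.isUnit_iff_isUnit_det _).1 hu), one_mul]

include hJ in
theorem adjT_commute (hu : IsUnit G) {X : Matrix (Idx d) (Idx d) K} (hX : Commute (shift K d) X) :
    Commute (shift K d) (adjT G X) := by
  suffices h : Commute (1 + shift K d) (adjT G X) by simpa using h.sub_left (Commute.one_left _)
  have hX' : Xᵀ * (1 + (shift K d)ᵀ) = (1 + (shift K d)ᵀ) * Xᵀ := by
    have h := congrArg Matrix.transpose ((Commute.one_left X).add_left hX).eq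
    simpa only [Matrix.transpose_mul, Matrix.transpose_add, Matrix.transpose_one] using h
  refine ((isUnit_trans hJ hu).mul hu).mul_left_cancel ?_
  rw [← mul_assoc, hJ, G_mul_adjT hu, ← mul_assoc, mul_assoc _ G (adjT G X), G_mul_adjT hu,
    ← mul_assoc (1 + (shift K d)ᵀ) Xᵀ, ← hX', mul_assoc Xᵀ, mul_assoc Xᵀ, hJ]

include hJ in
theorem transform_invariant {X : Matrix (Idx d) (Idx d) K} (hX : Commute (shift K d) X) :
    (1 + (shift K d)ᵀ) * (Xᵀ * G * X) * (1 + shift K d) = Xᵀ * G * X := by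
  have h1 : X * (1 + shift K d) = (1 + shift K d) * X := ((Commute.one_left X).add_left hX).eq.symm
  have h2 := congrArg Matrix.transpose h1
  simp only [Matrix.transpose_mul, Matrix.transpose_add, Matrix.transpose_one] at h2
  rw [← mul_assoc, ← mul_assoc, h2, mul_assoc Xᵀ, mul_assoc (Xᵀ * _), h1, ← mul_assoc, mul_assoc Xᵀ, hJ]

include hJ hsym in
theorem block_transform (hu : IsUnit G) {X : Matrix (Idx d) (Idx d) K} (hX : Commute (shift K d) X)
    (i : Fin (Finset.univ.sup d + 1)) :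
    block hd (Xᵀ * G * X) i = (proj hd X i)ᵀ * block hd G i * proj hd X i := by
  rw [← G_mul_adjT hu, mul_assoc, block_mul hd hJ hsym ((adjT_commute hJ hu hX).mul_right hX),
    proj_mul hd (adjT_commute hJ hu hX) hX, ← mul_assoc, ← block_mul hd hJ hsym (adjT_commute hJ hu hX),
    G_mul_adjT hu, transpose_mul_block hd hJ hsym hX]

end General

/-! ### Alternating forms -/

/-- Alternating matrices. -/
def Alt {ι : Type*} (G : Matrix ι ι K) : Prop := Gᵀ = -G ∧ ∀ a, G a a = 0

theorem Alt.sym {ι : Type*} {G : Matrix ι ι K} (h : Alt G) (a b : ι) : G a b = 0 → G b a = 0 := by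
  intro h0
  have h1 := congrFun (congrFun h.1 a) b
  rw [Matrix.transpose_apply, Matrix.neg_apply, h0, neg_zero] at h1
  exact h1

theorem Alt.isAlt {ι : Type*} [Fintype ι] [DecidableEq ι] {G : Matrix ι ι K} (h : Alt G) :
    LinearMap.IsAlt (Matrix.toBilin' G) := fun v => by
  rw [Matrix.toBilin'_apply, ← Fintype.sum_prod_type' (f := fun a b => v a * G a b * v b)]
  refine Finset.sum_involution (fun p _ => p.swap) ?_ ?_ (fun _ _ => Finset.mem_univ _) (fun _ _ => Prod.swap_swap _)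
  · rintro ⟨a, b⟩ -
    have h1 := congrFun (congrFun h.1 a) b
    rw [Matrix.transpose_apply, Matrix.neg_apply] at h1
    simp only [Prod.swap_prod_mk]
    rw [h1]
    ring
  · rintro ⟨a, b⟩ - hne he
    simp only [Prod.swap_prod_mk, Prod.mk.injEq] at he
    obtain ⟨rfl, -⟩ := he
    exact hne (by rw [h.2, mul_zero, zero_mul])

theorem alt_transform {ι : Type*} [Fintype ι] [DecidableEq ι] {G : Matrix ι ι K} (h : Alt G)
    (X : Matrix ι ι K) : Alt (Xᵀ * G * X) := by
  refine ⟨by rw [Matrix.transpose_mul, Matrix.transpose_mul, Matrix.transpose_transpose, h.1]; simp [mul_assoc],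
    fun a => ?_⟩
  have h1 := h.isAlt (fun b => X b a)
  rw [Matrix.toBilin'_apply] at h1
  rw [← h1]
  simp only [Matrix.mul_apply, Matrix.transpose_apply, Finset.sum_mul]
  rw [Finset.sum_comm]

theorem Alt.block_transpose {t : ℕ} {d : Fin t → ℕ} (hd : ∀ k, 1 ≤ d k) {G : Matrix (Idx d) (Idx d) K}
    (hJ : (1 + (shift K d)ᵀ) * G * (1 + shift K d) = G) (h : Alt G) (i : Fin (Finset.univ.sup d + 1)) :
    (block hd G i)ᵀ = (-1 : K) ^ (i : ℕ) • block hd G i ∧ (Odd (i : ℕ) → ∀ k, block hd G i k k = 0) := by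
  have key : ∀ (k l : Fin t) (j : ℕ) (hj : j < d k) (hkl : d k = d l),
      G ⟨k, ⟨d k - 1, by omega⟩⟩ ⟨l, ⟨0, hd l⟩⟩ =
        (-1 : K) ^ j * G ⟨k, ⟨d k - 1 - j, by omega⟩⟩ ⟨l, ⟨j, by omega⟩⟩ := by
    intro k l j
    induction j with
    | zero => intros; simp
    | succ j ih =>
      intro hj hkl
      have e : (⟨k, ⟨d k - 1 - j, by omega⟩⟩ : Idx d) = ⟨k, ⟨d k - 1 - (j + 1) + 1, by omega⟩⟩ :=
        congrArg (Sigma.mk _) (Fin.ext (by simp only; omega))
      rw [ih (by omega) hkl, G_recursion hJ ⟨k, ⟨d k - 1 - (j + 1), by omega⟩⟩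
        ⟨l, ⟨j, by omega⟩⟩ (by simp only; omega), dif_pos (by simp only; omega),
        G_vanish hJ h.sym ⟨k, ⟨d k - 1 - (j + 1) + 1, _⟩⟩ ⟨l, ⟨j + 1, _⟩⟩ (Or.inl (by simp only; omega)),
        add_zero, pow_succ, e]
      ring
  have hswap : ∀ a b, G b a = -G a b := fun a b => by
    have h1 := congrFun (congrFun h.1 a) b
    rwa [Matrix.transpose_apply, Matrix.neg_apply] at h1
  have hflip : ∀ k l : KB d i, block hd G i l k = (-1 : K) ^ (i : ℕ) * block hd G i k l := by
    intro k l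
    have hkl : d k.1 = d l.1 := k.2.trans l.2.symm
    have hk1 := hd k.1
    obtain ⟨n, hn⟩ : ∃ n, (i : ℕ) = n + 1 := ⟨d k.1 - 1, by have := k.2; omega⟩
    have h1 := key k.1 l.1 n (by have := k.2; omega) hkl
    show G ⟨l.1, ⟨0, hd l.1⟩⟩ ⟨k.1, ⟨d k.1 - 1, _⟩⟩ = _ * G ⟨k.1, ⟨0, hd k.1⟩⟩ ⟨l.1, ⟨d l.1 - 1, _⟩⟩
    rw [hswap, h1]
    have e1 : (⟨k.1, ⟨d k.1 - 1 - n, by omega⟩⟩ : Idx d) = ⟨k.1, ⟨0, hd k.1⟩⟩ :=
      congrArg (Sigma.mk _) (Fin.ext (by have := k.2; simp only; omega))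
    have e2 : (⟨l.1, ⟨n, by have := k.2; omega⟩⟩ : Idx d) = ⟨l.1, ⟨d l.1 - 1, by omega⟩⟩ :=
      congrArg (Sigma.mk _) (Fin.ext (by have := k.2; simp only; omega))
    have e3 : (-1 : K) ^ (i : ℕ) = (-1) ^ n * -1 := by rw [hn, pow_succ]
    rw [e1, e2, e3]
    ring
  refine ⟨Matrix.ext fun l k => hflip l k, ?_⟩
  rintro ⟨r, hr⟩ k
  have hk := k.2
  have h1 := key k.1 k.1 r (by omega) rfl
  have e : (⟨k.1, ⟨d k.1 - 1 - r, by omega⟩⟩ : Idx d) = ⟨k.1, ⟨r, by omega⟩⟩ :=
    congrArg (Sigma.mk _) (Fin.ext (by simp only; omega))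
  rw [e, h.2, mul_zero] at h1
  show G ⟨k.1, ⟨0, hd k.1⟩⟩ ⟨k.1, ⟨d k.1 - 1, _⟩⟩ = 0
  rw [hswap, h1, neg_zero]

/-- The coefficients of the model forms. -/
noncomputable def wt (K : Type*) [Field K] (c : ℤ) (n s j : ℕ) : K :=
  if s + j < n then (-1) ^ j * ((Ring.choose (c - j) (n - 1 - s - j) : ℤ) : K) else 0

omit [Fintype K] in
theorem wt_recursion (c : ℤ) (n s j : ℕ) :
    wt K c n s (j + 1) + wt K c n (s + 1) (j + 1) + wt K c n (s + 1) j = 0 := by
  unfold wt
  by_cases h : s + (j + 1) < n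
  · rw [if_pos h, if_pos (show s + 1 + j < n by omega)]
    by_cases h2 : s + 1 + (j + 1) < n
    · rw [if_pos h2]
      obtain ⟨k, hk⟩ : ∃ k, n - 1 - s - (j + 1) = k + 1 := ⟨n - 1 - s - (j + 1) - 1, by omega⟩
      rw [show n - 1 - (s + 1) - (j + 1) = k by omega, show n - 1 - (s + 1) - j = k + 1 by omega, hk,
        show c - (j : ℤ) = c - ((j + 1 : ℕ) : ℤ) + 1 by push_cast; ring, Ring.choose_succ_succ, Int.cast_add,
        pow_succ]
      ring
    · rw [if_neg h2, show n - 1 - s - (j + 1) = 0 by omega, show n - 1 - (s + 1) - j = 0 by omega,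
        Ring.choose_zero_right, Ring.choose_zero_right, pow_succ]
      ring
  · rw [if_neg h, if_neg (show ¬ s + 1 + (j + 1) < n by omega), if_neg (show ¬ s + 1 + j < n by omega)]
    ring

omit [Fintype K] in
theorem wt_antisymm (h s j : ℕ) :
    wt K ((h : ℤ) - 1) (h + h) j s = -wt K ((h : ℤ) - 1) (h + h) s j := by
  unfold wt
  by_cases hc : s + j < h + h
  · rw [if_pos hc, if_pos (by omega : j + s < h + h)]
    set k := h + h - 1 - s - j with hk
    rw [show h + h - 1 - j - s = k by omega,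
      show (h : ℤ) - 1 - (j : ℤ) = -((j : ℤ) - h + 1) by ring, Ring.choose_neg,
      show (j : ℤ) - h + 1 + (k : ℤ) - 1 = (h : ℤ) - 1 - s by omega]
    rw [Units.smul_def, smul_eq_mul, Int.cast_mul, Int.coe_negOnePow_natCast, Int.cast_pow, Int.cast_neg,
      Int.cast_one, ← mul_assoc, ← pow_add, ← neg_mul]
    congr 1
    rw [← neg_one_mul ((-1 : K) ^ (j + k)), ← pow_succ', neg_one_pow_eq_pow_mod_two, neg_one_pow_eq_pow_mod_two (R := K) (j + k + 1)]
    congr 1
    omega
  · rw [if_neg hc, if_neg (by omega : ¬ j + s < h + h), neg_zero]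

omit [Fintype K] in
theorem wt_self (h s : ℕ) : wt K ((h : ℤ) - 1) (h + h) s s = 0 := by
  unfold wt
  split_ifs with hc
  · rw [show (h : ℤ) - 1 - (s : ℤ) = ((h - 1 - s : ℕ) : ℤ) by omega, Ring.choose_natCast,
      Nat.choose_eq_zero_of_lt (by omega)]
    simp
  · rfl

/-- There is a non-degenerate invariant alternating form of every admissible type, with the blocks
scaled at will. -/
theorem exists_model {t : ℕ} (d : Fin t → ℕ) (hd : ∀ k, 1 ≤ d k)
    (hodd : ∀ j : ℕ, Odd j → Even (Finset.univ.filter (fun k : Fin t => d k = j)).card)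
    (δ : Fin t → K) (hδ : ∀ k, δ k ≠ 0) :
    ∃ G : Matrix (Idx d) (Idx d) K, Alt G ∧ IsUnit G ∧
      (1 + (shift K d)ᵀ) * G * (1 + shift K d) = G ∧
      ∀ i : Fin (Finset.univ.sup d + 1), Even (i : ℕ) →
        block hd G i = Matrix.diagonal fun k : KB d i => δ k.1 * (-1) ^ ((i : ℕ) - 1) := by
  classical
  -- pair the blocks of odd size
  have hfib : ∀ c : ℕ, ∃ (τ : Equiv.Perm {k // d k = c}) (L : {k // d k = c} → Bool),
      (∀ x, τ (τ x) = x) ∧ (Even c → ∀ x, τ x = x) ∧ (Odd c → ∀ x, L (τ x) = !L x) := by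
    intro c
    by_cases hc : Odd c
    · obtain ⟨r, hr⟩ := hodd c hc
      let e : {k // d k = c} ≃ Fin r ⊕ Fin r := Fintype.equivOfCardEq (by
        rw [Fintype.card_subtype, Fintype.card_sum, Fintype.card_fin]; exact hr)
      refine ⟨e.trans ((Equiv.sumComm _ _).trans e.symm), fun x => (e x).isLeft, fun x => ?_,
        fun hev => absurd hev (Nat.not_even_iff_odd.2 hc), fun _ x => ?_⟩
      · simp
      · rcases hx : e x with a | a <;> simp [hx]
    · exact ⟨1, fun _ => true, fun x => rfl, fun _ x => rfl, fun h => absurd h hc⟩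
  choose τf Lf hττ hτev hL using hfib
  let τ : Fin t → Fin t := fun k => (τf (d k) ⟨k, rfl⟩).1
  let L : Fin t → Bool := fun k => Lf (d k) ⟨k, rfl⟩
  have hτd : ∀ k, d (τ k) = d k := fun k => (τf (d k) ⟨k, rfl⟩).2
  have hfix : ∀ (k : Fin t) (c : ℕ) (hc : d k = c), τ k = (τf c ⟨k, hc⟩).1 ∧ L k = Lf c ⟨k, hc⟩ := by
    rintro k c rfl
    exact ⟨rfl, rfl⟩
  have hτ2 : ∀ k, τ (τ k) = k := fun k => by
    rw [(hfix (τ k) _ (hτd k)).1]
    exact congrArg Subtype.val (hττ (d k) ⟨k, rfl⟩)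
  have hτeven : ∀ k, Even (d k) → τ k = k := fun k hk => congrArg Subtype.val (hτev _ hk ⟨k, rfl⟩)
  have hLodd : ∀ k, Odd (d k) → L (τ k) = !L k := fun k hk => by
    rw [(hfix (τ k) _ (hτd k)).2]
    exact hL _ hk ⟨k, rfl⟩
  let c : ℕ → ℤ := fun n => ((n / 2 : ℕ) : ℤ) - 1
  let g : Fin t → ℕ → ℕ → K := fun k s j =>
    if Even (d k) then δ k * wt K (c (d k)) (d k) s j
    else if L k then wt K (c (d k)) (d k) s j else -wt K (c (d k)) (d k) j s
  have hgrec : ∀ k s j, g k s (j + 1) + g k (s + 1) (j + 1) + g k (s + 1) j = 0 := by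
    intro k s j
    have h1 := wt_recursion (K := K) (c (d k)) (d k) s j
    have h2 := wt_recursion (K := K) (c (d k)) (d k) j s
    simp only [g]
    split_ifs
    · linear_combination δ k * h1
    · exact h1
    · linear_combination -h2
  have hgzero : ∀ k s j, d k ≤ s + j → g k s j = 0 := by
    intro k s j h
    have h1 : wt K (c (d k)) (d k) s j = 0 := if_neg (by omega)
    have h2 : wt K (c (d k)) (d k) j s = 0 := if_neg (by omega)
    simp [g, h1, h2]
  have hgswap : ∀ k s j, g (τ k) j s = -g k s j := by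
    intro k s j
    by_cases hev : Even (d k)
    · obtain ⟨h, hh⟩ := hev
      simp only [g, hτeven k ⟨h, hh⟩, if_pos (show Even (d k) from ⟨h, hh⟩)]
      rw [show c (d k) = (h : ℤ) - 1 by simp only [c]; omega, hh, wt_antisymm, mul_neg]
    · have hL' := hLodd k (Nat.not_even_iff_odd.1 hev)
      simp only [g, hτd, if_neg hev, hL']
      cases L k <;> simp
  let G : Matrix (Idx d) (Idx d) K := fun a b => if b.1 = τ a.1 then g a.1 a.2 b.2 else 0
  have hrec : ∀ a b : Idx d, (b.2 : ℕ) + 1 < d b.1 → ∀ hb, G a ⟨b.1, ⟨b.2 + 1, hb⟩⟩ =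
      -(if h : (a.2 : ℕ) + 1 < d a.1 then
        G ⟨a.1, ⟨a.2 + 1, h⟩⟩ b + G ⟨a.1, ⟨a.2 + 1, h⟩⟩ ⟨b.1, ⟨b.2 + 1, hb⟩⟩ else 0) := by
    intro a b _ hb
    simp only [G]
    by_cases hτa : b.1 = τ a.1
    · simp only [if_pos hτa]
      split_ifs with h
      · linear_combination hgrec a.1 a.2 b.2
      · rw [hgzero _ _ _ (by omega), neg_zero]
    · simp only [if_neg hτa]
      split_ifs <;> simp
  have hJ : (1 + (shift K d)ᵀ) * G * (1 + shift K d) = G := by
    suffices h : G * shift K d + (shift K d)ᵀ * (G + G * shift K d) = 0 by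
      calc (1 + (shift K d)ᵀ) * G * (1 + shift K d)
          = G + (G * shift K d + (shift K d)ᵀ * (G + G * shift K d)) := by noncomm_ring
        _ = G := by rw [h, add_zero]
    ext a b
    have hT : ∀ M : Matrix (Idx d) (Idx d) K, ((shift K d)ᵀ * M) a b =
        if h : (a.2 : ℕ) + 1 < d a.1 then M ⟨a.1, ⟨a.2 + 1, h⟩⟩ b else 0 := by
      intro M
      rw [show ((shift K d)ᵀ * M) a b = (Mᵀ * shift K d) b a by
        rw [← Matrix.transpose_apply (((shift K d)ᵀ) * M), Matrix.transpose_mul, Matrix.transpose_transpose],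
        mul_shift]
      rfl
    rw [Matrix.add_apply, Matrix.zero_apply, hT, mul_shift]
    by_cases hb : (b.2 : ℕ) + 1 < d b.1
    · rw [dif_pos hb, hrec a b hb hb]
      split_ifs with h
      · rw [Matrix.add_apply, mul_shift, dif_pos hb]; ring
      · ring
    · rw [dif_neg hb, zero_add]
      split_ifs with h
      · rw [Matrix.add_apply, mul_shift, dif_neg hb, add_zero]
        simp only [G]
        split_ifs with hτa
        · refine hgzero _ _ _ ?_
          have : d b.1 = d a.1 := by rw [hτa, hτd]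
          omega
        · rfl
      · rfl
  have hskew : Gᵀ = -G := by
    ext a b
    show (if a.1 = τ b.1 then g b.1 b.2 a.2 else 0) = -(if b.1 = τ a.1 then g a.1 a.2 b.2 else 0)
    by_cases h : b.1 = τ a.1
    · rw [if_pos h, if_pos (by rw [h, hτ2])]
      have e := hgswap a.1 a.2 b.2
      rw [← h] at e
      exact e
    · rw [if_neg h, if_neg (fun e => h (by rw [e, hτ2])), neg_zero]
  have hdiag : ∀ a, G a a = 0 := by
    intro a
    simp only [G]
    split_ifs with h
    · by_cases hev : Even (d a.1)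
      · obtain ⟨r, hr⟩ := hev
        simp only [g, if_pos (show Even (d a.1) from ⟨r, hr⟩)]
        obtain ⟨s', hs'⟩ : ∃ s', (a.2 : ℕ) = s' := ⟨_, rfl⟩
        rw [hs', show c (d a.1) = (r : ℤ) - 1 by simp only [c]; omega, hr, wt_self, mul_zero]
      · have := hLodd a.1 (Nat.not_even_iff_odd.1 hev)
        rw [← h] at this
        cases hLa : L a.1 <;> simp [hLa] at this
    · rfl
  have htop : ∀ (k : Fin t) (s : ℕ) (j : ℕ), s + j + 1 = d k → g k s j ≠ 0 := by
    intro k s j h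
    have h1 : wt K (c (d k)) (d k) s j = (-1) ^ j := by
      rw [wt, if_pos (by omega), show d k - 1 - s - j = 0 by omega, Ring.choose_zero_right, Int.cast_one, mul_one]
    have h2 : wt K (c (d k)) (d k) j s = (-1) ^ s := by
      rw [wt, if_pos (by omega), show d k - 1 - j - s = 0 by omega, Ring.choose_zero_right, Int.cast_one, mul_one]
    simp only [g, h1, h2]
    split_ifs
    · exact mul_ne_zero (hδ k) (pow_ne_zero _ (neg_ne_zero.2 one_ne_zero))
    · exact pow_ne_zero _ (neg_ne_zero.2 one_ne_zero)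
    · exact neg_ne_zero.2 (pow_ne_zero _ (neg_ne_zero.2 one_ne_zero))
  refine ⟨G, ⟨hskew, hdiag⟩, ?_, hJ, ?_⟩
  · rw [← Matrix.mulVec_injective_iff_isUnit]
    suffices key : ∀ v, G *ᵥ v = 0 → v = 0 by
      intro u v huv
      exact sub_eq_zero.1 (key _ (by rw [Matrix.mulVec_sub, huv, sub_self]))
    intro v hv
    suffices H : ∀ (j : ℕ) (b : Idx d), (b.2 : ℕ) = j → v b = 0 from funext fun b => H _ b rfl
    intro j
    induction j using Nat.strong_induction_on with
    | _ j ih =>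
    intro b hb
    have hdb : d (τ b.1) = d b.1 := hτd _
    have hb2 := b.2.2
    have h := congrFun hv ⟨τ b.1, ⟨d b.1 - 1 - b.2, by omega⟩⟩
    rw [Matrix.mulVec, dotProduct, Pi.zero_apply, Finset.sum_eq_single b ?_ (by simp)] at h
    · simp only [G, hτ2] at h
      exact (mul_eq_zero.1 h).resolve_left (htop _ _ _ (by omega))
    · intro a _ hab
      simp only [G, hτ2]
      split_ifs with ha
      · obtain ⟨l, i⟩ := a
        obtain ⟨l', i'⟩ := b
        change l = l' at ha
        subst ha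
        rcases lt_trichotomy (i : ℕ) i' with hi | hi | hi
        · have hb' : (i' : ℕ) = j := hb
          rw [ih (i : ℕ) (by omega) ⟨l, i⟩ rfl, mul_zero]
        · exact absurd (congrArg (Sigma.mk l) (Fin.ext hi)) hab
        · have q1 : (i' : ℕ) < d l := i'.2
          have q2 : d (τ l) = d l := hτd l
          rw [hgzero _ _ _ (show d (τ l) ≤ d l - 1 - (i' : ℕ) + (i : ℕ) by omega), zero_mul]
      · rw [zero_mul]
  · intro i hi
    ext k l
    have hk := k.2
    have hkev : Even (d k.1) := hk.symm ▸ hi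
    show G ⟨k.1, ⟨0, hd k.1⟩⟩ ⟨l.1, ⟨d l.1 - 1, _⟩⟩ = _
    simp only [G, hτeven k.1 hkev, Matrix.diagonal_apply]
    by_cases hkl : l.1 = k.1
    · rw [if_pos hkl, if_pos (Subtype.ext hkl.symm)]
      simp only [g, if_pos hkev]
      rw [wt, if_pos (by rw [hkl]; have := hd k.1; omega),
        show d k.1 - 1 - 0 - (d l.1 - 1) = 0 by rw [hkl]; omega, Ring.choose_zero_right, Int.cast_one, mul_one,
        hkl, hk]
    · rw [if_neg hkl, if_neg (fun e => hkl (congrArg Subtype.val e).symm)]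

/-- Odd blocks of an alternating invariant form are paired. -/
theorem even_card_of_odd {t : ℕ} {d : Fin t → ℕ} (hd : ∀ k, 1 ≤ d k) {G : Matrix (Idx d) (Idx d) K}
    (hJ : (1 + (shift K d)ᵀ) * G * (1 + shift K d) = G) (h : Alt G) (hu : IsUnit G)
    (i : Fin (Finset.univ.sup d + 1)) (hi : Odd (i : ℕ)) : Even (Fintype.card (KB d i)) := by
  classical
  obtain ⟨h1, h2⟩ := h.block_transpose hd hJ i
  have hA : Alt (block hd G i) := ⟨by rw [h1, hi.neg_one_pow, neg_smul, one_smul], h2 hi⟩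
  have hB : (Matrix.toBilin' (block hd G i)).Nondegenerate :=
    Matrix.nondegenerate_toBilin'_iff.2 (Matrix.nondegenerate_of_det_ne_zero
      ((Matrix.isUnit_iff_isUnit_det _).1 (block_isUnit hd hJ h.sym hu i)).ne_zero)
  obtain ⟨m, b, -⟩ := FormsLib.exists_symplectic_basis_nondeg hA.isAlt hB
  have h3 := Module.finrank_eq_card_basis b
  rw [Module.finrank_fintype_fun_eq_card, Fintype.card_sum, Fintype.card_fin] at h3
  exact ⟨m, h3⟩

/-- Forms give symplectic elements. -/
theorem exists_symplectic_of_form {t m : ℕ} {d : Fin t → ℕ} (hsum : Fintype.card (Idx d) = m + m)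
    {G : Matrix (Idx d) (Idx d) K} (hJ : (1 + (shift K d)ᵀ) * G * (1 + shift K d) = G) (h : Alt G)
    (hu : IsUnit G) :
    ∃ (M : Matrix (Idx d) (Fin m ⊕ Fin m) K) (N : Matrix (Fin m ⊕ Fin m) (Idx d) K)
      (A : Matrix.symplecticGroup (Fin m) K), M * N = 1 ∧ N * M = 1 ∧ Mᵀ * G * M = Matrix.J (Fin m) K ∧
      (A : Matrix (Fin m ⊕ Fin m) (Fin m ⊕ Fin m) K) = N * Cfsg.jordanTypeMatrix d K * M := by
  classical
  have hnd : (Matrix.toBilin' G).Nondegenerate :=
    Matrix.nondegenerate_toBilin'_iff.2 (Matrix.nondegenerate_of_det_ne_zero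
      ((Matrix.isUnit_iff_isUnit_det _).1 hu).ne_zero)
  obtain ⟨E, hE⟩ := FormModel.exists_symp_coords h.isAlt hnd.1
    (by rw [Module.finrank_fintype_fun_eq_card, hsum, two_mul] : Module.finrank K (Idx d → K) = 2 * m)
  set M := LinearMap.toMatrix' E.toLinearMap with hM
  set N := LinearMap.toMatrix' E.symm.toLinearMap with hN
  have hMN : M * N = 1 := by rw [hM, hN, ← LinearMap.toMatrix'_comp]; simp
  have hNM : N * M = 1 := by rw [hM, hN, ← LinearMap.toMatrix'_comp]; simp
  have hG : Mᵀ * G * M = Matrix.J (Fin m) K := by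
    apply Matrix.toBilin'.injective
    refine LinearMap.ext₂ fun u v => ?_
    rw [← Matrix.toBilin'_comp, LinearMap.BilinForm.comp_apply, Matrix.toLin'_apply, Matrix.toLin'_apply,
      hM, LinearMap.toMatrix'_mulVec, LinearMap.toMatrix'_mulVec]
    exact hE u v
  have hmem : N * Cfsg.jordanTypeMatrix d K * M ∈ Matrix.symplecticGroup (Fin m) K := by
    rw [SymplecticGroup.mem_iff', ← hG,
      show Cfsg.jordanTypeMatrix d K = 1 + shift K d by rw [shift, add_sub_cancel]]
    calc (N * (1 + shift K d) * M)ᵀ * (Mᵀ * G * M) * (N * (1 + shift K d) * M)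
        = Mᵀ * (1 + (shift K d)ᵀ) * (M * N)ᵀ * G * (M * N) * (1 + shift K d) * M := by
          simp only [Matrix.transpose_mul, Matrix.transpose_add, Matrix.transpose_one, Matrix.mul_assoc]
      _ = Mᵀ * ((1 + (shift K d)ᵀ) * G * (1 + shift K d)) * M := by
          rw [hMN, Matrix.transpose_one, Matrix.mul_one, Matrix.mul_one]; simp only [Matrix.mul_assoc]
      _ = Mᵀ * G * M := by rw [hJ]
  exact ⟨M, N, ⟨_, hmem⟩, hMN, hNM, hG, rfl⟩

/-- Symplectic elements give forms. -/
theorem form_of_symplectic {t m : ℕ} {d : Fin t → ℕ} (A : Matrix.symplecticGroup (Fin m) K)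
    (M : Matrix (Fin m ⊕ Fin m) (Idx d) K) (N : Matrix (Idx d) (Fin m ⊕ Fin m) K) (hMN : M * N = 1)
    (h : (A : Matrix (Fin m ⊕ Fin m) (Fin m ⊕ Fin m) K) * M = M * Cfsg.jordanTypeMatrix d K) :
    (1 + (shift K d)ᵀ) * (Mᵀ * Matrix.J (Fin m) K * M) * (1 + shift K d) = Mᵀ * Matrix.J (Fin m) K * M ∧
      Alt (Mᵀ * Matrix.J (Fin m) K * M) ∧ (∀ hsum : N * M = 1, IsUnit (Mᵀ * Matrix.J (Fin m) K * M)) := by
  classical
  have hA := SymplecticGroup.mem_iff'.1 A.2
  rw [show Cfsg.jordanTypeMatrix d K = 1 + shift K d by rw [shift, add_sub_cancel]] at h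
  refine ⟨?_, ?_, fun hNM => ?_⟩
  · calc (1 + (shift K d)ᵀ) * (Mᵀ * Matrix.J (Fin m) K * M) * (1 + shift K d)
        = (M * (1 + shift K d))ᵀ * Matrix.J (Fin m) K * (M * (1 + shift K d)) := by
          simp only [Matrix.transpose_mul, Matrix.transpose_add, Matrix.transpose_one, Matrix.mul_assoc]
      _ = Mᵀ * ((A : Matrix (Fin m ⊕ Fin m) (Fin m ⊕ Fin m) K)ᵀ * Matrix.J (Fin m) K *
            (A : Matrix (Fin m ⊕ Fin m) (Fin m ⊕ Fin m) K)) * M := by
          rw [← h]; simp only [Matrix.transpose_mul, Matrix.mul_assoc]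
      _ = _ := by rw [hA]
  · refine ⟨by rw [Matrix.transpose_mul, Matrix.transpose_mul, Matrix.transpose_transpose, Matrix.J_transpose,
      Matrix.neg_mul, Matrix.mul_neg, Matrix.mul_assoc], fun a => ?_⟩
    have h1 := FormsLib.spB_alt (m := m) (F := K) (fun b => M b a)
    rw [FormsLib.spB_apply] at h1
    rw [← h1, Matrix.mul_assoc, Matrix.mul_apply]
    simp [dotProduct, Matrix.mulVec, Matrix.mul_apply]
  · have hJu : IsUnit (Matrix.J (Fin m) K).det := Matrix.isUnit_det_J (Fin m) K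
    refine ⟨⟨Mᵀ * Matrix.J (Fin m) K * M, N * (Matrix.J (Fin m) K)⁻¹ * Nᵀ, ?_, ?_⟩, rfl⟩
    · calc Mᵀ * Matrix.J (Fin m) K * M * (N * (Matrix.J (Fin m) K)⁻¹ * Nᵀ)
          = Mᵀ * (Matrix.J (Fin m) K * (M * N) * (Matrix.J (Fin m) K)⁻¹) * Nᵀ := by simp only [Matrix.mul_assoc]
        _ = 1 := by rw [hMN, Matrix.mul_one, Matrix.mul_nonsing_inv _ hJu, Matrix.mul_one, ← Matrix.transpose_mul,
            hNM, Matrix.transpose_one]
    · calc N * (Matrix.J (Fin m) K)⁻¹ * Nᵀ * (Mᵀ * Matrix.J (Fin m) K * M)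
          = N * ((Matrix.J (Fin m) K)⁻¹ * (M * N)ᵀ * Matrix.J (Fin m) K) * M := by
            simp only [Matrix.transpose_mul, Matrix.mul_assoc]
        _ = 1 := by rw [hMN, Matrix.transpose_one, Matrix.mul_one, Matrix.nonsing_inv_mul _ hJu, Matrix.mul_one, hNM]

/-! ### Congruence of invariant forms -/

/-- Invertible symmetric matrices with the same discriminant are congruent. -/
theorem exists_congr_sym (h2 : (2 : K) ≠ 0) {ι : Type*} [Fintype ι] [DecidableEq ι] (M M' : Matrix ι ι K)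
    (hM : Mᵀ = M) (hM' : M'ᵀ = M') (hu : M.det ≠ 0) (hu' : M'.det ≠ 0)
    (hsq : IsSquare (M.det * M'.det)) : ∃ y : Matrix ι ι K, yᵀ * M * y = M' := by
  classical
  let e := Fintype.equivFin ι
  let R := Matrix.reindexAlgEquiv K K e
  let Q : Matrix (Fin (Fintype.card ι)) (Fin (Fintype.card ι)) K →
      QuadraticForm K (Fin (Fintype.card ι) → K) := fun X => (Matrix.toBilin' ((2 : K)⁻¹ • X)).toQuadraticMap
  have hpol : ∀ X : Matrix (Fin (Fintype.card ι)) (Fin (Fintype.card ι)) K, Xᵀ = X →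
      ∀ u v, QuadraticMap.polar (Q X) u v = Matrix.toBilin' X u v := by
    intro X hX u v
    rw [show QuadraticMap.polar (Q X) u v = Matrix.toBilin' ((2 : K)⁻¹ • X) u v + Matrix.toBilin' ((2 : K)⁻¹ • X) v u
      from LinearMap.BilinMap.polar_toQuadraticMap u v]
    rw [map_smul, LinearMap.smul_apply, LinearMap.smul_apply, LinearMap.smul_apply, LinearMap.smul_apply,
      show Matrix.toBilin' X v u = Matrix.toBilin' X u v by
        rw [Matrix.toBilin'_apply', Matrix.toBilin'_apply', dotProduct_comm, ← Matrix.vecMul_transpose, hX,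
          ← Matrix.dotProduct_mulVec],
      smul_eq_mul]
    field_simp
    ring
  have hR : ∀ X : Matrix ι ι K, Xᵀ = X → (R X)ᵀ = R X := fun X hX => by
    show (Matrix.reindex e e X)ᵀ = Matrix.reindex e e X
    rw [Matrix.transpose_reindex, hX]
  have hnd : ∀ X : Matrix ι ι K, Xᵀ = X → X.det ≠ 0 → (QuadraticMap.polarBilin (Q (R X))).Nondegenerate := by
    intro X hX hXu
    rw [show QuadraticMap.polarBilin (Q (R X)) = Matrix.toBilin' (R X) from
      LinearMap.ext₂ fun u v => hpol _ (hR X hX) u v]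
    exact Matrix.nondegenerate_toBilin'_iff.2 (Matrix.nondegenerate_of_det_ne_zero
      (by show (Matrix.reindex e e X).det ≠ 0; rwa [Matrix.det_reindex_self]))
  have hgram : ∀ X : Matrix ι ι K, Xᵀ = X → Spinor.gramMat (Q (R X)) = R X := fun X hX => by
    ext i j
    rw [Spinor.gramMat, Matrix.of_apply, hpol _ (hR X hX), Matrix.toBilin'_single]
  obtain ⟨g, hg⟩ := (Spinor.isometric_iff h2 (Q (R M')) (Q (R M)) (hnd _ hM' hu') (hnd _ hM hu)).2 (by
    rw [hgram _ hM', hgram _ hM]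
    show IsSquare ((Matrix.reindex e e M').det * (Matrix.reindex e e M).det)
    rwa [Matrix.det_reindex_self, Matrix.det_reindex_self, mul_comm])
  have key : (LinearMap.toMatrix' g.toLinearMap)ᵀ * R M * LinearMap.toMatrix' g.toLinearMap = R M' := by
    apply Matrix.toBilin'.injective
    refine LinearMap.ext₂ fun u v => ?_
    rw [← Matrix.toBilin'_comp, LinearMap.BilinForm.comp_apply, Matrix.toLin'_apply, Matrix.toLin'_apply,
      LinearMap.toMatrix'_mulVec, LinearMap.toMatrix'_mulVec, ← hpol _ (hR M hM), ← hpol _ (hR M' hM')]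
    simp [QuadraticMap.polar, ← map_add, hg]
  refine ⟨R.symm (LinearMap.toMatrix' g.toLinearMap), R.injective ?_⟩
  rw [map_mul, map_mul, R.apply_symm_apply,
    show R ((R.symm (LinearMap.toMatrix' g.toLinearMap))ᵀ) = (R (R.symm (LinearMap.toMatrix' g.toLinearMap)))ᵀ
      from rfl, R.apply_symm_apply]
  exact key

/-- Invertible alternating matrices are congruent. -/
theorem exists_congr_alt {ι : Type*} [Fintype ι] [DecidableEq ι] (M M' : Matrix ι ι K)
    (hM : Alt M) (hM' : Alt M') (hu : M.det ≠ 0) (hu' : M'.det ≠ 0) : ∃ y : Matrix ι ι K, yᵀ * M * y = M' := by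
  classical
  have hnd : ∀ X : Matrix ι ι K, X.det ≠ 0 → (Matrix.toBilin' X).Nondegenerate := fun X h =>
    Matrix.nondegenerate_toBilin'_iff.2 (Matrix.nondegenerate_of_det_ne_zero h)
  obtain ⟨r, b, -⟩ := FormsLib.exists_symplectic_basis_nondeg hM.isAlt (hnd M hu)
  have hdim : Module.finrank K (ι → K) = 2 * r := by
    rw [Module.finrank_eq_card_basis b, Fintype.card_sum, Fintype.card_fin, two_mul]
  obtain ⟨E, hE⟩ := FormModel.exists_symp_coords hM.isAlt (hnd M hu).1 hdim
  obtain ⟨E', hE'⟩ := FormModel.exists_symp_coords hM'.isAlt (hnd M' hu').1 hdim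
  refine ⟨LinearMap.toMatrix' (E'.symm.trans E).toLinearMap, Matrix.toBilin'.injective
    (LinearMap.ext₂ fun u v => ?_)⟩
  rw [← Matrix.toBilin'_comp, LinearMap.BilinForm.comp_apply, Matrix.toLin'_apply, Matrix.toLin'_apply,
    LinearMap.toMatrix'_mulVec, LinearMap.toMatrix'_mulVec]
  show Matrix.toBilin' M (E (E'.symm u)) (E (E'.symm v)) = _
  rw [hE, ← hE', E'.apply_symm_apply, E'.apply_symm_apply]

omit [Fintype K] in
/-- Square roots of truncated polynomials. -/
theorem exists_sqrt_poly (h2 : (2 : K) ≠ 0) (k : ℕ) : ∃ f r : K[X], f.coeff 0 = 1 ∧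
    f * f = 1 + X + X ^ (k + 1) * r := by
  induction k with
  | zero => exact ⟨1, -1, by simp, by simp⟩
  | succ k ih =>
    obtain ⟨f, r, hf, h⟩ := ih
    set a : K := -(2⁻¹ * r.coeff 0) with ha
    obtain ⟨g, hg⟩ : (X : K[X]) ∣ r + 2 * (f * C a) + X ^ (k + 1) * (C a * C a) := by
      rw [X_dvd_iff, show (2 : K[X]) = C 2 from (map_ofNat C 2).symm]
      simp only [coeff_add, mul_coeff_zero, coeff_C_zero, coeff_X_pow, hf]
      rw [if_neg (Nat.succ_ne_zero k).symm, ha]
      field_simp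
      ring
    refine ⟨f + X ^ (k + 1) * C a, g, ?_, ?_⟩
    · rw [coeff_add, mul_coeff_zero, coeff_X_pow, if_neg (Nat.succ_ne_zero k).symm, zero_mul, add_zero, hf]
    · linear_combination h + X ^ (k + 1) * hg

/-- Invariant alternating forms with congruent blocks are congruent under the centraliser. -/
theorem exists_congr (h2 : (2 : K) ≠ 0) {t : ℕ} {d : Fin t → ℕ} (hd : ∀ k, 1 ≤ d k)
    {G G' : Matrix (Idx d) (Idx d) K}
    (hJ : (1 + (shift K d)ᵀ) * G * (1 + shift K d) = G) (hG : Alt G) (hu : IsUnit G)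
    (hJ' : (1 + (shift K d)ᵀ) * G' * (1 + shift K d) = G') (hG' : Alt G') (hu' : IsUnit G')
    (hblocks : ∀ i, ∃ y, yᵀ * block hd G i * y = block hd G' i) :
    ∃ X : Matrix (Idx d) (Idx d) K, Commute (shift K d) X ∧ IsUnit X ∧ Xᵀ * G * X = G' := by
  classical
  haveI : Finite (Matrix (Idx d) (Idx d) K) := inferInstanceAs (Finite (Idx d → Idx d → K))
  choose y hy using hblocks
  have hyu : ∀ i, IsUnit (y i) := fun i => by
    have h1 := (Matrix.isUnit_iff_isUnit_det _).1 (block_isUnit hd hJ' hG'.sym hu' i)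
    rw [← hy, Matrix.det_mul] at h1
    exact (Matrix.isUnit_iff_isUnit_det _).2 (IsUnit.mul_iff.1 h1).2
  set X₀ := ofCols (colsM (0 : Rest d → K) y) with hX₀
  have hX₀c : Commute (shift K d) X₀ := ofCols_commute (colsM_adm _ _)
  have hX₀p : ∀ i, proj hd X₀ i = y i := fun i => proj_colsM hd _ _ i
  have hX₀u : IsUnit X₀ := isUnit_of_proj hd hX₀c fun i => by rw [hX₀p]; exact hyu i
  set G₁ := X₀ᵀ * G * X₀ with hG₁
  have hJ₁ : (1 + (shift K d)ᵀ) * G₁ * (1 + shift K d) = G₁ := transform_invariant hJ hX₀c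
  have hA₁ : Alt G₁ := alt_transform hG X₀
  have hu₁ : IsUnit G₁ := ((Matrix.isUnit_transpose X₀).2 hX₀u |>.mul hu).mul hX₀u
  have hblock : ∀ i, block hd G₁ i = block hd G' i := fun i => by
    rw [hG₁, block_transform hd hJ hG.sym hu hX₀c, hX₀p, hy]
  have hdet₁ := (Matrix.isUnit_iff_isUnit_det _).1 hu₁
  set Y := G₁⁻¹ * G' with hY
  have hGY : G₁ * Y = G' := by rw [hY, Matrix.mul_nonsing_inv_cancel_left _ _ hdet₁]
  have hYc : Commute (shift K d) Y := by
    suffices h : Commute (1 + shift K d) Y by simpa using h.sub_left (Commute.one_left _)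
    refine ((isUnit_trans hJ₁ hu₁).mul hu₁).mul_left_cancel ?_
    rw [← mul_assoc, hJ₁, hGY, ← mul_assoc, mul_assoc _ G₁ Y, hGY, hJ']
  set s := Y - 1 with hs
  have hsc : Commute (shift K d) s := hYc.sub_right (Commute.one_right _)
  have hs0 : ∀ i, proj hd s i = 0 := fun i => by
    rw [hs, proj_sub, proj_one hd, sub_eq_zero]
    refine (block_isUnit hd hJ₁ hA₁.sym hu₁ i).mul_left_cancel ?_
    rw [← block_mul hd hJ₁ hA₁.sym hYc, hGY, mul_one, hblock]
  have hsA : sᵀ * G₁ = G₁ * s := by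
    have h := congrArg Matrix.transpose hGY
    rw [Matrix.transpose_mul, hA₁.1, hG'.1, mul_neg, neg_inj, ← hGY] at h
    rw [hs, Matrix.transpose_sub, Matrix.transpose_one, sub_mul, one_mul, mul_sub, mul_one, h]
  obtain ⟨a, ha⟩ : ∃ a, s ^ a = 0 := by
    obtain ⟨a, b, hab, he⟩ := Finite.exists_ne_map_eq_of_infinite (fun k : ℕ => s ^ k)
    wlog hlt : a < b generalizing a b
    · exact this b a hab.symm he.symm (by omega)
    refine ⟨a, ?_⟩
    have hu1 : IsUnit (1 - s ^ (b - a)) := by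
      refine isUnit_of_proj hd ((Commute.one_right _).sub_right (hsc.pow_right _)) fun i => ?_
      obtain ⟨k, hk⟩ : ∃ k, b - a = k + 1 := ⟨b - a - 1, by omega⟩
      rw [proj_sub, proj_one hd, hk, pow_succ', proj_mul hd hsc (hsc.pow_right _), hs0, zero_mul, sub_zero]
      exact isUnit_one
    refine hu1.mul_left_eq_zero.1 ?_
    rw [mul_sub, mul_one, ← pow_add, show a + (b - a) = b by omega, ← show s ^ a = s ^ b from he, sub_self]
  obtain ⟨f, r, hf0, hf⟩ := exists_sqrt_poly (K := K) h2 a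
  set x := aeval s f with hx
  have hxA : ∀ g : K[X], (aeval s g)ᵀ * G₁ = G₁ * aeval s g := by
    intro g
    induction g using Polynomial.induction_on' with
    | add g g' hg hg' => rw [map_add, Matrix.transpose_add, add_mul, mul_add, hg, hg']
    | monomial k c =>
      rw [aeval_monomial, ← Algebra.smul_def, Matrix.transpose_smul, Algebra.smul_mul_assoc,
        Algebra.mul_smul_comm]
      congr 1
      induction k with
      | zero => simp
      | succ k ih => rw [pow_succ, Matrix.transpose_mul, mul_assoc, ih, ← mul_assoc, hsA, mul_assoc,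
          (Commute.self_pow s k).eq]
  have hxc : Commute (shift K d) x := commute_aeval hsc f
  have hxu : IsUnit x := isUnit_of_proj hd hxc fun i => by
    rw [hx, proj_aeval hd hsc i (hs0 i), hf0, one_smul]
    exact isUnit_one
  refine ⟨X₀ * x, hX₀c.mul_right hxc, hX₀u.mul hxu, ?_⟩
  rw [Matrix.transpose_mul, show xᵀ * X₀ᵀ * G * (X₀ * x) = xᵀ * G₁ * x by rw [hG₁]; simp only [mul_assoc],
    hxA, mul_assoc, ← map_mul, hf, map_add, map_add, map_one, aeval_X, map_mul, map_pow, aeval_X, pow_succ, ha,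
    zero_mul, zero_mul, add_zero, hs, add_sub_cancel, hGY]

end Cfsg.Agent.UnipotentForms
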