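import Cfsg.Agent.Lib.Forms.Alt
import Mathlib

/-!
The matrix symplectic group as the isometry group of its alternating form.
-/

set_option autoImplicit false

namespace Cfsg.Agent.FormsLib

open scoped Matrix

variable {F : Type*} [Field F] {m : ℕ}

/-- The standard alternating form `u ⬝ J v`. -/
noncomputable def spB (m : ℕ) (F : Type*) [Field F] : LinearMap.BilinForm F (Fin m ⊕ Fin m → F) :=
  Matrix.toBilin' (Matrix.J (Fin m) F)

theorem spB_apply (u v : Fin m ⊕ Fin m → F) : spB m F u v = u ⬝ᵥ (Matrix.J (Fin m) F *ᵥ v) :=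
  Matrix.toBilin'_apply' _ _ _

theorem spB_expand (u v : Fin m ⊕ Fin m → F) :
    spB m F u v = ∑ i, (u (.inr i) * v (.inl i) - u (.inl i) * v (.inr i)) := by
  rw [spB_apply]
  simp [Matrix.J, Matrix.mulVec, dotProduct, Fintype.sum_sum_type, Matrix.fromBlocks, Matrix.one_apply,
    Finset.sum_sub_distrib]
  ring

theorem spB_alt : LinearMap.IsAlt (spB m F) := fun v => by
  rw [spB_expand]
  simp [mul_comm]

theorem spB_nondeg : LinearMap.Nondegenerate (spB m F) :=
  LinearMap.BilinForm.nondegenerate_toBilin'_of_det_ne_zero' _ (Matrix.isUnit_det_J (Fin m) F).ne_zero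

theorem spB_trace : IsTraceForm (RingHom.id F) (-1) (spB m F) :=
  isTraceForm_of_isAlt spB_alt spB_nondeg

/-- The isometry group of the standard alternating form. -/
noncomputable abbrev SpIso (m : ℕ) (F : Type*) [Field F] :
    Subgroup ((Fin m ⊕ Fin m → F) ≃ₗ[F] (Fin m ⊕ Fin m → F)) :=
  isoGroup (spB m F)

theorem mem_symplectic_iff (A : Matrix (Fin m ⊕ Fin m) (Fin m ⊕ Fin m) F) :
    A ∈ Matrix.symplecticGroup (Fin m) F ↔ ∀ u v, spB m F (A *ᵥ u) (A *ᵥ v) = spB m F u v := by
  have key : ∀ u v, spB m F (A *ᵥ u) (A *ᵥ v) =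
      Matrix.toBilin' (Aᵀ * Matrix.J (Fin m) F * A) u v := fun u v => by
    rw [spB_apply, Matrix.toBilin'_apply', ← Matrix.mulVec_mulVec, ← Matrix.mulVec_mulVec,
      Matrix.dotProduct_mulVec u Aᵀ, Matrix.vecMul_transpose]
  rw [SymplecticGroup.mem_iff']
  refine ⟨fun h u v => by rw [key, h]; rfl, fun h => ?_⟩
  apply Matrix.toBilin'.injective
  exact LinearMap.ext₂ fun u v => (key u v).symm.trans (h u v)

/-- The matrix group and the isometry group agree. -/
noncomputable def spEquiv (m : ℕ) (F : Type*) [Field F] :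
    Matrix.symplecticGroup (Fin m) F ≃* SpIso m F where
  toFun A := ⟨LinearEquiv.ofLinearMap (Matrix.toLin' (R := F) (m := Fin m ⊕ Fin m) (n := Fin m ⊕ Fin m) A.1) (Matrix.toLin' (A⁻¹ :
      Matrix.symplecticGroup (Fin m) F).1)
      (by rw [← Matrix.toLin'_mul, ← Submonoid.coe_mul, mul_inv_cancel, Submonoid.coe_one,
        Matrix.toLin'_one])
      (by rw [← Matrix.toLin'_mul, ← Submonoid.coe_mul, inv_mul_cancel, Submonoid.coe_one,
        Matrix.toLin'_one]),
    fun u v => (mem_symplectic_iff _).1 A.2 u v⟩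
  invFun g := ⟨LinearMap.toMatrix' (g.1 : (Fin m ⊕ Fin m → F) →ₗ[F] _), (mem_symplectic_iff _).2
    fun u v => by simpa [LinearMap.toMatrix'_mulVec] using g.2 u v⟩
  left_inv A := Subtype.ext (LinearMap.toMatrix'_toLin' _)
  right_inv g := Subtype.ext (LinearEquiv.ext fun v => by
    show Matrix.toLin' (LinearMap.toMatrix' _) v = _
    rw [Matrix.toLin'_toMatrix']
    rfl)
  map_mul' A A' := Subtype.ext (LinearEquiv.ext fun v => by
    show (A * A').1 *ᵥ v = A.1 *ᵥ (A'.1 *ᵥ v)
    rw [Submonoid.coe_mul, Matrix.mulVec_mulVec])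

@[simp]
theorem spEquiv_apply (A : Matrix.symplecticGroup (Fin m) F) (v : Fin m ⊕ Fin m → F) :
    (spEquiv m F A).1 v = A.1 *ᵥ v := rfl

theorem spEquiv_symm_mulVec (g : SpIso m F) (v : Fin m ⊕ Fin m → F) :
    ((spEquiv m F).symm g).1 *ᵥ v = g.1 v := by
  rw [← spEquiv_apply, MulEquiv.apply_symm_apply]

theorem sympTransvection_mulVec (w : Fin m ⊕ Fin m → F) (c : F) (x : Fin m ⊕ Fin m → F) :
    (1 + c • Matrix.vecMulVec w (Matrix.J (Fin m) F *ᵥ w)) *ᵥ x = tau (spB_alt (m := m)) w c x := by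
  rw [tau_apply, spB_apply, Matrix.add_mulVec, Matrix.one_mulVec, Matrix.smul_mulVec,
    Matrix.vecMulVec_mulVec, op_smul_eq_smul, smul_smul, dotProduct_comm x]

theorem transvection_mem_symplectic (w : Fin m ⊕ Fin m → F) (c : F) :
    1 + c • Matrix.vecMulVec w (Matrix.J (Fin m) F *ᵥ w) ∈ Matrix.symplecticGroup (Fin m) F :=
  (mem_symplectic_iff _).2 fun u v => by
    rw [sympTransvection_mulVec, sympTransvection_mulVec]
    exact tau_mem spB_alt w c u v

/-- The transvection as an element of `SpIso`. -/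
noncomputable def spTau (w : Fin m ⊕ Fin m → F) (c : F) : SpIso m F :=
  ⟨tau spB_alt w c, tau_mem spB_alt w c⟩

@[simp]
theorem coe_spTau (w : Fin m ⊕ Fin m → F) (c : F) :
    (spTau w c).1 = tau spB_alt w c := rfl

theorem spIso_eq_tauGroup : tauGroup (spB_alt (m := m) (F := F)) = SpIso m F :=
  tauGroup_eq spB_alt spB_nondeg

theorem closure_spTau :
    Subgroup.closure {g : SpIso m F | ∃ w c, g = spTau w c} = ⊤ := by
  rw [eq_top_iff]
  intro g _
  have h : ∀ k ∈ tauGroup (spB_alt (m := m) (F := F)), ∀ hk : k ∈ SpIso m F,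
      (⟨k, hk⟩ : SpIso m F) ∈ Subgroup.closure {g : SpIso m F | ∃ w c, g = spTau w c} := by
    intro k hk
    induction hk using Subgroup.closure_induction with
    | mem k hk =>
      obtain ⟨w, c, rfl⟩ := hk
      exact fun _ => Subgroup.subset_closure ⟨w, c, rfl⟩
    | one => exact fun _ => one_mem _
    | mul a b ha hb iha ihb =>
      intro hab
      exact mul_mem (iha (tauGroup_le _ ha)) (ihb (tauGroup_le _ hb))
    | inv a ha iha =>
      intro hab
      exact inv_mem (iha (tauGroup_le _ ha))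
  exact h g.1 ((spIso_eq_tauGroup (m := m) (F := F)).ge g.2) g.2

end Cfsg.Agent.FormsLib
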