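import Cfsg.Agent.Lib.Forms.Witt
import Mathlib
import Cfsg.Prelude.Def_ClassicalGeometry

/-!
Orthogonal groups of quadratic forms with non-degenerate polar form (any characteristic):
reflections and Witt's extension theorem.
-/

set_option autoImplicit false

namespace Cfsg.Agent.FormsLib

open scoped Matrix

variable {F V : Type*} [Field F] [AddCommGroup V] [Module F V]

/-- The polar bilinear form as a trace form (`Q v + Q v = f(v, v)`). -/
theorem isTraceForm_polar (Q : QuadraticForm F V) (hQ : (QuadraticMap.polarBilin Q).Nondegenerate) :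
    IsTraceForm (RingHom.id F) 1 (QuadraticMap.polarBilin Q) where
  invol _ := rfl
  eps := by simp
  flip v w := by simp [QuadraticMap.polar_comm Q w v]
  trace v := ⟨Q v, by simp [QuadraticMap.polar_self, two_mul]⟩
  nondeg v hv := hQ.1 v hv

theorem quad_add (Q : QuadraticForm F V) (x y : V) :
    Q (x + y) = Q x + Q y + QuadraticMap.polar Q x y := by
  rw [QuadraticMap.polar]; ring

theorem polar_self' (Q : QuadraticForm F V) (x : V) : QuadraticMap.polar Q x x = 2 * Q x := by
  rw [QuadraticMap.polar_self, nsmul_eq_mul, Nat.cast_ofNat]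

/-- The isometry group of a quadratic form. -/
def oGroup (Q : QuadraticForm F V) : Subgroup (V ≃ₗ[F] V) where
  carrier := {g | ∀ v, Q (g v) = Q v}
  mul_mem' {a b} ha hb v := (ha (b v)).trans (hb v)
  one_mem' v := rfl
  inv_mem' {a} ha v := by
    have := ha (a.symm v)
    rw [LinearEquiv.apply_symm_apply] at this
    exact this.symm

theorem mem_oGroup {Q : QuadraticForm F V} {g : V ≃ₗ[F] V} :
    g ∈ oGroup Q ↔ ∀ v, Q (g v) = Q v := Iff.rfl

theorem polar_of_mem {Q : QuadraticForm F V} {g : V ≃ₗ[F] V} (hg : g ∈ oGroup Q) (x y : V) :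
    QuadraticMap.polar Q (g x) (g y) = QuadraticMap.polar Q x y := by
  simp only [QuadraticMap.polar, ← map_add, hg _]

/-- The reflection map `x ↦ x - Q(v)⁻¹ f(x, v) v`. -/
noncomputable def reflHom (Q : QuadraticForm F V) (v : V) : V →ₗ[F] V :=
  LinearMap.id - ((Q v)⁻¹ • (QuadraticMap.polarBilin Q).flip v).smulRight v

theorem reflHom_apply (Q : QuadraticForm F V) (v x : V) :
    reflHom Q v x = x - ((Q v)⁻¹ * QuadraticMap.polar Q x v) • v := by
  simp [reflHom]

theorem reflHom_reflHom (Q : QuadraticForm F V) {v : V} (hv : Q v ≠ 0) (x : V) :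
    reflHom Q v (reflHom Q v x) = x := by
  simp only [reflHom_apply, QuadraticMap.polar_sub_left, QuadraticMap.polar_smul_left, polar_self',
    smul_eq_mul]
  match_scalars
  · ring
  · field_simp
    ring

/-- The reflection in a non-singular vector, as an equivalence. -/
noncomputable def refl (Q : QuadraticForm F V) (v : V) (hv : Q v ≠ 0) : V ≃ₗ[F] V :=
  LinearEquiv.ofLinearMap (reflHom Q v) (reflHom Q v) (LinearMap.ext (reflHom_reflHom Q hv))
    (LinearMap.ext (reflHom_reflHom Q hv))

@[simp]
theorem refl_apply (Q : QuadraticForm F V) {v : V} (hv : Q v ≠ 0) (x : V) :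
    refl Q v hv x = x - ((Q v)⁻¹ * QuadraticMap.polar Q x v) • v := reflHom_apply Q v x

theorem refl_mem (Q : QuadraticForm F V) {v : V} (hv : Q v ≠ 0) : refl Q v hv ∈ oGroup Q := fun x => by
  rw [refl_apply, sub_eq_add_neg, ← neg_smul, quad_add, QuadraticMap.map_smul,
    QuadraticMap.polar_smul_right]
  simp only [smul_eq_mul]
  field_simp
  ring

theorem refl_mul_self (Q : QuadraticForm F V) {v : V} (hv : Q v ≠ 0) :
    refl Q v hv * refl Q v hv = 1 :=
  LinearEquiv.ext (reflHom_reflHom Q hv)

theorem refl_inv (Q : QuadraticForm F V) {v : V} (hv : Q v ≠ 0) :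
    (refl Q v hv)⁻¹ = refl Q v hv :=
  inv_eq_of_mul_eq_one_right (refl_mul_self Q hv)

theorem refl_self (Q : QuadraticForm F V) {v : V} (hv : Q v ≠ 0) : refl Q v hv v = -v := by
  have h2 : (Q v)⁻¹ * (2 * Q v) = 2 := by field_simp
  rw [refl_apply, polar_self', h2]
  module

theorem refl_fix (Q : QuadraticForm F V) {v x : V} (hv : Q v ≠ 0)
    (hx : QuadraticMap.polar Q x v = 0) : refl Q v hv x = x := by
  simp [hx]

theorem refl_congr (Q : QuadraticForm F V) {v w : V} (hv : Q v ≠ 0) (hw : Q w ≠ 0) (h : v = w) :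
    refl Q v hv = refl Q w hw := by subst h; rfl

theorem refl_conj (Q : QuadraticForm F V) {v : V} (hv : Q v ≠ 0) {g : V ≃ₗ[F] V}
    (hg : g ∈ oGroup Q) : g * refl Q v hv * g⁻¹ = refl Q (g v) (by rwa [hg v]) := by
  ext x
  simp only [LinearEquiv.mul_apply, refl_apply, map_sub, map_smul]
  rw [show (g⁻¹ : V ≃ₗ[F] V) = g.symm from rfl, LinearEquiv.apply_symm_apply, hg v]
  rw [← polar_of_mem hg (g.symm x) v, LinearEquiv.apply_symm_apply]

/-- The reflection exchanging two vectors of the same norm whose difference is non-singular. -/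
theorem refl_sub_apply (Q : QuadraticForm F V) {x y : V} (h : Q x = Q y) (hd : Q (x - y) ≠ 0) :
    refl Q (x - y) hd x = y := by
  have hkey : QuadraticMap.polar Q x (x - y) = Q (x - y) := by
    rw [QuadraticMap.polar_sub_right, polar_self', sub_eq_add_neg x y, quad_add,
      QuadraticMap.map_neg, QuadraticMap.polar_neg_right, h]
    ring
  rw [refl_apply, hkey, inv_mul_cancel₀ hd]
  module

variable [FiniteDimensional F V]

theorem exists_equiv_of_quad {Q : QuadraticForm F V} (hQ : (QuadraticMap.polarBilin Q).Nondegenerate)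
    (f : V →ₗ[F] V) (hf : ∀ v, Q (f v) = Q v) :
    ∃ g ∈ oGroup Q, ∀ v, (g : V ≃ₗ[F] V) v = f v := by
  obtain ⟨g, -, hg⟩ := (isTraceForm_polar Q hQ).exists_equiv f (fun u v => by
    simp only [QuadraticMap.polarBilin_apply_apply, QuadraticMap.polar, ← map_add, hf])
  exact ⟨g, fun v => by rw [hg, hf], hg⟩

/-- One step of Witt's theorem for quadratic forms. -/
theorem quad_step {Q : QuadraticForm F V} (hQ : (QuadraticMap.polarBilin Q).Nondegenerate)
    (H : Submodule F V) (x p : V) (hxH : x ∉ H) (hyH : x + p ∉ H)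
    (hH : ∀ h ∈ H, QuadraticMap.polar Q (x + p) h = QuadraticMap.polar Q x h)
    (hx : Q (x + p) = Q x) :
    ∃ g ∈ oGroup Q, g x = x + p ∧ ∀ h ∈ H, g h = h := by
  have hT := isTraceForm_polar Q hQ
  have hpH : ∀ h ∈ H, QuadraticMap.polar Q p h = 0 := fun h hh => by
    have := hH h hh
    rwa [QuadraticMap.polar_add_left, add_eq_left] at this
  rw [quad_add, add_assoc, add_eq_left] at hx
  by_cases hp : Q p = 0
  · have hxp : QuadraticMap.polar Q x p = 0 := by simpa [hp] using hx
    have hpp : QuadraticMap.polar Q p p = 0 := by rw [polar_self', hp, mul_zero]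
    by_cases hxW : x ∈ H ⊔ Submodule.span F {p}
    · obtain ⟨h₀, hh₀, w, hw, rfl⟩ := Submodule.mem_sup.1 hxW
      obtain ⟨a, rfl⟩ := Submodule.mem_span_singleton.1 hw
      have ha : a ≠ 0 := fun ha => hxH (by simpa [ha] using hh₀)
      have hl : (a + 1) / a ≠ 0 := by
        refine div_ne_zero (fun ha1 => hyH ?_) ha
        have : h₀ + a • p + p = h₀ + (a + 1) • p := by module
        rw [this, ha1, zero_smul, add_zero]
        exact hh₀
      set l := (a + 1) / a with hldef
      have hpn : p ∉ H := fun hp' => hxH (H.add_mem hh₀ (H.smul_mem a hp'))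
      obtain ⟨z₀, hz₀, hz₀p⟩ := hT.exists_sep hpn
      simp only [QuadraticMap.polarBilin_apply_apply] at hz₀ hz₀p
      let z := z₀ + (-(Q z₀)) • p
      have hzp : QuadraticMap.polar Q z p = 1 := by
        simp [z, QuadraticMap.polar_add_left, QuadraticMap.polar_smul_left, hz₀p, hpp]
      have hzz : Q z = 0 := by
        simp [z, quad_add, QuadraticMap.map_neg, QuadraticMap.map_smul, hp,
          QuadraticMap.polar_smul_right, hz₀p]
      let f : V →ₗ[F] V := LinearMap.id +
        (((l - 1) • QuadraticMap.polarBilin Q z).smulRight p) +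
        (((l⁻¹ - 1) • QuadraticMap.polarBilin Q p).smulRight z)
      have hf : ∀ v, f v = v + ((l - 1) * QuadraticMap.polar Q z v) • p +
          ((l⁻¹ - 1) * QuadraticMap.polar Q p v) • z := fun v => by simp [f]
      obtain ⟨g, hg, hgf⟩ := exists_equiv_of_quad hQ f (fun v => by
        rw [hf]
        simp only [quad_add, QuadraticMap.map_smul, QuadraticMap.polar_add_left,
          QuadraticMap.polar_smul_left, QuadraticMap.polar_smul_right, hp, hzz, hzp,
          QuadraticMap.polar_comm Q p z, QuadraticMap.polar_comm Q v p,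
          QuadraticMap.polar_comm Q v z, smul_eq_mul, mul_zero, add_zero]
        field_simp
        ring)
      have hgh : ∀ h ∈ H, g h = h := fun h hh => by
        have h1 : QuadraticMap.polar Q z h = 0 := by
          simp [z, QuadraticMap.polar_add_left, QuadraticMap.polar_smul_left, hz₀ h hh, hpH h hh]
        simp [hgf, hf, h1, hpH h hh]
      refine ⟨g, hg, ?_, hgh⟩
      have hgp : g p = l • p := by
        rw [hgf, hf, hzp, hpp]
        module
      rw [map_add, map_smul, hgh _ hh₀, hgp, smul_smul, hldef, mul_div_cancel₀ _ ha]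
      module
    · obtain ⟨z, hz, hzx⟩ := hT.exists_sep hxW
      simp only [QuadraticMap.polarBilin_apply_apply] at hz hzx
      have hzp := hz p (Submodule.mem_sup_right (Submodule.mem_span_singleton_self p))
      let f : V →ₗ[F] V := LinearMap.id +
        ((QuadraticMap.polarBilin Q z - Q z • QuadraticMap.polarBilin Q p).smulRight p) -
        ((QuadraticMap.polarBilin Q p).smulRight z)
      have hf : ∀ v, f v = v + (QuadraticMap.polar Q z v - Q z * QuadraticMap.polar Q p v) • p +
          (- QuadraticMap.polar Q p v) • z := fun v => by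
        simp [f, sub_eq_add_neg, add_assoc]
      obtain ⟨g, hg, hgf⟩ := exists_equiv_of_quad hQ f (fun v => by
        rw [hf]
        simp only [quad_add, QuadraticMap.map_smul, QuadraticMap.polar_add_left,
          QuadraticMap.polar_smul_left, QuadraticMap.polar_smul_right, hp, hzp,
          QuadraticMap.polar_comm Q p z, QuadraticMap.polar_comm Q v p,
          QuadraticMap.polar_comm Q v z, smul_eq_mul, mul_zero, add_zero]
        ring)
      have hpx : QuadraticMap.polar Q p (x : V) = 0 := by rw [QuadraticMap.polar_comm, hxp]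
      refine ⟨g, hg, ?_, fun h hh => ?_⟩
      · simp [hgf, hf, hzx, hpx]
      · simp [hgf, hf, hz h (Submodule.mem_sup_left hh), hpH h hh]
  · refine ⟨refl Q p hp, refl_mem Q hp, ?_, fun h hh => refl_fix Q hp ?_⟩
    · have hxp : QuadraticMap.polar Q x p = -Q p := by linear_combination hx
      rw [refl_apply, hxp, mul_neg, inv_mul_cancel₀ hp]
      module
    · rw [QuadraticMap.polar_comm, hpH h hh]

/-- **Witt's extension theorem** for quadratic forms with non-degenerate polar form. -/
theorem quad_witt {Q : QuadraticForm F V} (hQ : (QuadraticMap.polarBilin Q).Nondegenerate)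
    (X : Submodule F V) (φ : X →ₗ[F] V) (hinj : Function.Injective φ)
    (hφ : ∀ x : X, Q (φ x) = Q (x : V)) : ∃ g ∈ oGroup Q, ∀ x : X, g (x : V) = φ x := by
  induction hn : Module.finrank F X using Nat.strong_induction_on generalizing X with
  | _ n ih =>
  subst hn
  by_cases hX : X = ⊥
  · refine ⟨1, one_mem _, fun x => ?_⟩
    have : x = 0 := by
      ext
      exact (Submodule.eq_bot_iff X).1 hX x x.2
    simp [this]
  obtain ⟨H, x, hHX, hxX, hxH, hXeq, hlt⟩ := exists_hyperplane_of_ne_bot hX
  obtain ⟨g₀, hg₀, hg₀H⟩ := ih _ hlt H (φ.comp (Submodule.inclusion hHX))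
    (hinj.comp (Submodule.inclusion_injective hHX)) (fun a => hφ _) rfl
  have hfix : ∀ h (hh : h ∈ H), g₀.symm (φ ⟨h, hHX hh⟩) = h := fun h hh => by
    rw [LinearEquiv.symm_apply_eq]
    exact (hg₀H ⟨h, hh⟩).symm
  have hsymm : g₀.symm ∈ oGroup Q := (oGroup Q).inv_mem hg₀
  set y := g₀.symm (φ ⟨x, hxX⟩) with hy
  have hyH : y ∉ H := fun hh => by
    have h1 : φ ⟨y, hHX hh⟩ = φ ⟨x, hxX⟩ := g₀.symm.injective ((hfix y hh).trans hy)
    exact hxH ((show y = x from congrArg Subtype.val (hinj h1)) ▸ hh)
  obtain ⟨g, hg, hgx, hgH⟩ := quad_step hQ H x (y - x) hxH (by simpa using hyH)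
    (fun h hh => by
      rw [add_sub_cancel]
      conv_lhs => rw [← hfix h hh, hy, polar_of_mem hsymm]
      simp only [QuadraticMap.polar, ← map_add, hφ, Submodule.coe_add])
    (by rw [add_sub_cancel, hy, hsymm]; exact hφ _)
  refine ⟨g₀ * g, mul_mem hg₀ hg, fun w => ?_⟩
  obtain ⟨h, hh, s, hs, hw⟩ := Submodule.mem_sup.1 (hXeq.le w.2)
  obtain ⟨a, rfl⟩ := Submodule.mem_span_singleton.1 hs
  have hw' : w = ⟨h, hHX hh⟩ + a • ⟨x, hxX⟩ := Subtype.ext hw.symm
  rw [hw', map_add, map_smul]
  show g₀ (g _) = _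
  simp only [Submodule.coe_add, Submodule.coe_smul, map_add, map_smul]
  rw [hgH h hh, hgx, add_sub_cancel, hy, LinearEquiv.apply_symm_apply]
  congr 1
  exact hg₀H ⟨h, hh⟩

section Matrices

variable {ι : Type} [Fintype ι] [DecidableEq ι]

/-- The matrix isometry group agrees with `oGroup`. -/
noncomputable def oEquiv (Q : QuadraticForm F (ι → F)) :
    Cfsg.isometryGroup F ⇑Q ≃* oGroup Q where
  toFun A := ⟨(Matrix.GeneralLinearGroup.toLin A.1).toLinearEquiv, fun v => A.2 v v⟩
  invFun g := ⟨Matrix.GeneralLinearGroup.toLin.symm (LinearMap.GeneralLinearGroup.ofLinearEquiv g.1),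
    fun u _ => by
      show Q (LinearMap.toMatrix' g.1.toLinearMap *ᵥ u) = Q u
      rw [LinearMap.toMatrix'_mulVec]
      exact g.2 u⟩
  left_inv A := Subtype.ext (Units.ext (LinearMap.toMatrix'_toLin' _))
  right_inv g := Subtype.ext (LinearEquiv.ext fun v => by
    show Matrix.toLin' (LinearMap.toMatrix' _) v = _
    rw [Matrix.toLin'_toMatrix']
    rfl)
  map_mul' A A' := Subtype.ext (LinearEquiv.ext fun v => by
    show (A * A').1.1 *ᵥ v = A.1.1 *ᵥ (A'.1.1 *ᵥ v)
    rw [Subgroup.coe_mul, Units.val_mul, Matrix.mulVec_mulVec])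

theorem oEquiv_apply (Q : QuadraticForm F (ι → F)) (A : Cfsg.isometryGroup F ⇑Q) (v : ι → F) :
    (oEquiv Q A).1 v = A.1.1 *ᵥ v := rfl

theorem polarVec_dotProduct (Q : QuadraticForm F (ι → F)) (v x : ι → F) :
    Cfsg.polarVec ⇑Q v ⬝ᵥ x = QuadraticMap.polar Q x v := by
  have : ∀ j, x j • QuadraticMap.polar Q v (Pi.single j 1) = QuadraticMap.polar Q v (Pi.single j (x j)) := by
    intro j
    rw [← QuadraticMap.polar_smul_right, ← Pi.single_smul', smul_eq_mul, mul_one]
  rw [QuadraticMap.polar_comm, ← Finset.univ_sum_single x]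
  simp only [← QuadraticMap.polarBilin_apply_apply, map_sum]
  simp only [QuadraticMap.polarBilin_apply_apply, Finset.univ_sum_single]
  simp only [dotProduct, Cfsg.polarVec, ← this, smul_eq_mul, mul_comm]

theorem reflectionMatrix_mulVec (Q : QuadraticForm F (ι → F)) (v x : ι → F) :
    Cfsg.reflectionMatrix ⇑Q v *ᵥ x = reflHom Q v x := by
  rw [reflHom_apply, Cfsg.reflectionMatrix, Matrix.sub_mulVec, Matrix.one_mulVec, Matrix.smul_mulVec,
    Matrix.vecMulVec_mulVec, op_smul_eq_smul, smul_smul, polarVec_dotProduct]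

end Matrices

end Cfsg.Agent.FormsLib
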