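import Mathlib.LinearAlgebra.SesquilinearForm.Basic
import Mathlib.LinearAlgebra.FiniteDimensional.Lemmas
import Mathlib.LinearAlgebra.Dual.Lemmas
import Mathlib.Tactic.LinearCombination

/-!
Witt's extension theorem for reflexive trace-valued sesquilinear forms (alternating, symmetric in odd
characteristic, Hermitian), over any field.
-/

set_option autoImplicit false

namespace Cfsg.Agent.FormsLib

variable {F V : Type*} [Field F] [AddCommGroup V] [Module F V] {σ : F →+* F} {ε : F}
  {B : V →ₛₗ[σ] V →ₗ[F] F}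

/-- A non-degenerate, `(σ, ε)`-symmetric, trace-valued sesquilinear form. -/
structure IsTraceForm (σ : F →+* F) (ε : F) (B : V →ₛₗ[σ] V →ₗ[F] F) : Prop where
  invol : ∀ a, σ (σ a) = a
  eps : ε * σ ε = 1
  flip : ∀ v w, B w v = ε * σ (B v w)
  trace : ∀ v, ∃ t, B v v = t + ε * σ t
  nondeg : ∀ v, (∀ w, B v w = 0) → v = 0

theorem IsTraceForm.eps_ne_zero (hB : IsTraceForm σ ε B) : ε ≠ 0 := by
  intro h
  simpa [h] using hB.eps

/-- `g` preserves `B`. -/
def Preserves (B : V →ₛₗ[σ] V →ₗ[F] F) (g : V ≃ₗ[F] V) : Prop := ∀ u v, B (g u) (g v) = B u v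

theorem preserves_one : Preserves B (1 : V ≃ₗ[F] V) := fun _ _ => rfl

theorem Preserves.mul {g g' : V ≃ₗ[F] V} (h : Preserves B g) (h' : Preserves B g') :
    Preserves B (g * g') := fun u v => (h (g' u) (g' v)).trans (h' u v)

theorem Preserves.symm {g : V ≃ₗ[F] V} (h : Preserves B g) : Preserves B g.symm := by
  intro u v
  have := h (g.symm u) (g.symm v)
  simpa using this.symm

variable [FiniteDimensional F V]

/-- Every functional is represented by the form. -/
theorem IsTraceForm.exists_rep (hB : IsTraceForm σ ε B) (f : V →ₗ[F] F) : ∃ u, B u = f := by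
  classical
  let b := Module.finBasis F V
  let w : Fin (Module.finrank F V) → (V →ₗ[F] F) := fun i => B (b i)
  have hw : LinearIndependent F w := by
    rw [Fintype.linearIndependent_iff]
    intro c hc i
    have h0 : B (∑ i, σ (c i) • b i) = 0 := by
      simpa only [map_sum, map_smulₛₗ, hB.invol, w] using hc
    have h1 : (∑ i, σ (c i) • b i) = 0 := hB.nondeg _ (fun v => by rw [h0]; rfl)
    have := (Fintype.linearIndependent_iff.1 b.linearIndependent) _ h1 i
    simpa [hB.invol] using congrArg σ this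
  have hs := hw.span_eq_top_of_card_eq_finrank' (by simp [Subspace.dual_finrank_eq])
  obtain ⟨c, hc⟩ := (Submodule.mem_span_range_iff_exists_fun F).1 (hs ▸ Submodule.mem_top (x := f))
  exact ⟨∑ i, σ (c i) • b i, by simpa only [map_sum, map_smulₛₗ, hB.invol, w] using hc⟩

/-- A vector pairing to `1` with `x` and to `0` with a subspace not containing `x`. -/
theorem IsTraceForm.exists_sep (hB : IsTraceForm σ ε B) {W : Submodule F V} {x : V} (hx : x ∉ W) :
    ∃ z, (∀ w ∈ W, B z w = 0) ∧ B z x = 1 := by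
  obtain ⟨f, hfx, hfW⟩ := Submodule.exists_dual_map_eq_bot_of_notMem hx inferInstance
  have hW : ∀ w ∈ W, f w = 0 := fun w hw => by
    have : f w ∈ W.map f := Submodule.mem_map_of_mem hw
    rw [hfW] at this
    exact this
  obtain ⟨z, hz⟩ := hB.exists_rep ((f x)⁻¹ • f)
  refine ⟨z, fun w hw => ?_, ?_⟩
  · simp [hz, hW w hw]
  · simp [hz, hfx]

/-- A linear map preserving a non-degenerate form is an equivalence. -/
theorem IsTraceForm.exists_equiv (hB : IsTraceForm σ ε B) (f : V →ₗ[F] V)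
    (hf : ∀ u v, B (f u) (f v) = B u v) : ∃ g : V ≃ₗ[F] V, Preserves B g ∧ ∀ v, g v = f v := by
  have hinj : Function.Injective f := by
    rw [← LinearMap.ker_eq_bot, LinearMap.ker_eq_bot']
    intro v hv
    apply hB.nondeg
    intro w
    rw [← hf v w, hv]
    simp
  refine ⟨LinearEquiv.ofBijective f ⟨hinj, LinearMap.injective_iff_surjective.1 hinj⟩, ?_, fun v => rfl⟩
  exact fun u v => hf u v

/-- The quasi-reflection step. -/
theorem IsTraceForm.exists_quasiReflection (hB : IsTraceForm σ ε B) {p x : V} (hc : B p x ≠ 0)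
    (hx : B (x + p) (x + p) = B x x) :
    ∃ g : V ≃ₗ[F] V, Preserves B g ∧ g x = x + p ∧ ∀ v, B p v = 0 → g v = v := by
  have hrel : ε * σ (B p x) + B p x + B p p = 0 := by
    simp only [map_add, LinearMap.add_apply] at hx
    rw [hB.flip p x] at hx
    linear_combination hx
  set c := B p x with hcdef
  have hsc : σ c ≠ 0 := (map_ne_zero σ).2 hc
  let f : V →ₗ[F] V := LinearMap.id + ((c⁻¹ • B p).smulRight p)
  have hf : ∀ v, f v = v + (c⁻¹ * B p v) • p := fun v => by simp [f]
  obtain ⟨g, hg, hgf⟩ := hB.exists_equiv f (fun u v => by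
    simp only [hf, map_add, map_smulₛₗ, LinearMap.add_apply, LinearMap.smul_apply, smul_eq_mul,
      map_mul, RingHom.id_apply, map_inv₀]
    rw [hB.flip p u]
    field_simp
    linear_combination (σ (B p u) * B p v) * hrel)
  refine ⟨g, hg, ?_, fun v hv => ?_⟩
  · rw [hgf, hf, ← hcdef, inv_mul_cancel₀ hc, one_smul]
  · rw [hgf, hf, hv, mul_zero, zero_smul, add_zero]

/-- The Eichler-transformation step. -/
theorem IsTraceForm.exists_eichler (hB : IsTraceForm σ ε B) {p z : V} (hpp : B p p = 0)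
    (hzp : B z p = 0) :
    ∃ g : V ≃ₗ[F] V, Preserves B g ∧ ∀ v, B p v = 0 → g v = v + B z v • p := by
  obtain ⟨t, ht⟩ := hB.trace z
  have hpz : B p z = 0 := by rw [hB.flip z p, hzp, map_zero, mul_zero]
  let f : V →ₗ[F] V :=
    LinearMap.id + ((B z - σ t • B p).smulRight p) - ((σ ε • B p).smulRight z)
  have hf : ∀ v, f v = v + (B z v - σ t * B p v) • p - (σ ε * B p v) • z := fun v => by simp [f]
  obtain ⟨g, hg, hgf⟩ := hB.exists_equiv f (fun u v => by
    simp only [hf, map_add, map_sub, map_smulₛₗ, LinearMap.add_apply, LinearMap.sub_apply,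
      LinearMap.smul_apply, smul_eq_mul, map_mul, RingHom.id_apply, hB.invol]
    rw [hB.flip p u, hB.flip z u, hpp, hzp, hpz]
    linear_combination (σ (B p u) * B p v) * (ε * σ ε) * ht
      + (σ (B p u) * B p v * (t + ε * σ t) - σ (B z u) * B p v) * hB.eps)
  exact ⟨g, hg, fun v hv => by simp [hgf, hf, hv]⟩

/-- The hyperbolic-dilation step. -/
theorem IsTraceForm.exists_dilation (hB : IsTraceForm σ ε B) {p z : V} (hpp : B p p = 0)
    (hzz : B z z = 0) (hzp : B z p = 1) {l : F} (hl : l ≠ 0) :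
    ∃ g : V ≃ₗ[F] V, Preserves B g ∧ g p = l • p ∧ ∀ v, B p v = 0 → B z v = 0 → g v = v := by
  have hpz : B p z = ε := by rw [hB.flip z p, hzp, map_one, mul_one]
  have hsl : σ l ≠ 0 := (map_ne_zero σ).2 hl
  let f : V →ₗ[F] V :=
    LinearMap.id + (((l - 1) • B z).smulRight p) + (((σ ε * ((σ l)⁻¹ - 1)) • B p).smulRight z)
  have hf : ∀ v, f v = v + ((l - 1) * B z v) • p + (σ ε * ((σ l)⁻¹ - 1) * B p v) • z :=
    fun v => by simp [f]
  obtain ⟨g, hg, hgf⟩ := hB.exists_equiv f (fun u v => by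
    simp only [hf, map_add, map_sub, map_smulₛₗ, LinearMap.add_apply, LinearMap.smul_apply,
      smul_eq_mul, map_mul, map_one, map_inv₀, RingHom.id_apply, hB.invol]
    rw [hB.flip p u, hB.flip z u, hpp, hzp, hpz, hzz]
    field_simp
    linear_combination (σ (B z u) * B p v * (σ l * l - l * σ l ^ 2) ) * hB.eps)
  refine ⟨g, hg, ?_, fun v hv hv' => ?_⟩
  · rw [hgf, hf, hzp, hpp]
    module
  · rw [hgf, hf, hv, hv']
    simp

/-- One step of Witt's theorem: fix a subspace `H` and move `x` to `x + p`. -/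
theorem IsTraceForm.exists_step (hB : IsTraceForm σ ε B) (H : Submodule F V) (x p : V) (hxH : x ∉ H)
    (hyH : x + p ∉ H) (hH : ∀ h ∈ H, B (x + p) h = B x h) (hx : B (x + p) (x + p) = B x x) :
    ∃ g : V ≃ₗ[F] V, Preserves B g ∧ g x = x + p ∧ ∀ h ∈ H, g h = h := by
  have hpH : ∀ h ∈ H, B p h = 0 := fun h hh => by
    have := hH h hh
    rwa [map_add, LinearMap.add_apply, add_eq_left] at this
  by_cases hc : B p x = 0
  · have hxp : B x p = 0 := by rw [hB.flip p x, hc, map_zero, mul_zero]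
    have hpp : B p p = 0 := by
      simpa [hxp, hc] using hx
    by_cases hxW : x ∈ H ⊔ Submodule.span F {p}
    · obtain ⟨h₀, hh₀, w, hw, rfl⟩ := Submodule.mem_sup.1 hxW
      obtain ⟨a, rfl⟩ := Submodule.mem_span_singleton.1 hw
      have ha : a ≠ 0 := fun ha => hxH (by simpa [ha] using hh₀)
      have ha1 : (a + 1) / a ≠ 0 := by
        refine div_ne_zero (fun ha1 => hyH ?_) ha
        have : h₀ + a • p + p = h₀ + (a + 1) • p := by module
        rw [this, ha1, zero_smul, add_zero]
        exact hh₀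
      have hp : p ∉ H := fun hp => hxH (H.add_mem hh₀ (H.smul_mem a hp))
      obtain ⟨z₀, hz₀, hz₀p⟩ := hB.exists_sep hp
      obtain ⟨t, ht⟩ := hB.trace z₀
      let z := z₀ + (-t) • p
      have hzp : B z p = 1 := by simp [z, hz₀p, hpp]
      have hzz : B z z = 0 := by
        simp only [z, map_add, map_smulₛₗ, LinearMap.add_apply, LinearMap.smul_apply, smul_eq_mul,
          hpp, hz₀p, hB.flip z₀ p, ht, map_one, RingHom.id_apply, map_neg]
        ring
      obtain ⟨g, hg, hgp, hgv⟩ := hB.exists_dilation hpp hzz hzp ha1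
      have hgh : ∀ h ∈ H, g h = h := fun h hh =>
        hgv h (hpH h hh) (by simp [z, hz₀ h hh, hpH h hh])
      refine ⟨g, hg, ?_, hgh⟩
      rw [map_add, map_smul, hgh _ hh₀, hgp, smul_smul, mul_div_cancel₀ _ ha]
      module
    · obtain ⟨z, hz, hzx⟩ := hB.exists_sep hxW
      obtain ⟨g, hg, hgv⟩ := hB.exists_eichler hpp
        (hz p (Submodule.mem_sup_right (Submodule.mem_span_singleton_self p)))
      refine ⟨g, hg, by rw [hgv x hc, hzx, one_smul], fun h hh => ?_⟩
      rw [hgv h (hpH h hh), hz h (Submodule.mem_sup_left hh), zero_smul, add_zero]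
  · obtain ⟨g, hg, hgx, hgv⟩ := hB.exists_quasiReflection hc hx
    exact ⟨g, hg, hgx, fun h hh => hgv h (hpH h hh)⟩

/-- A submodule other than `⊥` splits off a line. -/
theorem exists_hyperplane_of_ne_bot {X : Submodule F V} (hX : X ≠ ⊥) :
    ∃ (H : Submodule F V) (x : V), H ≤ X ∧ x ∈ X ∧ x ∉ H ∧ X = H ⊔ Submodule.span F {x} ∧
      Module.finrank F H < Module.finrank F X := by
  obtain ⟨x, hx, hx0⟩ := (Submodule.ne_bot_iff X).1 hX
  obtain ⟨C, hC⟩ := Submodule.exists_isCompl (Submodule.span F {x})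
  have hxC : x ∉ C := fun h => hx0 ((Submodule.disjoint_def.1 hC.disjoint) x
    (Submodule.mem_span_singleton_self x) h)
  have hle : Submodule.span F {x} ≤ X := (Submodule.span_singleton_le_iff_mem _ _).2 hx
  have heq : X = C ⊓ X ⊔ Submodule.span F {x} := by
    rw [sup_comm, ← sup_inf_assoc_of_le C hle, hC.sup_eq_top, top_inf_eq]
  refine ⟨C ⊓ X, x, inf_le_right, hx, fun h => hxC h.1, heq, ?_⟩
  apply Submodule.finrank_lt_finrank_of_lt
  refine lt_of_le_of_ne inf_le_right (fun h => hxC ?_)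
  exact (h.symm ▸ hx : x ∈ C ⊓ X).1

/-- **Witt's extension theorem** for trace forms. -/
theorem IsTraceForm.witt (hB : IsTraceForm σ ε B) (X : Submodule F V) (φ : X →ₗ[F] V)
    (hinj : Function.Injective φ) (hφ : ∀ x x' : X, B (φ x) (φ x') = B (x : V) (x' : V)) :
    ∃ g : V ≃ₗ[F] V, Preserves B g ∧ ∀ x : X, g (x : V) = φ x := by
  induction hn : Module.finrank F X using Nat.strong_induction_on generalizing X with
  | _ n ih =>
  subst hn
  by_cases hX : X = ⊥
  · refine ⟨1, preserves_one, fun x => ?_⟩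
    have : x = 0 := by
      ext
      exact (Submodule.eq_bot_iff X).1 hX x x.2
    simp [this]
  obtain ⟨H, x, hHX, hxX, hxH, hXeq, hlt⟩ := exists_hyperplane_of_ne_bot hX
  obtain ⟨g₀, hg₀, hg₀H⟩ := ih _ hlt H (φ.comp (Submodule.inclusion hHX))
    (hinj.comp (Submodule.inclusion_injective hHX)) (fun a b => hφ _ _) rfl
  have hfix : ∀ h (hh : h ∈ H), g₀.symm (φ ⟨h, hHX hh⟩) = h := fun h hh => by
    rw [LinearEquiv.symm_apply_eq]
    exact (hg₀H ⟨h, hh⟩).symm
  set y := g₀.symm (φ ⟨x, hxX⟩) with hy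
  have hyH : y ∉ H := fun hh => by
    have h1 : φ ⟨y, hHX hh⟩ = φ ⟨x, hxX⟩ := g₀.symm.injective ((hfix y hh).trans hy)
    exact hxH ((show y = x from congrArg Subtype.val (hinj h1)) ▸ hh)
  obtain ⟨g, hg, hgx, hgH⟩ := hB.exists_step H x (y - x) hxH (by simpa using hyH)
    (fun h hh => by
      rw [add_sub_cancel]
      conv_lhs => rw [← hfix h hh, hy, hg₀.symm]
      exact hφ _ _)
    (by rw [add_sub_cancel, hy, hg₀.symm]; exact hφ _ _)
  refine ⟨g₀ * g, hg₀.mul hg, fun w => ?_⟩
  obtain ⟨h, hh, s, hs, hw⟩ := Submodule.mem_sup.1 (hXeq.le w.2)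
  obtain ⟨a, rfl⟩ := Submodule.mem_span_singleton.1 hs
  have hw' : w = ⟨h, hHX hh⟩ + a • ⟨x, hxX⟩ := Subtype.ext hw.symm
  rw [hw', map_add, map_smul]
  show g₀ (g _) = _
  simp only [Submodule.coe_add, Submodule.coe_smul, map_add, map_smul]
  rw [hgH h hh, hgx, add_sub_cancel, hy, LinearEquiv.apply_symm_apply]
  congr 1
  exact hg₀H ⟨h, hh⟩

omit [FiniteDimensional F V] in
theorem isTraceForm_of_isAlt {B : LinearMap.BilinForm F V} (hA : LinearMap.IsAlt B)
    (hB : LinearMap.Nondegenerate B) : IsTraceForm (RingHom.id F) (-1) B where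
  invol _ := rfl
  eps := by simp
  flip v w := by simpa using (hA.neg v w).symm
  trace v := ⟨0, by simp [hA v]⟩
  nondeg v hv := hB.1 v hv

omit [FiniteDimensional F V] in
theorem isTraceForm_of_isSymm {B : LinearMap.BilinForm F V} (hS : LinearMap.IsSymm B)
    (hB : LinearMap.Nondegenerate B) (h2 : (2 : F) ≠ 0) : IsTraceForm (RingHom.id F) 1 B where
  invol _ := rfl
  eps := by simp
  flip v w := by simpa using (hS.eq v w).symm
  trace v := ⟨B v v / 2, by simp; field_simp; ring⟩
  nondeg v hv := hB.1 v hv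

omit [FiniteDimensional F V] in
theorem isTraceForm_of_hermitian {B : V →ₛₗ[σ] V →ₗ[F] F} (hσ : σ ≠ RingHom.id F)
    (hσ2 : ∀ a : F, σ (σ a) = a) (hS : B.IsSymm) (hB : B.Nondegenerate) : IsTraceForm σ 1 B where
  invol := hσ2
  eps := by simp
  flip v w := by simpa using (hS.eq v w).symm
  trace v := by
    obtain ⟨a, ha⟩ : ∃ a : F, a + σ a ≠ 0 := by
      by_contra hc
      push Not at hc
      have h1 : (1 : F) + 1 = 0 := by simpa using hc 1
      apply hσ
      ext a
      have := hc a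
      simp only [RingHom.id_apply]
      linear_combination this - a * h1
    refine ⟨a * B v v / (a + σ a), ?_⟩
    have hfix : σ (B v v) = B v v := hS.eq v v
    simp only [map_div₀, map_mul, map_add, hσ2, hfix, one_mul, add_comm (σ a) a]
    field_simp
  nondeg v hv := hB.1 v hv

end Cfsg.Agent.FormsLib
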