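import Cfsg.Agent.Lib.Spinor.Discr

/-!
Symmetric forms with a totally isotropic subspace of half the dimension, over finite fields of odd order.
-/

set_option autoImplicit false

namespace Cfsg.Agent.HalfIso

variable {F V : Type*} [Field F] [Fintype F] [AddCommGroup V] [Module F V]

theorem exists_half_iff_fin (h2 : (2 : F) ≠ 0) {B : LinearMap.BilinForm F V} (hS : B.IsSymm) {N : ℕ}
    (b : Module.Basis (Fin (N + N)) F V) (a : Fin (N + N) → F)
    (hb : ∀ i j, B (b i) (b j) = if i = j then a i else 0) (ha : ∀ i, a i ≠ 0) :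
    (∃ X : Submodule F V, Module.finrank F X = N ∧ ∀ x ∈ X, ∀ y ∈ X, B x y = 0) ↔
      IsSquare ((-1) ^ N * ∏ i, a i) := by
  classical
  haveI : FiniteDimensional F V := b.finiteDimensional_of_finite
  have hV : Module.finrank F V = N + N := by rw [Module.finrank_eq_card_basis b, Fintype.card_fin]
  have hexp : ∀ x y, B x y = ∑ i, b.repr x i * b.repr y i * a i := by
    intro x y
    conv_lhs => rw [← b.sum_repr x, ← b.sum_repr y]
    simp only [map_sum, map_smul, LinearMap.sum_apply, LinearMap.smul_apply, smul_eq_mul, hb, mul_ite, mul_zero,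
      Finset.sum_ite_eq', Finset.sum_ite_eq, Finset.mem_univ, if_true]
    exact Finset.sum_congr rfl fun i _ => by ring

  constructor
  · rintro ⟨W₀, hd₀, hW₀⟩
    obtain ⟨W₁, hc⟩ := Submodule.exists_isCompl W₀
    have hd₁ : Module.finrank F W₁ = N := by
      have := Submodule.finrank_add_eq_of_isCompl hc
      rw [hd₀, hV] at this
      omega
    let c : Module.Basis (Fin N ⊕ Fin N) F V :=
      ((Module.finBasisOfFinrankEq F W₀ hd₀).prod (Module.finBasisOfFinrankEq F W₁ hd₁)).map
        (Submodule.prodEquivOfIsCompl W₀ W₁ hc)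
    have hcl : ∀ j, c (Sum.inl j) ∈ W₀ := fun j => by simp [c, Submodule.coe_prodEquivOfIsCompl']
    let P : Matrix (Fin N ⊕ Fin N) (Fin N ⊕ Fin N) F :=
      (b.toMatrix c).submatrix finSumFinEquiv id
    obtain ⟨D, hD⟩ : ∃ D : Fin N ⊕ Fin N → F, D = fun s => a (finSumFinEquiv s) := ⟨_, rfl⟩
    have hG : ∀ s t, (P.transpose * Matrix.diagonal D * P) s t = B (c s) (c t) := by
      intro s t
      rw [hexp, Matrix.mul_apply]
      refine Fintype.sum_equiv finSumFinEquiv _ _ fun u => ?_
      rw [Matrix.mul_diagonal]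
      simp [P, hD, Module.Basis.toMatrix_apply]
      ring
    obtain ⟨A, hA⟩ : ∃ A : Matrix (Fin N) (Fin N) F, A = Matrix.of fun i j => B (c (Sum.inl i)) (c (Sum.inr j)) :=
      ⟨_, rfl⟩
    obtain ⟨C, hC⟩ : ∃ C : Matrix (Fin N) (Fin N) F, C = Matrix.of fun i j => B (c (Sum.inr i)) (c (Sum.inr j)) :=
      ⟨_, rfl⟩
    have hblk : P.transpose * Matrix.diagonal D * P = Matrix.fromBlocks 0 A A.transpose C := by
      ext s t
      rw [hG]
      rcases s with i | i <;> rcases t with j | j
      · exact hW₀ _ (hcl i) _ (hcl j)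
      · rw [hA]; rfl
      · rw [hA]; exact (hS.eq _ _).symm
      · rw [hC]; rfl
    have hsw : (Matrix.fromBlocks 0 1 1 0 : Matrix (Fin N ⊕ Fin N) (Fin N ⊕ Fin N) F).det = (-1) ^ N := by
      have h := congrArg Matrix.det (show Matrix.fromBlocks 1 1 0 1 *
          (Matrix.fromBlocks 0 1 1 0 : Matrix (Fin N ⊕ Fin N) (Fin N ⊕ Fin N) F) =
          Matrix.fromBlocks 1 1 1 0 by simp [Matrix.fromBlocks_multiply])
      rw [Matrix.det_mul, Matrix.det_fromBlocks_one₁₁, Matrix.det_fromBlocks_one₁₁] at h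
      simpa [Matrix.det_neg] using h
    have hdet : (Matrix.fromBlocks 0 A A.transpose C).det * (-1) ^ N = A.det * A.det := by
      rw [← hsw, ← Matrix.det_mul, Matrix.fromBlocks_multiply]
      simp [Matrix.det_fromBlocks_zero₁₂]
    rw [← hblk, Matrix.det_mul, Matrix.det_mul, Matrix.det_transpose, Matrix.det_diagonal,
      show ∏ s, D s = ∏ i, a i from Fintype.prod_equiv finSumFinEquiv _ _ fun s => by rw [hD]] at hdet
    have hP0 : P.det ≠ 0 := by
      obtain ⟨Pc, hPc⟩ : ∃ Pc : Matrix (Fin N ⊕ Fin N) (Fin N ⊕ Fin N) F,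
          Pc = (c.toMatrix b).submatrix id finSumFinEquiv := ⟨_, rfl⟩
      intro h0
      have h := congrArg Matrix.det (show Pc * P = 1 by
        rw [hPc, Matrix.submatrix_mul_equiv, Module.Basis.toMatrix_mul_toMatrix_flip]
        simp)
      rw [Matrix.det_mul, h0, mul_zero, Matrix.det_one] at h
      exact zero_ne_one h
    refine ⟨A.det / P.det, ?_⟩
    field_simp
    linear_combination hdet
  · intro hsq
    obtain ⟨e, he⟩ : ∃ e : Fin (N + N) → F, e = Fin.append (fun _ => 1) fun _ => -1 := ⟨_, rfl⟩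
    have he0 : ∀ i, e i ≠ 0 := fun i => by
      induction i using Fin.addCases <;> simp [he, -Fin.natAdd_eq_addNat]
    have hwp : ∀ (w : Fin (N + N) → F) x y,
        QuadraticMap.polar (QuadraticMap.weightedSumSquares F w) x y = 2 * ∑ i, w i * (x i * y i) := by
      intro w x y
      simp only [QuadraticMap.polar, QuadraticMap.weightedSumSquares_apply, smul_eq_mul, Pi.add_apply,
        Finset.mul_sum, ← Finset.sum_sub_distrib]
      exact Finset.sum_congr rfl fun i _ => by ring
    have hwn : ∀ w : Fin (N + N) → F, (∀ i, w i ≠ 0) →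
        (QuadraticMap.polarBilin (QuadraticMap.weightedSumSquares F w)).Nondegenerate := by
      intro w hw
      have h : ∀ x, (∀ y, QuadraticMap.polar (QuadraticMap.weightedSumSquares F w) x y = 0) → x = 0 := by
        intro x hx
        funext i
        have := hx (Pi.single i 1)
        rw [hwp] at this
        simpa [Pi.single_apply, h2, hw i] using this
      exact ⟨h, fun y hy => h y fun x => by rw [QuadraticMap.polar_comm]; exact hy x⟩
    have hwd : ∀ w : Fin (N + N) → F, ∃ d : F, d ≠ 0 ∧ 2 ^ (N + N) * ∏ i, w i =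
        d * d * (Spinor.gramMat (QuadraticMap.weightedSumSquares F w)).det := by
      intro w
      obtain ⟨d, hd, h⟩ := Spinor.det_diag_gram (QuadraticMap.weightedSumSquares F w) (Pi.basisFun F _)
        (fun i j hij => by rw [hwp]; simp [Pi.single_apply, hij, hij.symm])
      refine ⟨d, hd, ?_⟩
      rw [← h]
      congr 1
      exact Finset.prod_congr rfl fun i _ => by simp [Pi.single_apply]
    obtain ⟨d₁, hd₁, h₁⟩ := hwd a
    obtain ⟨d₂, hd₂, h₂⟩ := hwd e
    obtain ⟨r, hr⟩ := hsq
    have hpe : ∏ i, e i = (-1) ^ N := by simp [he, Fin.prod_univ_add, -Fin.natAdd_eq_addNat]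
    rw [hpe] at h₂
    obtain ⟨g, hg⟩ := (Spinor.isometric_iff h2 _ _ (hwn a ha) (hwn e he0)).2
      ⟨2 ^ (N + N) * r / (d₁ * d₂), by
        field_simp
        linear_combination (2 ^ (N + N) * 2 ^ (N + N)) * hr - (2 ^ (N + N) * (-1) ^ N) * h₁ -
          (d₁ * d₁ * (Spinor.gramMat (QuadraticMap.weightedSumSquares F a)).det) * h₂⟩
    let L : (Fin N → F) →ₗ[F] (Fin (N + N) → F) :=
      { toFun := fun c => Fin.append c c
        map_add' := fun c c' => by funext i; induction i using Fin.addCases <;> simp [-Fin.natAdd_eq_addNat]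
        map_smul' := fun t c => by funext i; induction i using Fin.addCases <;> simp [-Fin.natAdd_eq_addNat] }
    have hL : ∀ c, QuadraticMap.weightedSumSquares F e (L c) = 0 := fun c => by
      simp [L, he, Fin.sum_univ_add, -Fin.natAdd_eq_addNat]
    refine ⟨LinearMap.range (b.equivFun.symm.toLinearMap ∘ₗ g.symm.toLinearMap ∘ₗ L), ?_, ?_⟩
    · rw [LinearMap.finrank_range_of_inj, Module.finrank_fin_fun]
      intro c c' h
      have h' := g.symm.injective (b.equivFun.symm.injective h)
      funext i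
      simpa [L] using congrFun h' (Fin.castAdd N i)
    · have hz : ∀ c, B (b.equivFun.symm (g.symm (L c))) (b.equivFun.symm (g.symm (L c))) = 0 := fun c => by
        rw [hexp, ← hL c, ← g.apply_symm_apply (L c), hg, g.apply_symm_apply]
        simp [QuadraticMap.weightedSumSquares_apply, Finsupp.single_apply, mul_comm]
      rintro _ ⟨c, rfl⟩ _ ⟨c', rfl⟩
      have h3 := hz (c + c')
      simp only [map_add, LinearMap.add_apply, hz, zero_add, add_zero] at h3
      rw [show B (b.equivFun.symm (g.symm (L c'))) (b.equivFun.symm (g.symm (L c))) =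
        B (b.equivFun.symm (g.symm (L c))) (b.equivFun.symm (g.symm (L c'))) from hS.eq _ _] at h3
      exact (mul_eq_zero.1 (show (2 : F) * B _ _ = 0 by linear_combination h3)).resolve_left h2

theorem exists_half_iff (h2 : (2 : F) ≠ 0) {B : LinearMap.BilinForm F V} (hS : B.IsSymm) {ι : Type*}
    [Fintype ι] {N : ℕ} (hcard : Fintype.card ι = N + N) (b : Module.Basis ι F V) (a : ι → F)
    (hb : ∀ i j, i ≠ j → B (b i) (b j) = 0) (hd : ∀ i, B (b i) (b i) = a i) (ha : ∀ i, a i ≠ 0) :
    (∃ X : Submodule F V, Module.finrank F X = N ∧ ∀ x ∈ X, ∀ y ∈ X, B x y = 0) ↔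
      IsSquare ((-1) ^ N * ∏ i, a i) := by
  classical
  let e : ι ≃ Fin (N + N) := Fintype.equivFinOfCardEq hcard
  rw [exists_half_iff_fin h2 hS (b.reindex e) (fun i => a (e.symm i)) (fun i j => ?_) fun i => ha _,
    Fintype.prod_equiv e.symm (fun i => a (e.symm i)) a fun i => rfl]
  rw [Module.Basis.reindex_apply, Module.Basis.reindex_apply]
  by_cases h : i = j
  · rw [if_pos h, h]; exact hd _
  · rw [if_neg h]; exact hb _ _ (e.symm.injective.ne h)

/-- An orthogonal basis for a non-degenerate symmetric form. -/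
theorem exists_diag (h2 : (2 : F) ≠ 0) [FiniteDimensional F V] {B : LinearMap.BilinForm F V}
    (hS : B.IsSymm) (hB : B.Nondegenerate) :
    ∃ (b : Module.Basis (Fin (Module.finrank F V)) F V),
      (∀ i j, i ≠ j → B (b i) (b j) = 0) ∧ ∀ i, B (b i) (b i) ≠ 0 := by
  haveI : Invertible (2 : F) := invertibleOfNonzero h2
  obtain ⟨b, hb⟩ := LinearMap.BilinForm.exists_orthogonal_basis (B := B) ⟨fun x y => hS.eq x y⟩
  refine ⟨b, fun i j h => hb h, fun i h => ?_⟩
  refine b.ne_zero i (hB.1 _ fun y => ?_)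
  rw [← b.sum_repr y, map_sum]
  refine Finset.sum_eq_zero fun j _ => ?_
  rw [map_smul]
  rcases eq_or_ne i j with rfl | hij
  · rw [h, smul_zero]
  · rw [hb hij, smul_zero]

end Cfsg.Agent.HalfIso
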