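import Cfsg.Agent.Lib.FormCentral.Unitary

/-!
Hermitian forms over finite fields have orthonormal bases.
-/

set_option autoImplicit false

open Cfsg

namespace Cfsg.Agent.FormModel

theorem exists_orthonormal {F V : Type*} [Field F] [Finite F] [AddCommGroup V] [Module F V] [FiniteDimensional F V] (σ : F →+* F) (hσ : σ ≠ RingHom.id F) (hσ2 : ∀ a : F, σ (σ a) = a) (B : V →ₛₗ[σ] V →ₗ[F] F) (hS : B.IsSymm) (hB : B.Nondegenerate) : ∃ b : Module.Basis (Fin (Module.finrank F V)) F V, ∀ i j, B (b i) (b j) = if i = j then 1 else 0 := by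
  classical
  haveI := Fintype.ofFinite F
  -- the norm is onto the fixed field
  have hnorm : ∀ a : F, σ a = a → a ≠ 0 → ∃ x, x * σ x = a := by
    let S : Fˣ →* Fˣ := Units.map σ.toMonoidHom
    let N : Fˣ →* Fˣ := MonoidHom.id Fˣ * S
    let D : Fˣ →* Fˣ := MonoidHom.id Fˣ / S
    have hS : ∀ u, S (S u) = u := fun u => Units.ext (hσ2 _)
    have hle : N.range ≤ D.ker := by
      rintro _ ⟨u, rfl⟩
      show N u / S (N u) = 1
      rw [div_eq_one]
      show u * S u = S (u * S u)
      rw [map_mul, hS, mul_comm]
    have hker : N.ker ≤ D.range := by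
      intro u hu
      have hu' : (u : F) * σ u = 1 := congrArg Units.val (hu : u * S u = 1)
      obtain ⟨c, hc⟩ : ∃ c, σ c ≠ c := by
        by_contra h
        push Not at h
        exact hσ (RingHom.ext h)
      obtain ⟨d, hd, he⟩ := FormCentral.exists_of_norm_one σ hσ2 (sub_ne_zero.2 hc.symm).isUnit hu'
      obtain ⟨y, rfl⟩ := hd
      refine ⟨y, Units.ext ?_⟩
      show ((y / S y : Fˣ) : F) = u
      rw [Units.val_div_eq_div_val]
      show (y : F) / σ y = u
      rw [div_eq_iff ((map_ne_zero σ).2 y.ne_zero)]
      exact he.trans (mul_comm _ _)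
    have hcard : Nat.card D.ker ≤ Nat.card N.range := by
      have h1 := Subgroup.card_mul_index D.ker
      have h2 := Subgroup.card_mul_index N.ker
      rw [Subgroup.index_ker] at h1 h2
      have h3 : Nat.card N.ker ≤ Nat.card D.range := Nat.card_mono (Set.toFinite _) hker
      have h4 : 0 < Nat.card D.range := Nat.card_pos
      by_contra hlt
      push Not at hlt
      have : Nat.card N.ker * Nat.card N.range < Nat.card D.range * Nat.card D.ker :=
        calc Nat.card N.ker * Nat.card N.range ≤ Nat.card D.range * Nat.card N.range :=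
              Nat.mul_le_mul_right _ h3
          _ < Nat.card D.range * Nat.card D.ker := Nat.mul_lt_mul_of_pos_left hlt h4
      rw [h2, mul_comm, h1] at this
      exact lt_irrefl _ this
    intro a ha ha0
    have hmem : Units.mk0 a ha0 ∈ N.range := by
      rw [Subgroup.eq_of_le_of_card_ge hle hcard]
      show Units.mk0 a ha0 / S (Units.mk0 a ha0) = 1
      rw [div_eq_one]
      exact Units.ext ha.symm
    obtain ⟨x, hx⟩ := hmem
    exact ⟨x, congrArg Units.val hx⟩
  have hskew : ¬ ∀ c : F, c + σ c = 0 := fun h => hσ (RingHom.ext fun a => by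
    have h1 := h 1
    rw [map_one] at h1
    show σ a = a
    linear_combination h a - a * h1)
  suffices key : ∀ k (W : Submodule F V), Module.finrank F W = k →
      (∀ x ∈ W, (∀ y ∈ W, B x y = 0) → x = 0) →
      ∃ v : Fin k → V, (∀ i, v i ∈ W) ∧ ∀ i j, B (v i) (v j) = if i = j then 1 else 0 by
    obtain ⟨v, -, hv⟩ := key _ ⊤ (finrank_top F V) fun x _ h => hB.1 x fun y => h y Submodule.mem_top
    have hli : LinearIndependent F v := by
      rw [Fintype.linearIndependent_iff]
      intro c hc i
      have := congrArg (B (v i)) hc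
      simpa [hv] using this
    refine ⟨Module.Basis.mk hli (hli.span_eq_top_of_card_eq_finrank' (by simp)).ge, fun i j => ?_⟩
    rw [Module.Basis.mk_apply, Module.Basis.mk_apply]
    exact hv i j
  intro k
  induction k with
  | zero => exact fun W _ _ => ⟨Fin.elim0, fun i => i.elim0, fun i => i.elim0⟩
  | succ k ih =>
    intro W hWd hW
    obtain ⟨u, hu, huu⟩ : ∃ u ∈ W, B u u ≠ 0 := by
      by_contra hc
      push Not at hc
      haveI : Nontrivial W := Module.nontrivial_of_finrank_pos (R := F) (by omega)
      obtain ⟨⟨x, hx⟩, hx0⟩ := exists_ne (0 : W)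
      refine hx0 (Subtype.ext (hW x hx fun y hy => ?_))
      by_contra hb
      refine hskew fun c => ?_
      have h1 := hc (x + (c / B x y) • y) (W.add_mem hx (W.smul_mem _ hy))
      simp only [map_add, map_smulₛₗ, LinearMap.add_apply, LinearMap.smul_apply, smul_eq_mul,
        RingHom.id_apply, hc x hx, hc y hy, mul_zero, add_zero, zero_add] at h1
      rw [← hS.eq x y, div_mul_cancel₀ _ hb] at h1
      rw [map_div₀] at h1
      rw [div_mul_cancel₀ _ ((map_ne_zero σ).2 hb)] at h1
      linear_combination h1
    obtain ⟨r, hr⟩ := hnorm (B u u)⁻¹ (by rw [map_inv₀, hS.eq]) (inv_ne_zero huu)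
    obtain ⟨e, he⟩ : ∃ e, e = r • u := ⟨_, rfl⟩
    have hee : B e e = 1 := by
      simp only [he, map_smulₛₗ, LinearMap.smul_apply, RingHom.id_apply, smul_eq_mul]
      rw [← mul_assoc, hr, inv_mul_cancel₀ huu]
    have heW : e ∈ W := he ▸ W.smul_mem _ hu
    let f : W →ₗ[F] F := (B e).comp W.subtype
    have hf : Function.Surjective f := fun c => ⟨c • ⟨e, heW⟩, by simp [f, hee]⟩
    have hdim := LinearMap.finrank_range_add_finrank_ker f
    rw [LinearMap.range_eq_top.2 hf, finrank_top, Module.finrank_self, hWd] at hdim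
    obtain ⟨W', hW'⟩ : ∃ W', W' = W ⊓ LinearMap.ker (B e) := ⟨_, rfl⟩
    have hd' : Module.finrank F W' = k := by
      have e1 : W' = (LinearMap.ker f).map W.subtype := by
        rw [hW', LinearMap.ker_comp, Submodule.map_comap_eq, Submodule.range_subtype]
      rw [e1, Submodule.finrank_map_subtype_eq]
      omega
    obtain ⟨v, hvW, hv⟩ := ih W' hd' fun x hx h => by
      rw [hW'] at hx
      refine hW x hx.1 fun y hy => ?_
      have hy' : y - B e y • e ∈ W' := by
        rw [hW']
        refine ⟨W.sub_mem hy (W.smul_mem _ heW), ?_⟩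
        show B e (y - B e y • e) = 0
        rw [map_sub, map_smul, smul_eq_mul, hee, mul_one, sub_self]
      have h1 := h _ hy'
      have h2 : B x e = 0 := by rw [← hS.eq e x, show B e x = 0 from hx.2, map_zero]
      rwa [map_sub, map_smul, smul_eq_mul, h2, mul_zero, sub_zero] at h1
    have hve : ∀ i, B e (v i) = 0 ∧ B (v i) e = 0 := fun i => by
      have h : B e (v i) = 0 := (hW' ▸ hvW i).2
      exact ⟨h, by rw [← hS.eq e (v i), h, map_zero]⟩
    refine ⟨Fin.cons e v, fun i => ?_, fun i j => ?_⟩
    · induction i using Fin.cases with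
      | zero => simpa using heW
      | succ i => simpa using (hW' ▸ hvW i).1
    · induction i using Fin.cases with
      | zero =>
        induction j using Fin.cases with
        | zero => simpa using hee
        | succ j => simp [(hve j).1, (Fin.succ_ne_zero j).symm]
      | succ i =>
        induction j using Fin.cases with
        | zero => simp [(hve i).2, Fin.succ_ne_zero i]
        | succ j => simp [hv i j]


end Cfsg.Agent.FormModel
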