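import Cfsg.Agent.Lib.Forms.Models

/-!
Counting totally isotropic planes through fibres.
-/

set_option autoImplicit false

namespace Cfsg.Agent.Quadrangle

open Cfsg.Agent.FormsLib Cfsg.Agent.FormModel

variable {F V : Type*} [Field F] [AddCommGroup V] [Module F V] [Finite F] [Finite V] {σ : F →+* F}

/-- A totally isotropic subspace of dimension two. -/
def IsLine (B : V →ₛₗ[σ] V →ₗ[F] F) (W : Submodule F V) : Prop :=
  Module.finrank F W = 2 ∧ ∀ u ∈ W, ∀ v ∈ W, B u v = 0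

theorem card_submodule {W : Submodule F V} {d : ℕ} (h : Module.finrank F W = d) :
    (W : Set V).ncard = Nat.card F ^ d := by
  haveI : FiniteDimensional F V := Module.Finite.of_finite
  rw [← Nat.card_coe_set_eq]
  show Nat.card W = _
  rw [Module.natCard_eq_pow_finrank (K := F), h]

/-- Counting by unique membership. -/
theorem count_fibres {α β : Type*} [Finite α] [Finite β] (P : α → Prop) (S : β → Prop) (R : α → β → Prop)
    {c : ℕ} (huniq : ∀ x, S x → ∃! a, P a ∧ R a x) (hc : ∀ a, P a → Nat.card {x // S x ∧ R a x} = c) :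
    Nat.card {a // P a} * c = Nat.card {x // S x} := by
  classical
  haveI := Fintype.ofFinite α
  have e : (Σ a : {a // P a}, {x // S x ∧ R a.1 x}) ≃ {x // S x} :=
    Equiv.ofBijective (fun p => ⟨p.2.1, p.2.2.1⟩) ⟨by
      rintro ⟨⟨a, ha⟩, ⟨x, hx, hax⟩⟩ ⟨⟨b, hb⟩, ⟨y, hy, hby⟩⟩ h
      obtain rfl : x = y := congrArg Subtype.val h
      obtain rfl : a = b := (huniq x hx).unique ⟨ha, hax⟩ ⟨hb, hby⟩
      rfl, fun x => by
      obtain ⟨a, ⟨ha, hax⟩, -⟩ := huniq x.1 x.2
      exact ⟨⟨⟨a, ha⟩, ⟨x.1, x.2, hax⟩⟩, rfl⟩⟩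
  rw [← Nat.card_congr e, Nat.card_sigma, Finset.sum_congr rfl fun a _ => hc a.1 a.2, Finset.sum_const,
    Finset.card_univ, ← Nat.card_eq_fintype_card, smul_eq_mul]

variable {B : V →ₛₗ[σ] V →ₗ[F] F}

/-- The lines through an isotropic vector. -/
theorem card_lines_through (hrefl : ∀ x y, B x y = 0 → B y x = 0) {v : V} (hv : v ≠ 0) (hvv : B v v = 0) :
    Nat.card {W : Submodule F V // IsLine B W ∧ v ∈ W} * (Nat.card F ^ 2 - Nat.card F) + Nat.card F =
      Nat.card {x : V // B v x = 0 ∧ B x x = 0} := by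
  classical
  haveI : FiniteDimensional F V := Module.Finite.of_finite
  obtain ⟨L, hL⟩ : ∃ L, L = Submodule.span F {v} := ⟨_, rfl⟩
  have hL1 : Module.finrank F L = 1 := hL ▸ finrank_span_singleton hv
  have hLv : v ∈ L := hL ▸ Submodule.mem_span_singleton_self v
  have hmain := count_fibres (fun W : Submodule F V => IsLine B W ∧ v ∈ W)
    (fun x : V => (B v x = 0 ∧ B x x = 0) ∧ x ∉ L) (fun W x => x ∈ W) (c := Nat.card F ^ 2 - Nat.card F)
    (fun x ⟨⟨hvx, hxx⟩, hxL⟩ => by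
      have hxv : B x v = 0 := hrefl _ _ hvx
      have hli : LinearIndependent F ![v, x] :=
        LinearIndependent.pair_iff.2 fun s t e => by
          have ht : t = 0 := by
            by_contra ht
            refine hxL (hL ▸ Submodule.mem_span_singleton.2 ⟨-(s / t), ?_⟩)
            have e2 : t⁻¹ • (s • v + t • x) = 0 := by rw [e, smul_zero]
            rw [smul_add, inv_smul_smul₀ ht, smul_smul] at e2
            rw [neg_smul, div_eq_inv_mul]
            linear_combination (norm := module) -e2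
          rw [ht, zero_smul, add_zero] at e
          exact ⟨(smul_eq_zero.1 e).resolve_right hv, ht⟩
      refine ⟨Submodule.span F (Set.range ![v, x]), ⟨⟨⟨?_, ?_⟩, Submodule.subset_span ⟨0, rfl⟩⟩,
        Submodule.subset_span ⟨1, rfl⟩⟩, fun W ⟨⟨⟨hW2, _⟩, hvW⟩, hxW⟩ => ?_⟩
      · rw [finrank_span_eq_card hli, Fintype.card_fin]
      · intro a ha b hb
        obtain ⟨ca, rfl⟩ := (Submodule.mem_span_range_iff_exists_fun F).1 ha
        obtain ⟨cb, rfl⟩ := (Submodule.mem_span_range_iff_exists_fun F).1 hb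
        simp [Fin.sum_univ_two, hvv, hvx, hxx, hxv]
      · refine (Submodule.eq_of_le_of_finrank_eq (Submodule.span_le.2 ?_) ?_).symm
        · rintro _ ⟨i, rfl⟩
          fin_cases i <;> assumption
        · rw [finrank_span_eq_card hli, Fintype.card_fin, hW2])
    (fun W ⟨⟨hW2, hW⟩, hvW⟩ => by
      have hset : {x : V | ((B v x = 0 ∧ B x x = 0) ∧ x ∉ L) ∧ x ∈ W} = (W : Set V) \ (L : Set V) := by
        ext x
        exact ⟨fun h => ⟨h.2, h.1.2⟩, fun h => ⟨⟨⟨hW v hvW x h.1, hW x h.1 x h.1⟩, h.2⟩, h.1⟩⟩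
      show Nat.card ↥{x : V | ((B v x = 0 ∧ B x x = 0) ∧ x ∉ L) ∧ x ∈ W} = _
      rw [hset, Nat.card_coe_set_eq, Set.ncard_sdiff ?_, card_submodule hW2, card_submodule hL1, pow_one]
      rw [hL]
      exact SetLike.coe_subset_coe.2 ((Submodule.span_singleton_le_iff_mem _ _).2 hvW))
  have hsub : (L : Set V) ⊆ {x : V | B v x = 0 ∧ B x x = 0} := by
    intro x hx
    obtain ⟨c, rfl⟩ := Submodule.mem_span_singleton.1 (hL ▸ hx)
    simp [hvv]
  have h2 : Nat.card {x : V // (B v x = 0 ∧ B x x = 0) ∧ x ∉ L} + Nat.card F =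
      Nat.card {x : V // B v x = 0 ∧ B x x = 0} := by
    have h3 := Set.ncard_sdiff_add_ncard_of_subset hsub
    rw [card_submodule hL1, pow_one, ← Nat.card_coe_set_eq, ← Nat.card_coe_set_eq] at h3
    exact h3
  rw [hmain, h2]

/-- The total number of lines, when each point lies on the same number. -/
theorem card_lines {c : ℕ} (hc : ∀ v : V, v ≠ 0 → B v v = 0 → Nat.card {W : Submodule F V // IsLine B W ∧ v ∈ W} = c) :
    Nat.card {W : Submodule F V // IsLine B W} * (Nat.card F ^ 2 - 1) =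
      Nat.card {v : V // v ≠ 0 ∧ B v v = 0} * c := by
  classical
  haveI : FiniteDimensional F V := Module.Finite.of_finite
  haveI := Fintype.ofFinite {v : V // v ≠ 0 ∧ B v v = 0}
  haveI := Fintype.ofFinite {W : Submodule F V // IsLine B W}
  let e : (Σ W : {W : Submodule F V // IsLine B W}, {x : V // x ∈ W.1 ∧ x ≠ 0}) ≃
      (Σ v : {v : V // v ≠ 0 ∧ B v v = 0}, {W : Submodule F V // IsLine B W ∧ v.1 ∈ W}) :=
    { toFun := fun p => ⟨⟨p.2.1, p.2.2.2, p.1.2.2 _ p.2.2.1 _ p.2.2.1⟩, ⟨p.1.1, p.1.2, p.2.2.1⟩⟩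
      invFun := fun p => ⟨⟨p.2.1, p.2.2.1⟩, ⟨p.1.1, p.2.2.2, p.1.2.1⟩⟩
      left_inv := fun p => rfl
      right_inv := fun p => rfl }
  have hA : ∀ v : {v : V // v ≠ 0 ∧ B v v = 0},
      Nat.card {W : Submodule F V // IsLine B W ∧ v.1 ∈ W} = c := fun v => hc v.1 v.2.1 v.2.2
  have hW : ∀ W : {W : Submodule F V // IsLine B W},
      Nat.card {x : V // x ∈ W.1 ∧ x ≠ 0} = Nat.card F ^ 2 - 1 := fun W => by
    show Nat.card ↥((W.1 : Set V) \ {0}) = _
    rw [Nat.card_coe_set_eq, Set.ncard_sdiff_singleton_of_mem (zero_mem W.1), card_submodule W.2.1]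
  have h := Nat.card_congr e
  simp only [Nat.card_sigma, hA, hW, Finset.sum_const, Finset.card_univ, ← Nat.card_eq_fintype_card,
    smul_eq_mul] at h
  exact h

/-- Isotropic vectors orthogonal to an isotropic vector. -/
theorem exists_perp_count (hrefl : ∀ x y, B x y = 0 → B y x = 0) (hB : ∀ u, (∀ x, B u x = 0) → u = 0)
    {v : V} (hv : v ≠ 0) (hvv : B v v = 0) :
    ∃ H : Submodule F V, Module.finrank F H + 2 = Module.finrank F V ∧
      (∀ u : H, (∀ x : H, B u.1 x.1 = 0) → u = 0) ∧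
      Nat.card {x : V // B v x = 0 ∧ B x x = 0} = Nat.card F * Nat.card {x : H // B x.1 x.1 = 0} := by
  classical
  haveI : FiniteDimensional F V := Module.Finite.of_finite
  obtain ⟨w, hw⟩ : ∃ w, B v w = 1 := by
    obtain ⟨x, hx⟩ : ∃ x, B v x ≠ 0 := by
      by_contra hc
      push Not at hc
      exact hv (hB v hc)
    exact ⟨(B v x)⁻¹ • x, by rw [map_smul, smul_eq_mul, inv_mul_cancel₀ hx]⟩
  have hwv : B w v ≠ 0 := fun h => by
    have := hrefl _ _ h
    rw [hw] at this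
    exact one_ne_zero this
  obtain ⟨P, hP⟩ : ∃ P, P = Submodule.span F (Set.range ![v, w]) := ⟨_, rfl⟩
  have hli : LinearIndependent F ![v, w] := LinearIndependent.pair_iff.2 fun s t e => by
    have h1 := congrArg (B v) e
    simp [hvv, hw] at h1
    refine ⟨?_, h1⟩
    rw [h1, zero_smul, add_zero] at e
    exact (smul_eq_zero.1 e).resolve_right hv
  have hPd : ∀ u ∈ P, (∀ x ∈ P, B u x = 0) → u = 0 := by
    intro u hu h
    obtain ⟨c, rfl⟩ := (Submodule.mem_span_range_iff_exists_fun F).1 (hP ▸ hu)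
    have h1 := h v (hP ▸ Submodule.subset_span ⟨0, rfl⟩)
    have h2 := h w (hP ▸ Submodule.subset_span ⟨1, rfl⟩)
    simp [Fin.sum_univ_two, hvv, hw, hwv] at h1 h2
    rw [h1] at h2
    simp at h2
    simp [Fin.sum_univ_two, h1, h2]
  have hc := isCompl_perp hrefl hPd
  refine ⟨perp B P, ?_, ?_, ?_⟩
  · have := Submodule.finrank_add_eq_of_isCompl hc
    rw [show Module.finrank F P = 2 by rw [hP, finrank_span_eq_card hli, Fintype.card_fin]] at this
    omega
  · intro u hu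
    refine Subtype.ext (hB u.1 fun x => ?_)
    obtain ⟨a, ha, b, hb, rfl⟩ := Submodule.mem_sup.1 (hc.sup_eq_top ▸ Submodule.mem_top (x := x))
    have h1 : B u.1 b = 0 := hu ⟨b, hb⟩
    rw [map_add, hrefl _ _ (u.2 a ha), h1, add_zero]
  · rw [← Nat.card_prod]
    have hh : ∀ h ∈ perp B P, B v h = 0 ∧ B h v = 0 := fun h hh =>
      ⟨hh v (hP ▸ Submodule.subset_span ⟨0, rfl⟩), hrefl _ _ (hh v (hP ▸ Submodule.subset_span ⟨0, rfl⟩))⟩
    refine (Nat.card_congr (Equiv.ofBijective (fun p : F × {x : perp B P // B x.1 x.1 = 0} =>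
      (⟨p.1 • v + p.2.1.1, by simp [hvv, (hh _ p.2.1.2).1],
        by simp [hvv, (hh _ p.2.1.2).1, (hh _ p.2.1.2).2, p.2.2]⟩ : {x : V // B v x = 0 ∧ B x x = 0})) ⟨?_, ?_⟩)).symm
    · rintro ⟨a, h⟩ ⟨a', h'⟩ e
      have e' : a • v + h.1.1 = a' • v + h'.1.1 := congrArg Subtype.val e
      have hz : (a - a') • v = h'.1.1 - h.1.1 := by linear_combination (norm := module) e'
      have hz0 : (a - a') • v = 0 := (Submodule.disjoint_def.1 hc.disjoint) _
        (P.smul_mem _ (hP ▸ Submodule.subset_span ⟨0, rfl⟩)) (hz ▸ Submodule.sub_mem _ h'.1.2 h.1.2)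
      rw [hz0] at hz
      exact Prod.ext (sub_eq_zero.1 ((smul_eq_zero.1 hz0).resolve_right hv))
        (Subtype.ext (Subtype.ext (sub_eq_zero.1 hz.symm).symm))
    · rintro ⟨x, hx, hxx⟩
      obtain ⟨p, hp, h, hmem, e⟩ := Submodule.mem_sup.1 (hc.sup_eq_top ▸ Submodule.mem_top (x := x))
      obtain ⟨c, hpc⟩ := (Submodule.mem_span_range_iff_exists_fun F).1 (hP ▸ hp)
      rw [Fin.sum_univ_two] at hpc
      obtain rfl : c 0 • v + c 1 • w + h = x := by rw [← e, ← hpc]; rfl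
      have hc1 : c 1 = 0 := by simpa [hvv, hw, (hh h hmem).1] using hx
      refine ⟨⟨c 0, ⟨⟨h, hmem⟩, ?_⟩⟩, Subtype.ext (by simp [hc1])⟩
      simpa [hc1, hvv, (hh h hmem).1, (hh h hmem).2] using hxx

end Cfsg.Agent.Quadrangle
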