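import Mathlib

/-!
Maximal totally singular subspaces of a hyperbolic quadratic space.
-/

set_option autoImplicit false

namespace Cfsg.Agent.Rulings

variable {F V : Type*} [Field F] [AddCommGroup V] [Module F V] [FiniteDimensional F V]
  {Q : QuadraticForm F V}

/-- `W` is a totally singular subspace of dimension `d`. -/
def TS (Q : QuadraticForm F V) (d : ℕ) (W : Submodule F V) : Prop :=
  Module.finrank F W = d ∧ ∀ w ∈ W, Q w = 0

local notation "orth" => LinearMap.BilinForm.orthogonal (QuadraticMap.polarBilin Q)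

omit [FiniteDimensional F V] in
theorem mem_orth {U : Submodule F V} {x : V} :
    x ∈ orth U ↔ ∀ u ∈ U, QuadraticMap.polar Q u x = 0 := Iff.rfl

omit [FiniteDimensional F V] in
theorem polar_eq_zero {d : ℕ} {W : Submodule F V} (h : TS Q d W) {x y : V} (hx : x ∈ W) (hy : y ∈ W) :
    QuadraticMap.polar Q x y = 0 := by
  rw [QuadraticMap.polar, h.2 _ (W.add_mem hx hy), h.2 x hx, h.2 y hy, sub_zero, sub_zero]

omit [FiniteDimensional F V] in
theorem le_orth {d : ℕ} {W : Submodule F V} (h : TS Q d W) : W ≤ orth W :=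
  fun _ hx => mem_orth.2 fun _ hu => polar_eq_zero h hu hx

variable (hQ : (QuadraticMap.polarBilin Q).Nondegenerate) {m : ℕ} (hV : Module.finrank F V = 2 * m)

include hQ hV

theorem orth_eq {W : Submodule F V} (h : TS Q m W) : orth W = W := by
  refine (Submodule.eq_of_le_of_finrank_le (le_orth h) ?_).symm
  rw [LinearMap.BilinForm.finrank_orthogonal hQ, hV, h.1]
  omega

/-- A maximal totally singular subspace meets `Uᗮ` in one dimension more than it meets `U`. -/
theorem finrank_inf_orth {U W : Submodule F V} (hU : Module.finrank F U + 1 = m) (hW : TS Q m W) :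
    Module.finrank F ↥(W ⊓ orth U) = Module.finrank F ↥(W ⊓ U) + 1 := by
  have h1 : W ⊓ orth U = orth (W ⊔ U) := by
    conv_lhs => rw [← orth_eq hQ hV hW]
    ext x
    constructor
    · rintro ⟨hx1, hx2⟩
      rw [mem_orth]
      intro u hu
      obtain ⟨a, ha, b, hb, rfl⟩ := Submodule.mem_sup.1 hu
      rw [QuadraticMap.polar_add_left, mem_orth.1 hx1 a ha, mem_orth.1 hx2 b hb, add_zero]
    · intro hx
      exact ⟨mem_orth.2 fun u hu => mem_orth.1 hx u (Submodule.mem_sup_left hu),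
        mem_orth.2 fun u hu => mem_orth.1 hx u (Submodule.mem_sup_right hu)⟩
  rw [h1, LinearMap.BilinForm.finrank_orthogonal hQ, hV]
  have h2 := Submodule.finrank_sup_add_finrank_inf_eq W U
  have h3 := Submodule.finrank_mono (inf_le_right : W ⊓ U ≤ U)
  rw [hW.1] at h2
  omega

/-- A totally singular subspace of dimension `m - 1` lies in exactly two maximal ones, and every singular
vector orthogonal to it lies in one of them. -/
theorem exists_two {U W₀ : Submodule F V} (hW₀ : TS Q m W₀) (hU : Module.finrank F U + 1 = m)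
    (hUs : ∀ u ∈ U, Q u = 0) :
    ∃ W₁ W₂ : Submodule F V, TS Q m W₁ ∧ TS Q m W₂ ∧ U ≤ W₁ ∧ U ≤ W₂ ∧ W₁ ≠ W₂ ∧
      (∀ z ∈ orth U, Q z = 0 → z ∈ W₁ ∨ z ∈ W₂) ∧ ∀ W, TS Q m W → U ≤ W → W = W₁ ∨ W = W₂ := by
  classical
  have hUT : TS Q (Module.finrank F U) U := ⟨rfl, hUs⟩
  obtain ⟨x, hx, hxU⟩ : ∃ x ∈ W₀ ⊓ orth U, x ∉ U := by
    by_contra hc
    push Not at hc
    have h1 : W₀ ⊓ orth U ≤ W₀ ⊓ U := fun z hz => ⟨hz.1, hc z hz⟩
    have h2 := Submodule.finrank_mono h1
    rw [finrank_inf_orth hQ hV hU hW₀] at h2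
    omega
  have hxP := hx.2
  have hQx : Q x = 0 := hW₀.2 x hx.1
  obtain ⟨y₀, hy₀, hxy₀⟩ : ∃ y ∈ orth U, QuadraticMap.polar Q x y ≠ 0 := by
    by_contra hc
    push Not at hc
    refine hxU ?_
    rw [← LinearMap.BilinForm.orthogonal_orthogonal hQ (fun a b h => by
      rw [QuadraticMap.polarBilin_apply_apply, QuadraticMap.polar_comm]; exact h) U]
    exact mem_orth.2 fun u hu => by rw [QuadraticMap.polar_comm]; exact hc u hu
  obtain ⟨y, hy⟩ : ∃ y, y = y₀ - (Q y₀ / QuadraticMap.polar Q x y₀) • x := ⟨_, rfl⟩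
  have hyP : y ∈ orth U := hy ▸ Submodule.sub_mem _ hy₀ (Submodule.smul_mem _ _ hxP)
  have hQy : Q y = 0 := by
    rw [hy, sub_eq_add_neg, ← neg_smul, QuadraticMap.map_add Q, QuadraticMap.map_smul, hQx, smul_zero,
      add_zero, QuadraticMap.polar_smul_right, QuadraticMap.polar_comm Q y₀ x, smul_eq_mul, neg_mul,
      div_mul_cancel₀ _ hxy₀, add_neg_cancel]
  have hxx : QuadraticMap.polar Q x x = 0 := polar_eq_zero hW₀ hx.1 hx.1
  have hxy : QuadraticMap.polar Q x y ≠ 0 := by
    rwa [hy, QuadraticMap.polar_sub_right, QuadraticMap.polar_smul_right, hxx, smul_zero, sub_zero]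
  have hyU : y ∉ U := fun h => hxy (by
    rw [QuadraticMap.polar_comm]; exact mem_orth.1 hxP y h)
  have mk : ∀ z, z ∈ orth U → Q z = 0 → z ∉ U → TS Q m (U ⊔ Submodule.span F {z}) := by
    intro z hz hQz hzU
    refine ⟨?_, fun w hw => ?_⟩
    · have hz0 : z ≠ 0 := fun e => hzU (e ▸ zero_mem _)
      have hd : U ⊓ Submodule.span F {z} = ⊥ := by
        rw [Submodule.eq_bot_iff]
        rintro w ⟨hw, hw'⟩
        obtain ⟨c, rfl⟩ := Submodule.mem_span_singleton.1 hw'
        rcases eq_or_ne c 0 with rfl | hc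
        · exact zero_smul F z
        · exact absurd (by simpa [smul_smul, inv_mul_cancel₀ hc] using U.smul_mem c⁻¹ hw) hzU
      have := Submodule.finrank_sup_add_finrank_inf_eq U (Submodule.span F {z})
      rw [hd, finrank_bot, finrank_span_singleton hz0] at this
      omega
    · obtain ⟨a, ha, b, hb, rfl⟩ := Submodule.mem_sup.1 hw
      obtain ⟨c, rfl⟩ := Submodule.mem_span_singleton.1 hb
      rw [QuadraticMap.map_add Q, QuadraticMap.map_smul, hQz, hUs a ha, QuadraticMap.polar_smul_right,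
        mem_orth.1 hz a ha]
      simp
  -- coordinates on `Uᗮ`
  have hspan : ∀ z ∈ orth U, ∃ u ∈ U, ∃ a b : F, z = u + a • x + b • y := by
    have hle : U ⊔ Submodule.span F {x} ⊔ Submodule.span F {y} ≤ orth U :=
      sup_le (sup_le (le_orth hUT) ((Submodule.span_singleton_le_iff_mem _ _).2 hxP))
        ((Submodule.span_singleton_le_iff_mem _ _).2 hyP)
    have hy1 : y ∉ U ⊔ Submodule.span F {x} := by
      intro h
      obtain ⟨a, ha, b, hb, e⟩ := Submodule.mem_sup.1 h
      obtain ⟨c, rfl⟩ := Submodule.mem_span_singleton.1 hb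
      refine hxy ?_
      rw [← e, QuadraticMap.polar_add_right, QuadraticMap.polar_smul_right, hxx, smul_zero, add_zero,
        QuadraticMap.polar_comm]
      exact mem_orth.1 hxP a ha
    have hlt : U ⊔ Submodule.span F {x} < U ⊔ Submodule.span F {x} ⊔ Submodule.span F {y} :=
      lt_of_le_of_ne le_sup_left fun e => hy1 (by
        rw [e]; exact Submodule.mem_sup_right (Submodule.mem_span_singleton_self y))
    have h1 := Submodule.finrank_lt_finrank_of_lt hlt
    rw [(mk x hxP hQx hxU).1] at h1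
    have he := Submodule.eq_of_le_of_finrank_le hle (by
      rw [LinearMap.BilinForm.finrank_orthogonal hQ, hV]; omega)
    intro z hz
    rw [← he] at hz
    obtain ⟨w, hw, b, hb, rfl⟩ := Submodule.mem_sup.1 hz
    obtain ⟨u, hu, a, ha, rfl⟩ := Submodule.mem_sup.1 hw
    obtain ⟨a, rfl⟩ := Submodule.mem_span_singleton.1 ha
    obtain ⟨b, rfl⟩ := Submodule.mem_span_singleton.1 hb
    exact ⟨u, hu, a, b, rfl⟩
  obtain ⟨W₁, hW₁⟩ : ∃ W₁, W₁ = U ⊔ Submodule.span F {x} := ⟨_, rfl⟩
  obtain ⟨W₂, hW₂⟩ : ∃ W₂, W₂ = U ⊔ Submodule.span F {y} := ⟨_, rfl⟩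
  have hsing : ∀ z ∈ orth U, Q z = 0 → z ∈ W₁ ∨ z ∈ W₂ := by
    intro z hz hQz
    obtain ⟨u, hu, a, b, rfl⟩ := hspan z hz
    have : a * (b * QuadraticMap.polar Q x y) = 0 := by
      rw [QuadraticMap.map_add Q, QuadraticMap.map_add Q, QuadraticMap.map_smul, QuadraticMap.map_smul, hQx,
        hQy, hUs u hu, QuadraticMap.polar_add_left, QuadraticMap.polar_smul_right,
        QuadraticMap.polar_smul_right, QuadraticMap.polar_smul_left, mem_orth.1 hxP u hu,
        mem_orth.1 hyP u hu] at hQz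
      simp only [smul_eq_mul, mul_zero, add_zero, zero_add, QuadraticMap.polar_smul_right] at hQz
      linear_combination hQz
    rcases mul_eq_zero.1 this with ha | hb
    · right
      rw [hW₂, ha, zero_smul, add_zero]
      exact Submodule.add_mem_sup hu (Submodule.smul_mem _ _ (Submodule.mem_span_singleton_self y))
    · left
      rw [hW₁, (mul_eq_zero.1 hb).resolve_right hxy, zero_smul, add_zero]
      exact Submodule.add_mem_sup hu (Submodule.smul_mem _ _ (Submodule.mem_span_singleton_self x))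
  have hT₁ : TS Q m W₁ := hW₁ ▸ mk x hxP hQx hxU
  have hT₂ : TS Q m W₂ := hW₂ ▸ mk y hyP hQy hyU
  have hU₁ : U ≤ W₁ := hW₁ ▸ le_sup_left
  have hU₂ : U ≤ W₂ := hW₂ ▸ le_sup_left
  refine ⟨W₁, W₂, hT₁, hT₂, hU₁, hU₂, fun e => hxy ?_, hsing, fun W hW hUW => ?_⟩
  · have hx₁ : x ∈ W₁ := hW₁ ▸ Submodule.mem_sup_right (Submodule.mem_span_singleton_self x)
    have hy₂ : y ∈ W₂ := hW₂ ▸ Submodule.mem_sup_right (Submodule.mem_span_singleton_self y)
    exact polar_eq_zero hT₁ hx₁ (e ▸ hy₂)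
  · obtain ⟨z, hzW, hzU⟩ : ∃ z ∈ W, z ∉ U := by
      by_contra hc
      push Not at hc
      have := Submodule.finrank_mono (show W ≤ U from hc)
      rw [hW.1] at this
      omega
    have hzP : z ∈ orth U := mem_orth.2 fun u hu => polar_eq_zero hW (hUW hu) hzW
    have hWz := mk z hzP (hW.2 z hzW) hzU
    have heq : U ⊔ Submodule.span F {z} = W := Submodule.eq_of_le_of_finrank_eq
      (sup_le hUW ((Submodule.span_singleton_le_iff_mem _ _).2 hzW)) (by rw [hWz.1, hW.1])
    rcases hsing z hzP (hW.2 z hzW) with h | h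
    · exact Or.inl (heq ▸ Submodule.eq_of_le_of_finrank_eq
        (sup_le hU₁ ((Submodule.span_singleton_le_iff_mem _ _).2 h)) (by rw [hWz.1, hT₁.1]))
    · exact Or.inr (heq ▸ Submodule.eq_of_le_of_finrank_eq
        (sup_le hU₂ ((Submodule.span_singleton_le_iff_mem _ _).2 h)) (by rw [hWz.1, hT₂.1]))

/-- Of two adjacent maximal subspaces, a third meets one in exactly one dimension more than the other. -/
theorem adjacent {U U' W : Submodule F V} (hU : TS Q m U) (hU' : TS Q m U') (hW : TS Q m W)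
    (hd : Module.finrank F ↥(U ⊓ U') + 1 = m) :
    Module.finrank F ↥(U ⊓ W) = Module.finrank F ↥(U' ⊓ W) + 1 ∨
      Module.finrank F ↥(U' ⊓ W) = Module.finrank F ↥(U ⊓ W) + 1 := by
  obtain ⟨Z, hZ⟩ : ∃ Z, Z = U ⊓ U' := ⟨_, rfl⟩
  rw [← hZ] at hd
  have hZU : Z ≤ U := hZ ▸ inf_le_left
  have hZU' : Z ≤ U' := hZ ▸ inf_le_right
  obtain ⟨W₁, W₂, h1, h2, hl1, hl2, hne, hsing, huniq⟩ :=
    exists_two hQ hV hU hd fun u hu => hU.2 u (hZU hu)
  have hne' : U ≠ U' := fun e => by
    rw [hZ, ← e, inf_idem, hU.1] at hd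
    omega
  have key : ∀ z ∈ orth Z, Q z = 0 → z ∈ U ∨ z ∈ U' := by
    intro z hz hQz
    rcases huniq U hU hZU with e | e <;> rcases huniq U' hU' hZU' with e' | e' <;>
      rcases hsing z hz hQz with h | h <;> subst e e' <;>
      first
        | exact absurd rfl hne'
        | exact Or.inl h
        | exact Or.inr h
  have hcases : W ⊓ orth Z ≤ U ∨ W ⊓ orth Z ≤ U' := by
    by_contra hc
    push Not at hc
    obtain ⟨a, ha, haU⟩ := SetLike.not_le_iff_exists.1 hc.1
    obtain ⟨b, hb, hbU⟩ := SetLike.not_le_iff_exists.1 hc.2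
    have haU' := (key a ha.2 (hW.2 a ha.1)).resolve_left haU
    have hbU' := (key b hb.2 (hW.2 b hb.1)).resolve_right hbU
    rcases key (a + b) (Submodule.add_mem _ ha.2 hb.2) (hW.2 _ (W.add_mem ha.1 hb.1)) with h | h
    · exact haU (by simpa using U.sub_mem h hbU')
    · exact hbU (by simpa using U'.sub_mem h haU')
  have hdim := finrank_inf_orth hQ hV hd hW
  have hperp : ∀ X : Submodule F V, TS Q m X → Z ≤ X → X ≤ orth Z := fun X hX hZX =>
    fun x hx => mem_orth.2 fun u hu => polar_eq_zero hX (hZX hu) hx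
  have hUW : U ⊓ W ≤ W ⊓ orth Z := le_inf inf_le_right (inf_le_left.trans (hperp U hU hZU))
  have hU'W : U' ⊓ W ≤ W ⊓ orth Z := le_inf inf_le_right (inf_le_left.trans (hperp U' hU' hZU'))
  rcases hcases with h | h
  · left
    rw [le_antisymm hUW (le_inf h inf_le_left), hdim]
    have : U' ⊓ W = W ⊓ Z := le_antisymm
      (le_inf inf_le_right (hZ ▸ le_inf ((hU'W.trans (le_refl _)).trans h) inf_le_left))
      (le_inf (inf_le_right.trans hZU') inf_le_left)
    rw [this]
  · right
    rw [le_antisymm hU'W (le_inf h inf_le_left), hdim]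
    have : U ⊓ W = W ⊓ Z := le_antisymm
      (le_inf inf_le_right (hZ ▸ le_inf inf_le_left (hUW.trans h)))
      (le_inf (inf_le_right.trans hZU) inf_le_left)
    rw [this]

/-- The parity relation between three maximal subspaces. -/
theorem parity {U W X : Submodule F V} (hU : TS Q m U) (hW : TS Q m W) (hX : TS Q m X) :
    Even ((m - Module.finrank F ↥(U ⊓ W)) + (m - Module.finrank F ↥(W ⊓ X)) +
      (m - Module.finrank F ↥(U ⊓ X))) := by
  suffices key : ∀ k, ∀ U, TS Q m U → m - Module.finrank F ↥(U ⊓ W) = k →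
      Even (k + (m - Module.finrank F ↥(W ⊓ X)) + (m - Module.finrank F ↥(U ⊓ X))) from key _ U hU rfl
  intro k
  induction k with
  | zero =>
    intro U hU hk
    have h1 := Submodule.finrank_mono (inf_le_left : U ⊓ W ≤ U)
    rw [hU.1] at h1
    have e1 : U ⊓ W = U := Submodule.eq_of_le_of_finrank_eq inf_le_left (by rw [hU.1]; omega)
    have e2 : U = W := Submodule.eq_of_le_of_finrank_eq (e1 ▸ inf_le_right) (by rw [hU.1, hW.1])
    subst e2
    exact ⟨m - Module.finrank F ↥(U ⊓ X), by omega⟩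
  | succ k ih =>
    intro U hU hk
    -- a hyperplane of `U` containing `U ⊓ W`
    obtain ⟨u, hu, huW⟩ : ∃ u ∈ U, u ∉ U ⊓ W := by
      by_contra hc
      push Not at hc
      have := Submodule.finrank_mono (show U ≤ U ⊓ W from hc)
      rw [hU.1] at this
      omega
    obtain ⟨f, hfu, hf⟩ := Submodule.exists_le_ker_of_notMem huW
    obtain ⟨Z, hZ⟩ : ∃ Z, Z = U ⊓ LinearMap.ker f := ⟨_, rfl⟩
    have hZd : Module.finrank F Z + 1 = m := by
      have hne : Z < U := lt_of_le_of_ne (hZ ▸ inf_le_left) fun e => hfu (by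
        have : u ∈ Z := e.symm ▸ hu
        rw [hZ] at this
        exact this.2)
      have h1 := Submodule.finrank_lt_finrank_of_lt hne
      have h2 := Submodule.finrank_sup_add_finrank_inf_eq U (LinearMap.ker f)
      have h3 := LinearMap.finrank_range_add_finrank_ker f
      have h4 := Submodule.finrank_le (U ⊔ LinearMap.ker f)
      have h5 : Module.finrank F (LinearMap.range f) ≤ 1 :=
        (Submodule.finrank_le _).trans_eq (Module.finrank_self F)
      rw [← hZ] at h2
      rw [hU.1] at h1 h2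
      omega
    have hWZ : W ⊓ U ≤ Z := fun z hz => hZ ▸ ⟨hz.2, hf ⟨hz.2, hz.1⟩⟩
    obtain ⟨x, hx, hxU⟩ : ∃ x ∈ W ⊓ LinearMap.BilinForm.orthogonal (QuadraticMap.polarBilin Q) Z, x ∉ U := by
      by_contra hc
      push Not at hc
      have h2 := Submodule.finrank_mono (show W ⊓ LinearMap.BilinForm.orthogonal (QuadraticMap.polarBilin Q) Z
        ≤ W ⊓ Z from fun z hz => ⟨hz.1, hWZ ⟨hz.1, hc z hz⟩⟩)
      rw [finrank_inf_orth hQ hV hZd hW] at h2
      omega
    obtain ⟨W₁, W₂, h1, h2, hl1, hl2, -, hsing, huniq⟩ :=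
      exists_two hQ hV hU hZd fun z hz => hU.2 z (by rw [hZ] at hz; exact hz.1)
    obtain ⟨U', hU', hZU', hxU'⟩ : ∃ U', TS Q m U' ∧ Z ≤ U' ∧ x ∈ U' := by
      rcases hsing x hx.2 (hW.2 x hx.1) with h | h
      · exact ⟨W₁, h1, hl1, h⟩
      · exact ⟨W₂, h2, hl2, h⟩
    have hadj : Module.finrank F ↥(U ⊓ U') + 1 = m := by
      have hlt : U ⊓ U' < U' := lt_of_le_of_ne inf_le_right fun e => hxU ((e.symm ▸ hxU' : x ∈ U ⊓ U').1)
      have h3 := Submodule.finrank_lt_finrank_of_lt hlt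
      have h4 := Submodule.finrank_mono (le_inf (hZ ▸ inf_le_left : Z ≤ U) hZU')
      rw [hU'.1] at h3
      omega
    have hmono : Module.finrank F ↥(U ⊓ W) < Module.finrank F ↥(U' ⊓ W) := by
      refine Submodule.finrank_lt_finrank_of_lt (lt_of_le_of_ne ?_ fun e => ?_)
      · exact fun z hz => ⟨hZU' (hWZ ⟨hz.2, hz.1⟩), hz.2⟩
      · exact hxU ((e.symm ▸ (⟨hxU', hx.1⟩ : x ∈ U' ⊓ W) : x ∈ U ⊓ W).1)
    have hUW := adjacent hQ hV hU hU' hW hadj
    have hUX := adjacent hQ hV hU hU' hX hadj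
    have hk' : m - Module.finrank F ↥(U' ⊓ W) = k := by omega
    have := ih U' hU' hk'
    have b1 := Submodule.finrank_mono (inf_le_left : U ⊓ X ≤ U)
    have b2 := Submodule.finrank_mono (inf_le_left : U' ⊓ X ≤ U')
    rw [hU.1] at b1
    rw [hU'.1] at b2
    rw [Nat.even_iff] at this ⊢
    omega

end Cfsg.Agent.Rulings
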