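import Cfsg.Agent.Lib.Forms.SpSimple

/-!
Conjugacy of elements squaring to `1` or to `-1` in symplectic groups in odd characteristic.
-/

set_option autoImplicit false

namespace Cfsg.Agent.FormsLib

variable {F V : Type*} [Field F] [AddCommGroup V] [Module F V]

/-- A spanning symplectic family. -/
structure IsSFrame {ι : Type*} [DecidableEq ι] (B : LinearMap.BilinForm F V) (e f : ι → V) : Prop where
  ef : ∀ i j, B (e i) (f j) = if i = j then 1 else 0
  ee : ∀ i j, B (e i) (e j) = 0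
  ff : ∀ i j, B (f i) (f j) = 0
  span : ⊤ ≤ Submodule.span F (Set.range (Sum.elim e f))

variable {B : LinearMap.BilinForm F V}

theorem sfamily_linearIndependent {ι : Type*} [Fintype ι] [DecidableEq ι] (hA : LinearMap.IsAlt B)
    {e f : ι → V} (ef : ∀ i j, B (e i) (f j) = if i = j then 1 else 0)
    (ee : ∀ i j, B (e i) (e j) = 0) (ff : ∀ i j, B (f i) (f j) = 0) :
    LinearIndependent F (Sum.elim e f) := by
  rw [Fintype.linearIndependent_iff]
  intro c hc
  simp only [Fintype.sum_sum_type, Sum.elim_inl, Sum.elim_inr] at hc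
  have fe : ∀ i j, B (f i) (e j) = if i = j then -1 else 0 := fun i j => by
    rw [alt_swap hA (e j) (f i), ef]
    rcases eq_or_ne i j with h | h
    · simp [h]
    · simp [h, h.symm]
  rintro (i | i)
  · simpa [map_sum, fe, ff] using congrArg (B (f i)) hc
  · simpa [map_sum, ef, ee] using congrArg (B (e i)) hc

variable [FiniteDimensional F V]

omit [FiniteDimensional F V] in
theorem IsSFrame.finrank_eq {ι : Type*} [Fintype ι] [DecidableEq ι] (hA : LinearMap.IsAlt B)
    {e f : ι → V} (h : IsSFrame B e f) : Module.finrank F V = 2 * Fintype.card ι := by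
  rw [Module.finrank_eq_card_basis
    (Module.Basis.mk (sfamily_linearIndependent hA h.ef h.ee h.ff) h.span), Fintype.card_sum,
    two_mul]

/-- Two spanning symplectic families differ by an isometry. -/
theorem IsSFrame.exists_iso {ι : Type*} [Fintype ι] [DecidableEq ι] (hA : LinearMap.IsAlt B)
    (hB : LinearMap.Nondegenerate B) {e f e' f' : ι → V} (h : IsSFrame B e f)
    (h' : IsSFrame B e' f') : ∃ g ∈ isoGroup B, ∀ i, g (e i) = e' i ∧ g (f i) = f' i := by
  let b := Module.Basis.mk (sfamily_linearIndependent hA h.ef h.ee h.ff) h.span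
  let φ := b.constr F (Sum.elim e' f')
  have hb : ∀ s, φ (b s) = Sum.elim e' f' s := b.constr_basis F _
  have hbs : ∀ s, b s = Sum.elim e f s := fun s => Module.Basis.mk_apply _ _ s
  have hpres : ∀ u v, B (φ u) (φ v) = B u v := by
    suffices hh : B.compl₁₂ φ φ = B from fun u v =>
      congrArg (fun k : LinearMap.BilinForm F V => k u v) hh
    refine LinearMap.ext_basis b b ?_
    rintro (i | i) (k | k) <;> simp only [LinearMap.compl₁₂_apply, hb] <;> simp only [hbs] <;>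
      simp only [Sum.elim_inl, Sum.elim_inr]
    · rw [h'.ee, h.ee]
    · rw [h'.ef, h.ef]
    · rw [alt_swap hA (e' k) (f' i), alt_swap hA (e k) (f i), h'.ef, h.ef]
    · rw [h'.ff, h.ff]
  obtain ⟨g, hg, hgf⟩ := (isTraceForm_of_isAlt hA hB).exists_equiv φ hpres
  refine ⟨g, hg, fun i => ⟨?_, ?_⟩⟩
  · rw [hgf]; simpa [hbs] using hb (.inl i)
  · rw [hgf]; simpa [hbs] using hb (.inr i)

/-- Elements respecting corresponding frames are conjugate. -/
theorem IsSFrame.exists_conj {ι : Type*} [Fintype ι] [DecidableEq ι] (hA : LinearMap.IsAlt B)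
    (hB : LinearMap.Nondegenerate B) {e f e' f' : ι → V} (h : IsSFrame B e f)
    (h' : IsSFrame B e' f') {g g' : V ≃ₗ[F] V}
    (hc : ∀ k ∈ isoGroup B, (∀ i, k (e i) = e' i ∧ k (f i) = f' i) →
      ∀ i, k (g (e i)) = g' (e' i) ∧ k (g (f i)) = g' (f' i)) :
    ∃ k ∈ isoGroup B, k * g = g' * k := by
  obtain ⟨k, hk, hki⟩ := h.exists_iso hA hB h'
  refine ⟨k, hk, LinearEquiv.toLinearMap_injective ((Module.Basis.mk
    (sfamily_linearIndependent hA h.ef h.ee h.ff) h.span).ext fun s => ?_)⟩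
  rcases s with i | i
  · simpa [(hki i).1] using (hc k hk hki i).1
  · simpa [(hki i).2] using (hc k hk hki i).2

omit [FiniteDimensional F V] in
theorem sq_eq_one_decomp {g : V ≃ₗ[F] V} (h2 : (2 : F) ≠ 0) (hg : ∀ v, g (g v) = v) (v : V) :
    v = (2 : F)⁻¹ • (v + g v) + (2 : F)⁻¹ • (v - g v) ∧
      g ((2 : F)⁻¹ • (v + g v)) = (2 : F)⁻¹ • (v + g v) ∧
      g ((2 : F)⁻¹ • (v - g v)) = -((2 : F)⁻¹ • (v - g v)) := by
  have h22 : (2 : F)⁻¹ + (2 : F)⁻¹ = 1 := by field_simp; norm_num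
  refine ⟨?_, ?_, ?_⟩
  · linear_combination (norm := module) congrArg (fun t : F => t • v) h22.symm
  · rw [map_smul, map_add, hg, add_comm]
  · rw [map_smul, map_sub, hg, ← smul_neg, neg_sub]

/-- A frame adapted to an element of square one. -/
theorem exists_frame_sq_one (hA : LinearMap.IsAlt B) (hB : LinearMap.Nondegenerate B)
    (h2 : (2 : F) ≠ 0) {g : V ≃ₗ[F] V} (hgB : g ∈ isoGroup B) (hg : ∀ v, g (g v) = v) :
    ∃ (a b : ℕ) (e f : Fin a ⊕ Fin b → V), IsSFrame B e f ∧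
      (∀ i, g (e (.inl i)) = e (.inl i) ∧ g (f (.inl i)) = f (.inl i)) ∧
      (∀ i, g (e (.inr i)) = -e (.inr i) ∧ g (f (.inr i)) = -f (.inr i)) := by
  let P : Submodule F V := LinearMap.ker (g.toLinearMap - LinearMap.id)
  let N : Submodule F V := LinearMap.ker (g.toLinearMap + LinearMap.id)
  have memP : ∀ v, v ∈ P ↔ g v = v := fun v => by simp [P, sub_eq_zero]
  have memN : ∀ v, v ∈ N ↔ g v = -v := fun v => by simp [N, add_eq_zero_iff_eq_neg]
  have horth : ∀ p ∈ P, ∀ n ∈ N, B p n = 0 := fun p hp n hn => by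
    have h := hgB p n
    rw [(memP p).1 hp, (memN n).1 hn, map_neg] at h
    have h4 : (2 : F) * B p n = 0 := by linear_combination -h
    exact (mul_eq_zero.1 h4).resolve_left h2
  have horth' : ∀ n ∈ N, ∀ p ∈ P, B n p = 0 := fun n hn p hp => by
    rw [alt_swap hA p n, horth p hp n hn, neg_zero]
  have hdec : ∀ v, ∃ p ∈ P, ∃ n ∈ N, p + n = v := fun v =>
    ⟨_, (memP _).2 (sq_eq_one_decomp h2 hg v).2.1, _, (memN _).2 (sq_eq_one_decomp h2 hg v).2.2,
      (sq_eq_one_decomp h2 hg v).1.symm⟩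
  obtain ⟨a, e₁, f₁, R₁, he₁, hf₁, hR₁, hef₁, hee₁, hff₁, hr₁, hs₁⟩ := exists_symplectic_decomp hA P
  obtain ⟨b, e₂, f₂, R₂, he₂, hf₂, hR₂, hef₂, hee₂, hff₂, hr₂, hs₂⟩ := exists_symplectic_decomp hA N
  have hR₁0 : R₁ = ⊥ := (Submodule.eq_bot_iff _).2 fun r hr => hB.1 r fun w => by
    obtain ⟨p, hp, n, hn, rfl⟩ := hdec w
    rw [map_add, hr₁ r hr p hp, horth r (hR₁ hr) n hn, add_zero]
  have hR₂0 : R₂ = ⊥ := (Submodule.eq_bot_iff _).2 fun r hr => hB.1 r fun w => by
    obtain ⟨p, hp, n, hn, rfl⟩ := hdec w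
    rw [map_add, hr₂ r hr n hn, horth' r (hR₂ hr) p hp, add_zero]
  refine ⟨a, b, Sum.elim e₁ e₂, Sum.elim f₁ f₂, ⟨?_, ?_, ?_, ?_⟩, ?_, ?_⟩
  · rintro (i | i) (j | j)
    · simpa using hef₁ i j
    · simpa using horth _ (he₁ i) _ (hf₂ j)
    · simpa using horth' _ (he₂ i) _ (hf₁ j)
    · simpa using hef₂ i j
  · rintro (i | i) (j | j)
    · simpa using hee₁ i j
    · simpa using horth _ (he₁ i) _ (he₂ j)
    · simpa using horth' _ (he₂ i) _ (he₁ j)
    · simpa using hee₂ i j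
  · rintro (i | i) (j | j)
    · simpa using hff₁ i j
    · simpa using horth _ (hf₁ i) _ (hf₂ j)
    · simpa using horth' _ (hf₂ i) _ (hf₁ j)
    · simpa using hff₂ i j
  · intro v _
    obtain ⟨p, hp, n, hn, rfl⟩ := hdec v
    refine Submodule.add_mem _ ?_ ?_
    · rw [hs₁, hR₁0, sup_bot_eq] at hp
      refine (sup_le ?_ ?_ : _ ≤ Submodule.span F _) hp
      · exact Submodule.span_mono (by rintro _ ⟨i, rfl⟩; exact ⟨.inl (.inl i), rfl⟩)
      · exact Submodule.span_mono (by rintro _ ⟨i, rfl⟩; exact ⟨.inr (.inl i), rfl⟩)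
    · rw [hs₂, hR₂0, sup_bot_eq] at hn
      refine (sup_le ?_ ?_ : _ ≤ Submodule.span F _) hn
      · exact Submodule.span_mono (by rintro _ ⟨i, rfl⟩; exact ⟨.inl (.inr i), rfl⟩)
      · exact Submodule.span_mono (by rintro _ ⟨i, rfl⟩; exact ⟨.inr (.inr i), rfl⟩)
  · exact fun i => ⟨(memP _).1 (he₁ i), (memP _).1 (hf₁ i)⟩
  · exact fun i => ⟨(memN _).1 (he₂ i), (memN _).1 (hf₂ i)⟩

/-- A frame adapted to an element of square minus one on an invariant subspace. -/
theorem exists_frame_sq_neg_one [Finite F] (hA : LinearMap.IsAlt B) (h2 : (2 : F) ≠ 0)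
    {g : V ≃ₗ[F] V} (hgB : g ∈ isoGroup B) (hg : ∀ v, g (g v) = -v) (W : Submodule F V)
    (hWg : ∀ w ∈ W, g w ∈ W) (hWn : ∀ w ∈ W, (∀ x ∈ W, B w x = 0) → w = 0) :
    ∃ (n : ℕ) (e : Fin n → V), (∀ i, e i ∈ W) ∧
      (∀ i j, B (e i) (g (e j)) = if i = j then 1 else 0) ∧ (∀ i j, B (e i) (e j) = 0) ∧
      W ≤ Submodule.span F (Set.range (Sum.elim e (fun i => g (e i)))) := by
  induction hn : Module.finrank F W using Nat.strong_induction_on generalizing W with
  | _ n ih =>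
  subst hn
  by_cases hW : W = ⊥
  · exact ⟨0, fun i => i.elim0, fun i => i.elim0, fun i => i.elim0, fun i => i.elim0, by simp [hW]⟩
  have hsym : ∀ u v, B u (g v) = B v (g u) := fun u v => by
    rw [← hgB u (g v), hg, map_neg, alt_swap hA v (g u), neg_neg]
  have hdiag : ∀ u, B u (g (g u)) = 0 := fun u => by rw [hg, map_neg, hA u, neg_zero]
  obtain ⟨u, hu, hus⟩ : ∃ u ∈ W, B u (g u) ≠ 0 := by
    by_contra h
    push Not at h
    obtain ⟨w, hw, hw0⟩ := (Submodule.ne_bot_iff W).1 hW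
    refine hw0 (hWn w hw fun x hx => ?_)
    have h1 := h (w + g x) (W.add_mem hw (hWg x hx))
    simp only [map_add, LinearMap.add_apply, h w hw, h (g x) (hWg x hx)] at h1
    rw [hsym (g x) w] at h1
    have h3 : (2 : F) * B w x = 0 := by
      rw [hg, map_neg] at h1
      linear_combination -h1
    exact (mul_eq_zero.1 h3).resolve_left h2
  have h1u : B (g u) (g (g u)) = B u (g u) := hgB u (g u)
  obtain ⟨e₀, he₀W, he₀⟩ : ∃ e₀ ∈ W, B e₀ (g e₀) = 1 := by
    cases nonempty_fintype F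
    have hodd : Fintype.card F % 2 = 1 := FiniteField.odd_card_of_char_ne_two fun hc => h2 (by
      have : ((2 : ℕ) : F) = 0 := by rw [← hc]; exact ringChar.Nat.cast_ringChar
      exact_mod_cast this)
    obtain ⟨x, y, hxy⟩ := FiniteField.exists_root_sum_quadratic
      (f := Polynomial.C (B u (g u)) * Polynomial.X ^ 2 - Polynomial.C 1)
      (g := Polynomial.C (B u (g u)) * Polynomial.X ^ 2)
      (by
        rw [Polynomial.degree_sub_eq_left_of_degree_lt] <;>
          simp [Polynomial.degree_C_mul_X_pow 2 hus]) (Polynomial.degree_C_mul_X_pow 2 hus) hodd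
    refine ⟨x • u + y • g u, W.add_mem (W.smul_mem _ hu) (W.smul_mem _ (hWg u hu)), ?_⟩
    simp only [map_add, map_smul, LinearMap.add_apply, LinearMap.smul_apply, smul_eq_mul,
      hdiag u, hA (g u), h1u]
    simp at hxy
    linear_combination hxy
  let W' : Submodule F V := W ⊓ LinearMap.ker (B e₀) ⊓ LinearMap.ker (B (g e₀))
  have hW'g : ∀ w ∈ W', g w ∈ W' := by
    rintro w ⟨⟨hw, hw1⟩, hw2⟩
    have hw1' : B e₀ w = 0 := hw1
    have hw2' : B (g e₀) w = 0 := hw2
    refine ⟨⟨hWg w hw, ?_⟩, ?_⟩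
    · show B e₀ (g w) = 0
      rw [hsym, alt_swap hA (g e₀) w, hw2', neg_zero]
    · show B (g e₀) (g w) = 0
      rw [hgB, hw1']
  have hfe : B (g e₀) e₀ = -1 := by rw [alt_swap hA e₀ (g e₀), he₀]
  have hproj : ∀ w ∈ W, w + B (g e₀) w • e₀ - B e₀ w • g e₀ ∈ W' := by
    intro w hw
    refine ⟨⟨W.sub_mem (W.add_mem hw (W.smul_mem _ he₀W)) (W.smul_mem _ (hWg _ he₀W)), ?_⟩, ?_⟩
    · show B e₀ _ = 0
      simp [he₀, hA e₀]
    · show B (g e₀) _ = 0
      simp [hfe, hA (g e₀)]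
  have hlt : Module.finrank F W' < Module.finrank F W := by
    apply Submodule.finrank_lt_finrank_of_lt
    refine lt_of_le_of_ne (inf_le_left.trans inf_le_left) fun h => ?_
    have h1 : g e₀ ∈ W' := h.symm ▸ hWg _ he₀W
    have h2 : B e₀ (g e₀) = 0 := h1.1.2
    rw [he₀] at h2
    exact one_ne_zero h2
  obtain ⟨n', e, heW, hef, hee, hspan⟩ := ih _ hlt W' hW'g (fun w hw hx => by
    refine hWn w hw.1.1 fun x hxW => ?_
    have h1 : B e₀ w = 0 := hw.1.2
    have h2 : B (g e₀) w = 0 := hw.2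
    have := hx _ (hproj x hxW)
    simpa [alt_swap hA e₀ w, alt_swap hA (g e₀) w, h1, h2] using this) rfl
  refine ⟨n' + 1, Fin.cons e₀ e, ?_, ?_, ?_, ?_⟩
  · exact Fin.cases (by simpa using he₀W) (fun i => by simpa using (heW i).1.1)
  · refine Fin.cases (Fin.cases (by simpa using he₀) fun j => ?_) (fun i => Fin.cases ?_ fun j => ?_)
    · have hh : B e₀ (g (e j)) = 0 := (hW'g _ (heW j)).1.2
      simp [hh, (Fin.succ_ne_zero j).symm]
    · have hh : B (g e₀) (e i) = 0 := (heW i).2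
      simp [alt_swap hA (g e₀) (e i), hh, Fin.succ_ne_zero i]
    · simpa [Fin.succ_inj] using hef i j
  · refine Fin.cases (Fin.cases (by simpa using hA e₀) fun j => ?_) (fun i => Fin.cases ?_ fun j => ?_)
    · simpa using (show B e₀ (e j) = 0 from (heW j).1.2)
    · simp [alt_swap hA e₀ (e i), show B e₀ (e i) = 0 from (heW i).1.2]
    · simpa using hee i j
  · intro w hw
    set S := Submodule.span F (Set.range (Sum.elim (Fin.cons e₀ e : Fin (n' + 1) → V)
      (fun i => g ((Fin.cons e₀ e : Fin (n' + 1) → V) i))))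
    have hsub : W' ≤ S := hspan.trans (Submodule.span_mono (by
      rintro _ ⟨i | i, rfl⟩
      · exact ⟨.inl i.succ, by simp⟩
      · exact ⟨.inr i.succ, by simp⟩))
    have hdec : w = (w + B (g e₀) w • e₀ - B e₀ w • g e₀) + (-B (g e₀) w) • e₀ + B e₀ w • g e₀ := by
      module
    rw [hdec]
    exact S.add_mem (S.add_mem (hsub (hproj w hw)) (S.smul_mem _
      (Submodule.subset_span ⟨.inl 0, by simp⟩))) (S.smul_mem _ (Submodule.subset_span ⟨.inr 0, by simp⟩))

/-- All elements of square minus one are conjugate. -/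
theorem conj_of_sq_neg_one [Finite F] (hA : LinearMap.IsAlt B) (hB : LinearMap.Nondegenerate B)
    (h2 : (2 : F) ≠ 0) {g g' : V ≃ₗ[F] V} (hgB : g ∈ isoGroup B) (hg : ∀ v, g (g v) = -v)
    (hgB' : g' ∈ isoGroup B) (hg' : ∀ v, g' (g' v) = -v) : ∃ k ∈ isoGroup B, k * g = g' * k := by
  have key : ∀ g : V ≃ₗ[F] V, g ∈ isoGroup B → (∀ v, g (g v) = -v) →
      ∃ (n : ℕ) (e : Fin n → V), IsSFrame B e (fun i => g (e i)) := by
    intro g hgB hg
    obtain ⟨n, e, -, hef, hee, hsp⟩ := exists_frame_sq_neg_one hA h2 hgB hg ⊤ (fun _ _ => trivial)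
      (fun w _ h => hB.1 w fun x => h x trivial)
    exact ⟨n, e, ⟨hef, hee, fun i j => (hgB (e i) (e j)).trans (hee i j), hsp⟩⟩
  obtain ⟨n, e, he⟩ := key g hgB hg
  obtain ⟨n', e', he'⟩ := key g' hgB' hg'
  obtain rfl : n = n' := by
    have h1 := he.finrank_eq hA
    have h2 := he'.finrank_eq hA
    simp only [Fintype.card_fin] at h1 h2
    omega
  exact he.exists_conj hA hB he' fun k _ hk i => ⟨(hk i).2, by rw [hg, hg', map_neg, (hk i).1]⟩

omit [FiniteDimensional F V] in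
/-- Elements of square one with equally long fixed parts of adapted frames are conjugate. -/
theorem conj_of_frames [FiniteDimensional F V] (hA : LinearMap.IsAlt B) (hB : LinearMap.Nondegenerate B)
    {g g' : V ≃ₗ[F] V} {a b a' b' : ℕ} {e f : Fin a ⊕ Fin b → V} {e' f' : Fin a' ⊕ Fin b' → V}
    (h : IsSFrame B e f)
    (hP : ∀ i, g (e (.inl i)) = e (.inl i) ∧ g (f (.inl i)) = f (.inl i))
    (hN : ∀ i, g (e (.inr i)) = -e (.inr i) ∧ g (f (.inr i)) = -f (.inr i))
    (h' : IsSFrame B e' f')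
    (hP' : ∀ i, g' (e' (.inl i)) = e' (.inl i) ∧ g' (f' (.inl i)) = f' (.inl i))
    (hN' : ∀ i, g' (e' (.inr i)) = -e' (.inr i) ∧ g' (f' (.inr i)) = -f' (.inr i))
    (ha : a = a') : ∃ k ∈ isoGroup B, k * g = g' * k := by
  subst ha
  obtain rfl : b = b' := by
    have h1 := h.finrank_eq hA
    have h2 := h'.finrank_eq hA
    simp only [Fintype.card_sum, Fintype.card_fin] at h1 h2
    omega
  refine h.exists_conj hA hB h' fun k _ hk => ?_
  rintro (i | i)
  · rw [(hP i).1, (hP i).2, (hP' i).1, (hP' i).2]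
    exact hk _
  · rw [(hN i).1, (hN i).2, (hN' i).1, (hN' i).2, map_neg, map_neg, (hk _).1, (hk _).2]
    exact ⟨rfl, rfl⟩

end Cfsg.Agent.FormsLib
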