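import Cfsg.Agent.Lib.Forms.SpOrder

/-!
Stabilisers of totally isotropic subspaces and flags in the symplectic group, by counting isotropic tuples.
-/

set_option autoImplicit false

namespace Cfsg.Agent.FormsLib.SpParabolic

open scoped Matrix
open Cfsg.Agent.FormsLib

variable {F : Type*} [Field F] {m k : ℕ}

local notation "V" => Fin m ⊕ Fin m → F
local notation "Sp" => Matrix.symplecticGroup (Fin m) F

/-- Independent `k`-tuples spanning a totally isotropic subspace. -/
def Tup (m k : ℕ) (F : Type*) [Field F] : Type _ :=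
  {e : Fin k → Fin m ⊕ Fin m → F // LinearIndependent F e ∧ ∀ i j, spB m F (e i) (e j) = 0}

instance instFiniteTup [Finite F] : Finite (Tup m k F) := by
  unfold Tup; infer_instance

theorem sp_pres (A : Sp) (u v : V) : spB m F (A.1 *ᵥ u) (A.1 *ᵥ v) = spB m F u v :=
  (mem_symplectic_iff _).1 A.2 u v

theorem mulVec_inv_mulVec (A : Sp) (v : V) : (A⁻¹ : Sp).1 *ᵥ (A.1 *ᵥ v) = v := by
  rw [Matrix.mulVec_mulVec, ← Submonoid.coe_mul, inv_mul_cancel, Submonoid.coe_one, Matrix.one_mulVec]

theorem mulVec_injective (A : Sp) : Function.Injective fun v : V => A.1 *ᵥ v :=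
  Function.LeftInverse.injective (g := fun v => (A⁻¹ : Sp).1 *ᵥ v) (mulVec_inv_mulVec A)

/-- The action on tuples. -/
def act (A : Sp) (e : Tup m k F) : Tup m k F :=
  ⟨fun i => A.1 *ᵥ e.1 i,
    e.2.1.map' (Matrix.mulVecLin A.1) (LinearMap.ker_eq_bot.2 (mulVec_injective A)),
    fun i j => by rw [sp_pres]; exact e.2.2 i j⟩

theorem act_one (e : Tup m k F) : act (1 : Sp) e = e :=
  Subtype.ext (funext fun i => by simp [act])

theorem act_mul (A B : Sp) (e : Tup m k F) : act (A * B) e = act A (act B e) :=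
  Subtype.ext (funext fun i => by simp [act, Matrix.mulVec_mulVec])

theorem witt_tup (e e' : Tup m k F) : ∃ A : Sp, act A e = e' := by
  classical
  let b := Module.Basis.span e.2.1
  let φ : Submodule.span F (Set.range e.1) →ₗ[F] V := b.constr F e'.1
  have hφb : ∀ i, φ (b i) = e'.1 i := fun i => b.constr_basis F _ i
  have hinj : Function.Injective φ := by
    rw [← LinearMap.ker_eq_bot, LinearMap.ker_eq_bot']
    intro x hx
    rw [← b.sum_repr x, map_sum] at hx
    simp only [map_smul, hφb] at hx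
    have := Fintype.linearIndependent_iff.1 e'.2.1 _ hx
    rw [← b.sum_repr x]
    exact Finset.sum_eq_zero fun i _ => by rw [this i, zero_smul]
  have hpres : ∀ x y, spB m F (φ x) (φ y) = spB m F (x : V) (y : V) := by
    intro x y
    have h : (spB m F).compl₁₂ φ φ = (spB m F).compl₁₂ (Submodule.span F (Set.range e.1)).subtype
        (Submodule.span F (Set.range e.1)).subtype :=
      LinearMap.ext_basis b b fun i j => by
        rw [LinearMap.compl₁₂_apply, LinearMap.compl₁₂_apply, hφb, hφb, e'.2.2]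
        simp [b, Module.Basis.span_apply, e.2.2]
    exact congrArg (fun f => f x y) h
  obtain ⟨g, hg, hgx⟩ := spB_trace.witt _ φ hinj hpres
  refine ⟨(spEquiv m F).symm ⟨g, hg⟩, Subtype.ext (funext fun i => ?_)⟩
  show ((spEquiv m F).symm ⟨g, hg⟩).1 *ᵥ e.1 i = e'.1 i
  rw [spEquiv_symm_mulVec, ← hφb i, ← hgx (b i), Module.Basis.span_apply]

/-- Counting elements by the image of a tuple. -/
theorem card_image_mem [Finite F] (e₀ : Tup m k F) (S : Set (Tup m k F)) :
    Nat.card {A : Sp // act A e₀ ∈ S} = Nat.card S * Nat.card {A : Sp // act A e₀ = e₀} := by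
  choose c hc using fun e => witt_tup e₀ e
  rw [← Nat.card_prod]
  refine Nat.card_congr
    { toFun := fun A => (⟨act A.1 e₀, A.2⟩, ⟨(c (act A.1 e₀))⁻¹ * A.1, ?_⟩)
      invFun := fun p => ⟨c p.1.1 * p.2.1, by rw [act_mul, p.2.2, hc]; exact p.1.2⟩
      left_inv := fun A => Subtype.ext (mul_inv_cancel_left _ _)
      right_inv := fun p => ?_ }
  · have h := congrArg (act (c (act A.1 e₀))⁻¹) (hc (act A.1 e₀))
    rw [← act_mul, inv_mul_cancel, act_one] at h
    rw [act_mul]
    exact h.symm
  · have h : act (c p.1.1 * p.2.1) e₀ = p.1.1 := by rw [act_mul, p.2.2, hc]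
    refine Prod.ext (Subtype.ext h) (Subtype.ext ?_)
    show (c (act (c p.1.1 * p.2.1) e₀))⁻¹ * (c p.1.1 * p.2.1) = p.2.1
    rw [h, inv_mul_cancel_left]

variable [Fintype F]

theorem card_fix (e₀ : Tup m k F) :
    Nat.card (Tup m k F) * Nat.card {A : Sp // act A e₀ = e₀} = Nat.card Sp := by
  have h := card_image_mem e₀ Set.univ
  rw [Nat.card_congr (Equiv.Set.univ _),
    Nat.card_congr (Equiv.subtypeUnivEquiv fun A : Sp => Set.mem_univ (act A e₀))] at h
  exact h.symm

/-- The common perpendicular of a tuple. -/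
noncomputable def perp (e : Fin k → V) : Submodule F V :=
  LinearMap.ker (LinearMap.pi fun i => spB m F (e i))

omit [Fintype F] in
theorem mem_perp {e : Fin k → V} {v : V} : v ∈ perp e ↔ ∀ i, spB m F (e i) v = 0 := by
  simp [perp, funext_iff]

omit [Fintype F] in
theorem finrank_perp (e : Tup m k F) : Module.finrank F (perp e.1) + k = 2 * m := by
  set L := LinearMap.pi fun i => spB m F (e.1 i) with hL
  have hsurj : Function.Surjective L := by
    classical
    intro c
    let b := Module.Basis.span e.2.1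
    obtain ⟨f, hf⟩ := (b.constr F c).exists_extend
    obtain ⟨u, hu⟩ := spB_trace.exists_rep f
    refine ⟨-u, funext fun i => ?_⟩
    show spB m F (e.1 i) (-u) = c i
    rw [map_neg, alt_swap spB_alt u (e.1 i), neg_neg, hu]
    have : f (b i : V) = b.constr F c (b i) := congrArg (fun g => g (b i)) hf
    rw [b.constr_basis, Module.Basis.span_apply] at this
    exact this
  have := L.finrank_range_add_finrank_ker
  rw [LinearMap.range_eq_top.2 hsurj, finrank_top] at this
  simp only [Module.finrank_pi, Fintype.card_sum, Fintype.card_fin] at this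
  show Module.finrank F (LinearMap.ker L) + _ = _
  omega

omit [Fintype F] in
theorem span_le_perp (e : Tup m k F) : Submodule.span F (Set.range e.1) ≤ perp e.1 := by
  rw [Submodule.span_le]
  rintro _ ⟨i, rfl⟩
  exact mem_perp.2 fun j => e.2.2 j i

omit [Fintype F] in
theorem k_le (e : Tup m k F) : k ≤ m := by
  have h1 := Submodule.finrank_mono (span_le_perp e)
  rw [finrank_span_eq_card e.2.1, Fintype.card_fin] at h1
  have := finrank_perp e
  omega

/-- Extending a tuple by one vector. -/
noncomputable def tupSucc : Tup m (k + 1) F ≃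
    Σ p : Tup m k F, {v : V // v ∈ perp p.1 ∧ v ∉ Submodule.span F (Set.range p.1)} where
  toFun e := ⟨⟨Fin.tail e.1, (linearIndependent_finSucc.1 e.2.1).1, fun i j => e.2.2 i.succ j.succ⟩,
    ⟨e.1 0, mem_perp.2 fun i => e.2.2 i.succ 0, (linearIndependent_finSucc.1 e.2.1).2⟩⟩
  invFun s := ⟨Fin.cons s.2.1 s.1.1, linearIndependent_finCons.2 ⟨s.1.2.1, s.2.2.2⟩, by
    have h := mem_perp.1 s.2.2.1
    refine Fin.cases (Fin.cases (by simpa using spB_alt s.2.1) fun j => ?_) (fun i => Fin.cases ?_ fun j => ?_)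
    · simp [alt_swap spB_alt (s.1.1 j) s.2.1, h j]
    · simp [h i]
    · simpa using s.1.2.2 i j⟩
  left_inv e := Subtype.ext (Fin.cons_self_tail _)
  right_inv s := by
    obtain ⟨p, v, hv⟩ := s
    rfl

theorem card_tupExt (p : Tup m k F) :
    Nat.card {v : V // v ∈ perp p.1 ∧ v ∉ Submodule.span F (Set.range p.1)} =
      Fintype.card F ^ (2 * m - k) - Fintype.card F ^ k := by
  classical
  have h1 : Nat.card {v : V // v ∈ perp p.1} =
      Nat.card {v : V // v ∈ perp p.1 ∧ v ∈ Submodule.span F (Set.range p.1)} +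
      Nat.card {v : V // v ∈ perp p.1 ∧ v ∉ Submodule.span F (Set.range p.1)} := by
    rw [← Nat.card_sum]
    refine Nat.card_congr
      { toFun := fun v => if h : v.1 ∈ Submodule.span F (Set.range p.1) then Sum.inl ⟨v.1, v.2, h⟩
          else Sum.inr ⟨v.1, v.2, h⟩
        invFun := Sum.elim (fun v => ⟨v.1, v.2.1⟩) (fun v => ⟨v.1, v.2.1⟩)
        left_inv := fun v => by dsimp only; split_ifs <;> rfl
        right_inv := fun v => by
          rcases v with ⟨v, hv⟩ | ⟨v, hv⟩
          · simp [hv.2]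
          · simp [hv.2] }
  have h2 : Nat.card {v : V // v ∈ perp p.1 ∧ v ∈ Submodule.span F (Set.range p.1)} =
      Nat.card (Submodule.span F (Set.range p.1)) :=
    Nat.card_congr (Equiv.subtypeEquivRight fun v => ⟨fun h => h.2, fun h => ⟨span_le_perp p h, h⟩⟩)
  have hp : Nat.card {v : V // v ∈ perp p.1} = Fintype.card F ^ Module.finrank F (perp p.1) :=
    (Module.natCard_eq_pow_finrank (K := F)).trans (by rw [Nat.card_eq_fintype_card])
  have hsp : Nat.card (Submodule.span F (Set.range p.1)) = Fintype.card F ^ k :=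
    (Module.natCard_eq_pow_finrank (K := F)).trans (by
      rw [Nat.card_eq_fintype_card, finrank_span_eq_card p.2.1, Fintype.card_fin])
  rw [h2, hp, hsp] at h1
  have h3 := finrank_perp p
  rw [show 2 * m - k = Module.finrank F (perp p.1) by omega]
  omega

theorem card_tup (k : ℕ) : Nat.card (Tup m k F) =
    ∏ i ∈ Finset.range k, (Fintype.card F ^ (2 * m - i) - Fintype.card F ^ i) := by
  induction k with
  | zero =>
    rw [Finset.range_zero, Finset.prod_empty]
    have : Unique (Tup m 0 F) :=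
      { default := ⟨Fin.elim0, linearIndependent_empty_type, fun i => i.elim0⟩
        uniq := fun p => Subtype.ext (funext fun i => i.elim0) }
    exact Nat.card_unique
  | succ j ih =>
    have : Fintype (Tup m j F) := Fintype.ofFinite _
    rw [Nat.card_congr tupSucc, Nat.card_sigma, Finset.sum_congr rfl (fun p _ => card_tupExt p),
      Finset.sum_const, smul_eq_mul, Finset.card_univ, ← Nat.card_eq_fintype_card, ih, Finset.prod_range_succ]

omit [Fintype F] [Field F] in
theorem tup_prod_identity (q : ℕ) : ∀ k, k ≤ m →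
    (∏ i ∈ Finset.range k, (q ^ (2 * m - i) - q ^ i)) * ∏ i ∈ Finset.range (m - k), (q ^ (2 * (i + 1)) - 1) =
      q ^ (k * (k - 1) / 2) * ∏ i ∈ Finset.range m, (q ^ (2 * (i + 1)) - 1) := by
  intro k
  induction k with
  | zero => simp
  | succ j ih =>
    intro hj
    have h := ih (by omega)
    obtain ⟨d, hd⟩ : ∃ d, m - j = d + 1 := ⟨m - j - 1, by omega⟩
    rw [hd, Finset.prod_range_succ] at h
    rw [Finset.prod_range_succ, show m - (j + 1) = d by omega,
      show q ^ (2 * m - j) - q ^ j = q ^ j * (q ^ (2 * (d + 1)) - 1) by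
        rw [Nat.mul_sub, mul_one, ← pow_add]; congr 2; omega]
    have he : (j + 1) * (j + 1 - 1) / 2 = j * (j - 1) / 2 + j := by
      rw [Nat.add_sub_cancel]
      cases j with
      | zero => simp
      | succ i =>
        rw [Nat.add_sub_cancel, show (i + 1 + 1) * (i + 1) = (i + 1) * i + (i + 1) * 2 by ring,
          Nat.add_mul_div_right _ _ two_pos]
    rw [he, pow_add]
    calc (∏ i ∈ Finset.range j, (q ^ (2 * m - i) - q ^ i)) * (q ^ j * (q ^ (2 * (d + 1)) - 1)) *
          ∏ i ∈ Finset.range d, (q ^ (2 * (i + 1)) - 1)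
        = q ^ j * ((∏ i ∈ Finset.range j, (q ^ (2 * m - i) - q ^ i)) *
            ((∏ i ∈ Finset.range d, (q ^ (2 * (i + 1)) - 1)) * (q ^ (2 * (d + 1)) - 1))) := by ring
      _ = _ := by rw [h]; ring

/-- Order of the fixer of an isotropic tuple. -/
theorem card_fix_formula (e₀ : Tup m k F) :
    Fintype.card F ^ (k * (k - 1) / 2) * Nat.card {A : Sp // act A e₀ = e₀} =
      Fintype.card F ^ (m ^ 2) * ∏ i ∈ Finset.range (m - k), (Fintype.card F ^ (2 * (i + 1)) - 1) := by
  have hq : 1 < Fintype.card F := Fintype.one_lt_card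
  have hk := k_le e₀
  have h := card_fix e₀
  rw [card_tup, card_symplecticGroup] at h
  have hid := tup_prod_identity (m := m) (Fintype.card F) k hk
  have hpos : 0 < ∏ i ∈ Finset.range m, (Fintype.card F ^ (2 * (i + 1)) - 1) :=
    Finset.prod_pos fun i _ => Nat.sub_pos_of_lt (Nat.one_lt_pow (by omega) hq)
  apply Nat.eq_of_mul_eq_mul_left hpos
  calc (∏ i ∈ Finset.range m, (Fintype.card F ^ (2 * (i + 1)) - 1)) *
        (Fintype.card F ^ (k * (k - 1) / 2) * Nat.card {A : Sp // act A e₀ = e₀})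
      = ((∏ i ∈ Finset.range k, (Fintype.card F ^ (2 * m - i) - Fintype.card F ^ i)) *
          ∏ i ∈ Finset.range (m - k), (Fintype.card F ^ (2 * (i + 1)) - 1)) *
          Nat.card {A : Sp // act A e₀ = e₀} := by rw [hid]; ring
    _ = ((∏ i ∈ Finset.range k, (Fintype.card F ^ (2 * m - i) - Fintype.card F ^ i)) *
          Nat.card {A : Sp // act A e₀ = e₀}) *
          ∏ i ∈ Finset.range (m - k), (Fintype.card F ^ (2 * (i + 1)) - 1) := by ring
    _ = _ := by rw [h]; ring

omit [Fintype F] in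
/-- An element mapping a finite subspace into itself stabilises it. -/
theorem mem_iff_of_maps_into [Finite F] {A : Sp} {W : Submodule F V} (h : ∀ v ∈ W, A.1 *ᵥ v ∈ W) (v : V) :
    v ∈ W ↔ A.1 *ᵥ v ∈ W := by
  refine ⟨h v, fun hv => ?_⟩
  have hinj : Function.Injective fun w : W => (⟨A.1 *ᵥ w.1, h _ w.2⟩ : W) := fun a b hab =>
    Subtype.ext (mulVec_injective A (congrArg Subtype.val hab))
  obtain ⟨w, hw⟩ := (Finite.injective_iff_surjective.1 hinj) ⟨A.1 *ᵥ v, hv⟩
  rw [← mulVec_injective A (congrArg Subtype.val hw : A.1 *ᵥ w.1 = A.1 *ᵥ v)]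
  exact w.2

/-- The stabiliser of a totally isotropic subspace. -/
theorem card_stab (W : Submodule F V) (hWk : Module.finrank F W = k)
    (hW : ∀ u ∈ W, ∀ v ∈ W, spB m F u v = 0) :
    Fintype.card F ^ (k * (k - 1) / 2) * Nat.card {A : Sp // ∀ v, v ∈ W ↔ A.1 *ᵥ v ∈ W} =
      (∏ i : Fin k, (Fintype.card F ^ k - Fintype.card F ^ (i : ℕ))) *
      (Fintype.card F ^ (m ^ 2) * ∏ i ∈ Finset.range (m - k), (Fintype.card F ^ (2 * (i + 1)) - 1)) := by
  classical
  let b := Module.finBasisOfFinrankEq F W hWk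
  let e₀ : Tup m k F := ⟨fun i => (b i : V), b.linearIndependent.map' W.subtype W.ker_subtype,
    fun i j => hW _ (b i).2 _ (b j).2⟩
  let S : Set (Tup m k F) := {e | ∀ i, e.1 i ∈ W}
  have e1 : Nat.card {A : Sp // ∀ v, v ∈ W ↔ A.1 *ᵥ v ∈ W} = Nat.card {A : Sp // act A e₀ ∈ S} := by
    refine Nat.card_congr (Equiv.subtypeEquivRight fun A => ⟨fun h i => (h _).1 (b i).2, fun h => ?_⟩)
    refine mem_iff_of_maps_into fun v hv => ?_
    have hs := congrArg Subtype.val (b.sum_repr ⟨v, hv⟩)
    rw [Submodule.coe_sum] at hs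
    show A.1 *ᵥ ((⟨v, hv⟩ : W) : V) ∈ W
    rw [← hs, Matrix.mulVec_sum]
    exact Submodule.sum_mem _ fun i _ => by
      rw [Submodule.coe_smul, Matrix.mulVec_smul]; exact W.smul_mem _ (h i)
  have e2 : Nat.card S = ∏ i : Fin k, (Fintype.card F ^ k - Fintype.card F ^ (i : ℕ)) := by
    have hl := @card_linearIndependent F W _ _ _ _ _ k (by rw [hWk])
    rw [hWk] at hl
    rw [← hl]
    exact Nat.card_congr
      { toFun := fun e => ⟨fun i => ⟨e.1.1 i, e.2 i⟩, LinearIndependent.of_comp W.subtype e.1.2.1⟩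
        invFun := fun f => ⟨⟨fun i => (f.1 i : V), f.2.map' W.subtype W.ker_subtype,
          fun i j => hW _ (f.1 i).2 _ (f.1 j).2⟩, fun i => (f.1 i).2⟩
        left_inv := fun e => rfl
        right_inv := fun f => rfl }
  rw [e1, card_image_mem, e2, mul_left_comm, card_fix_formula]

end Cfsg.Agent.FormsLib.SpParabolic
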