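import Cfsg.Agent.Lib.Forms.SpInvolTwo
import Cfsg.Agent.Lib.Forms.SpParabolic
import Cfsg.Agent.Lib.Forms.Models
import Cfsg.Prelude.Def_ClassicalGeometry
import Mathlib

/-!
Isometry groups of non-alternate symmetric forms in characteristic two, and centralizers of
symplectic involutions.
-/

set_option autoImplicit false

namespace Cfsg.Agent.FormsLib.SpInvolCent

open scoped Matrix
open Cfsg.Agent.FormsLib Cfsg.Agent.FormModel

/-- The order of the symplectic group, as a function. -/
def spCard (q k : ℕ) : ℕ := q ^ (k ^ 2) * ∏ i ∈ Finset.range k, (q ^ (2 * (i + 1)) - 1)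

variable {F : Type*} [Field F] [Fintype F]

theorem card_iso_alt {W : Type*} [AddCommGroup W] [Module F W] [FiniteDimensional F W]
    (h : LinearMap.BilinForm F W) (hA : LinearMap.IsAlt h) (hn : ∀ u, (∀ v, h u v = 0) → u = 0) :
    ∃ k, Module.finrank F W = 2 * k ∧ Nat.card (isoSub h) = spCard (Fintype.card F) k := by
  have hnd : LinearMap.Nondegenerate h :=
    ⟨hn, fun y hy => hn y fun x => by rw [alt_swap hA x y, hy x, neg_zero]⟩
  obtain ⟨k, b, -, -, -⟩ := exists_symplectic_basis_nondeg hA hnd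
  have hk : Module.finrank F W = 2 * k := by rw [Module.finrank_eq_card_basis b]; simp; omega
  obtain ⟨e⟩ := exists_symp_equiv hA hn hk
  exact ⟨k, hk, by rw [Nat.card_congr e.toEquiv, card_symplecticGroup, spCard]⟩

variable [CharP F 2]

section sym

variable {W : Type*} [AddCommGroup W] [Module F W] [FiniteDimensional F W]

/-- The vector representing the square root of the quadratic map. -/
theorem exists_sqrt_vec (h : LinearMap.BilinForm F W) (hs : ∀ u v, h u v = h v u)
    (hn : ∀ u, (∀ v, h u v = 0) → u = 0) (hne : ∃ u, h u u ≠ 0) :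
    ∃ w, (∀ v, h v v = h v w ^ 2) ∧ w ≠ 0 ∧ h w w = Module.finrank F W := by
  classical
  obtain ⟨b, hb⟩ := SpInvolTwo.exists_orthonormal h hs hn hne
  have hli := SpInvolTwo.li_of_gram h b 1 (mul_one _) fun i j => by rw [hb, Matrix.one_apply]
  have hsp : Submodule.span F (Set.range b) = ⊤ := hli.span_eq_top_of_card_eq_finrank' (by simp)
  refine ⟨∑ i, b i, fun v => ?_, fun h0 => ?_, ?_⟩
  · obtain ⟨c, rfl⟩ := (Submodule.mem_span_range_iff_exists_fun F).1
      (hsp ▸ Submodule.mem_top : v ∈ Submodule.span F (Set.range b))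
    simp [map_sum, hb, CharTwo.sum_sq, CharTwo.sum_mul_self, pow_two]
  · obtain ⟨u, hu⟩ := hne
    have hpos : 0 < Module.finrank F W := Module.finrank_pos_iff_exists_ne_zero.2
      ⟨u, fun h' => hu (by simp [h'])⟩
    have := congrArg (fun z => h z (b ⟨0, hpos⟩)) h0
    simp [map_sum, hb] at this
  · simp [map_sum, hb]

theorem fixes_sqrt_vec (h : LinearMap.BilinForm F W) (hs : ∀ u v, h u v = h v u)
    (hn : ∀ u, (∀ v, h u v = 0) → u = 0) {w : W} (hw : ∀ v, h v v = h v w ^ 2) {g : W ≃ₗ[F] W}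
    (hg : g ∈ isoSub h) : g w = w := by
  have h0 : ∀ v, h (g v) w = h v w := fun v =>
    CharTwo.sq_injective (R := F) (by simp only [← hw, hg v v])
  rw [← sub_eq_zero]
  refine hn _ fun v => ?_
  obtain ⟨u, rfl⟩ := g.surjective v
  rw [map_sub, LinearMap.sub_apply, hg w u, hs w u, hs w (g u), h0, sub_self]

theorem subsingleton_iso_line (h : LinearMap.BilinForm F W) {w : W} (hw : h w w = 1) :
    Subsingleton (isoSub (restr h (F ∙ w))) := by
  suffices key : ∀ g : isoSub (restr h (F ∙ w)), ∀ x, g.1 x = x from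
    ⟨fun a b => Subtype.ext (LinearEquiv.ext fun x => by rw [key a, key b])⟩
  intro g x
  let w' : (F ∙ w) := ⟨w, Submodule.mem_span_singleton_self w⟩
  obtain ⟨c, hc⟩ := Submodule.mem_span_singleton.1 (g.1 w').2
  have h1 := g.2 w' w'
  simp only [restr_apply, ← hc] at h1
  simp only [map_smul, LinearMap.smul_apply, smul_eq_mul, show h (w' : W) (w' : W) = 1 from hw,
    show h w w = 1 from hw, mul_one] at h1
  have hc1 : c = 1 := CharTwo.sq_injective (R := F) (by simpa [pow_two] using h1)
  have hgw : g.1 w' = w' := Subtype.ext (by rw [← hc, hc1, one_smul])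
  obtain ⟨d, hd⟩ := Submodule.mem_span_singleton.1 x.2
  rw [show x = d • w' from Subtype.ext hd.symm, map_smul, hgw]

/-- Fixing a unit vector is the isometry group of its perpendicular. -/
theorem card_fix_unit (h : LinearMap.BilinForm F W) (hs : ∀ u v, h u v = h v u)
    {v : W} (hv : h v v = 1) :
    Nat.card {g : isoSub h // g.1 v = v} = Nat.card (isoSub (restr h (perp h (F ∙ v)))) := by
  have hW : ∀ u ∈ F ∙ v, (∀ z ∈ F ∙ v, h u z = 0) → u = 0 := by
    intro u hu hz
    obtain ⟨c, rfl⟩ := Submodule.mem_span_singleton.1 hu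
    have := hz v (Submodule.mem_span_singleton_self v)
    simp [hv] at this
    simp [this]
  have hrefl : ∀ x y, h x y = 0 → h y x = 0 := fun x y hxy => by rw [hs, hxy]
  obtain ⟨e⟩ := exists_stab_prod hrefl hW
  have := subsingleton_iso_line h hv
  rw [show Nat.card {g : isoSub h // g.1 v = v} = Nat.card ↥(stabSub (F ∙ v) ⊓ isoSub h) from ?_,
    Nat.card_congr e.toEquiv, Nat.card_prod, Nat.card_unique, one_mul]
  refine Nat.card_congr
    { toFun := fun g => ⟨g.1.1, fun z => ?_, g.1.2⟩
      invFun := fun g => ⟨⟨g.1, g.2.2⟩, ?_⟩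
      left_inv := fun g => rfl
      right_inv := fun g => rfl }
  · rw [Submodule.mem_span_singleton, Submodule.mem_span_singleton]
    refine exists_congr fun c => ?_
    rw [← g.1.1.injective.eq_iff, map_smul, g.2]
  · obtain ⟨c, hc⟩ := Submodule.mem_span_singleton.1 ((g.2.1 v).1 (Submodule.mem_span_singleton_self v))
    have h1 := g.2.2 v v
    rw [← hc] at h1
    simp only [map_smul, LinearMap.smul_apply, smul_eq_mul, hv, mul_one] at h1
    have hc1 : c = 1 := CharTwo.sq_injective (R := F) (by simpa [pow_two] using h1)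
    show g.1 v = v
    rw [← hc, hc1, one_smul]

theorem perp_facts (h : LinearMap.BilinForm F W) (hs : ∀ u v, h u v = h v u)
    (hn : ∀ u, (∀ v, h u v = 0) → u = 0) {v : W} (hv : h v v = 1) :
    Module.finrank F (perp h (F ∙ v)) + 1 = Module.finrank F W ∧
      ∀ u, (∀ z, restr h (perp h (F ∙ v)) u z = 0) → u = 0 := by
  have hW : ∀ u ∈ F ∙ v, (∀ z ∈ F ∙ v, h u z = 0) → u = 0 := by
    intro u hu hz
    obtain ⟨c, rfl⟩ := Submodule.mem_span_singleton.1 hu
    have := hz v (Submodule.mem_span_singleton_self v)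
    simp [hv] at this
    simp [this]
  have hc := isCompl_perp (B := h) (fun x y hxy => by rw [hs, hxy]) hW
  have hv0 : v ≠ 0 := fun h0 => by simp [h0] at hv
  refine ⟨?_, fun u hu => Subtype.ext (hn _ fun z => ?_)⟩
  · have := Submodule.finrank_add_eq_of_isCompl hc
    rw [finrank_span_singleton hv0] at this
    omega
  · obtain ⟨a, ha, b, hb, rfl⟩ := Submodule.mem_sup.1
      (hc.sup_eq_top ▸ Submodule.mem_top : z ∈ (F ∙ v) ⊔ perp h (F ∙ v))
    rw [map_add, hs (u : W) a, u.2 a ha, zero_add]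
    exact hu ⟨b, hb⟩

theorem card_iso_odd (h : LinearMap.BilinForm F W) (hs : ∀ u v, h u v = h v u)
    (hn : ∀ u, (∀ v, h u v = 0) → u = 0) (hne : ∃ u, h u u ≠ 0) (hodd : Odd (Module.finrank F W)) :
    Nat.card (isoSub h) = spCard (Fintype.card F) ((Module.finrank F W - 1) / 2) := by
  obtain ⟨w, hw, -, hww⟩ := exists_sqrt_vec h hs hn hne
  have hw1 : h w w = 1 := by
    rw [hww]
    obtain ⟨k, hk⟩ := hodd
    rw [hk]
    push_cast
    rw [CharTwo.two_eq_zero, zero_mul, zero_add]
  obtain ⟨hd, hnd⟩ := perp_facts h hs hn hw1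
  have halt : LinearMap.IsAlt (restr h (perp h (F ∙ w))) := fun u => by
    rw [restr_apply, hw, hs, u.2 w (Submodule.mem_span_singleton_self w)]
    simp
  obtain ⟨k, hk, hcard⟩ := card_iso_alt _ halt hnd
  rw [← Nat.card_congr (Equiv.subtypeUnivEquiv fun g : isoSub h => fixes_sqrt_vec h hs hn hw g.2),
    card_fix_unit h hs hw1, hcard]
  congr 1
  omega

theorem card_iso_even (h : LinearMap.BilinForm F W) (hs : ∀ u v, h u v = h v u)
    (hn : ∀ u, (∀ v, h u v = 0) → u = 0) (hne : ∃ u, h u u ≠ 0) (hev : Even (Module.finrank F W)) :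
    Nat.card (isoSub h) = Fintype.card F ^ (Module.finrank F W - 1) *
      spCard (Fintype.card F) ((Module.finrank F W - 2) / 2) := by
  classical
  obtain ⟨w, hw, hw0, -⟩ := exists_sqrt_vec h hs hn hne
  have hW : Finite W := Module.finite_of_finite F
  obtain ⟨u₁, hu₁⟩ : ∃ u, h u w = 1 := by
    obtain ⟨u, hu⟩ : ∃ u, h w u ≠ 0 := by
      by_contra hh
      push Not at hh
      exact hw0 (hn w hh)
    exact ⟨(h w u)⁻¹ • u, by rw [map_smul, LinearMap.smul_apply, hs u w, smul_eq_mul, inv_mul_cancel₀ hu]⟩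
  have hU : ∀ v, h v v = 1 ↔ h v w = 1 := fun v => by
    rw [hw]
    exact ⟨fun h1 => CharTwo.sq_injective (R := F) (by simpa using h1), fun h1 => by rw [h1, one_pow]⟩
  -- extending a unit vector
  have hext : ∀ v, h v v = 1 → ∃ g : isoSub h, g.1 u₁ = v := by
    have mk : ∀ v, h v v = 1 → ∃ b : Module.Basis (Unit ⊕ Fin (Module.finrank F W - 1)) F W,
        b (.inl ()) = v ∧ ∀ i j, h (b i) (b j) = if i = j then 1 else 0 := by
      intro v hv
      obtain ⟨hd, hnd⟩ := perp_facts h hs hn hv
      have hne' : ∃ u, restr h (perp h (F ∙ v)) u u ≠ 0 := by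
        by_contra hh
        push Not at hh
        obtain ⟨k, hk, -⟩ := card_iso_alt _ hh hnd
        obtain ⟨l, hl⟩ := hev
        omega
      obtain ⟨b', hb'⟩ := SpInvolTwo.exists_orthonormal (restr h (perp h (F ∙ v)))
        (fun a c => hs _ _) hnd hne'
      have hd' : Module.finrank F W - 1 = Module.finrank F (perp h (F ∙ v)) := by omega
      let fam : Unit ⊕ Fin (Module.finrank F W - 1) → W :=
        Sum.elim (fun _ => v) (fun i => (b' (Fin.cast hd' i) : W))
      have hfam : ∀ i j, h (fam i) (fam j) = if i = j then 1 else 0 := by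
        have h0 : ∀ i, h v (b' i : W) = 0 := fun i => (b' i).2 v (Submodule.mem_span_singleton_self v)
        rintro (i | i) (j | j)
        · simpa [fam] using hv
        · simpa [fam] using h0 _
        · simpa [fam, hs _ v] using h0 _
        · have := hb' (Fin.cast hd' i) (Fin.cast hd' j)
          rw [restr_apply] at this
          simp [fam, this]
      have hli := SpInvolTwo.li_of_gram h fam 1 (mul_one _) fun i j => by rw [hfam, Matrix.one_apply]
      refine ⟨basisOfLinearIndependentOfCardEqFinrank' fam hli (by simp; omega), ?_, fun i j => ?_⟩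
      · simp [fam]
      · simpa using hfam i j
    intro v hv
    obtain ⟨b, hb1, hb⟩ := mk u₁ ((hU _).2 hu₁)
    obtain ⟨c, hc1, hc⟩ := mk v hv
    let g := b.equiv c (Equiv.refl _)
    have hg : g ∈ isoSub h := by
      intro x y
      have : h.compl₁₂ g.toLinearMap g.toLinearMap = h := LinearMap.ext_basis b b fun i j => by
        simp [g, hb, hc]
      exact congrArg (fun k => k x y) this
    exact ⟨⟨g, hg⟩, by simp [g, ← hb1, hc1]⟩
  have hcardU : Nat.card {v : W // h v v = 1} = Fintype.card F ^ (Module.finrank F W - 1) := by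
    have hsurj : Function.Surjective (h.flip w) := fun c => ⟨c • u₁, by simp [hu₁]⟩
    have hker : Module.finrank F (LinearMap.ker (h.flip w)) = Module.finrank F W - 1 := by
      have := (h.flip w).finrank_range_add_finrank_ker
      rw [LinearMap.range_eq_top.2 hsurj, finrank_top, Module.finrank_self] at this
      omega
    rw [Nat.card_congr (Equiv.subtypeEquivRight hU),
      ← Nat.card_congr (Equiv.subtypeEquiv (Equiv.addRight u₁)
        (fun v => show v ∈ LinearMap.ker (h.flip w) ↔ h (v + u₁) w = 1 by simp [hu₁])),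
      Module.natCard_eq_pow_finrank (K := F) (V := LinearMap.ker (h.flip w)), hker, Nat.card_eq_fintype_card]
  choose c hc using fun v : {v : W // h v v = 1} => hext v.1 v.2
  have hsplit : Nat.card (isoSub h) =
      Nat.card {v : W // h v v = 1} * Nat.card {g : isoSub h // g.1 u₁ = u₁} := by
    rw [← Nat.card_prod]
    let π : isoSub h → {v : W // h v v = 1} := fun g => ⟨g.1 u₁, by rw [g.2]; exact (hU _).2 hu₁⟩
    refine Nat.card_congr
      { toFun := fun g => (π g, ⟨(c (π g))⁻¹ * g, ?_⟩)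
        invFun := fun p => c p.1 * p.2.1
        left_inv := fun g => mul_inv_cancel_left _ _
        right_inv := fun p => ?_ }
    · show (c (π g)).1.symm (g.1 u₁) = u₁
      rw [LinearEquiv.symm_apply_eq, hc]
    · have h1 : π (c p.1 * p.2.1) = p.1 := Subtype.ext (by
        show (c p.1).1 (p.2.1.1 u₁) = _
        rw [p.2.2, hc])
      refine Prod.ext h1 (Subtype.ext ?_)
      show (c (π (c p.1 * p.2.1)))⁻¹ * (c p.1 * p.2.1) = p.2.1
      rw [h1, inv_mul_cancel_left]
  obtain ⟨hd, hnd⟩ := perp_facts h hs hn ((hU _).2 hu₁)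
  have hne' : ∃ u, restr h (perp h (F ∙ u₁)) u u ≠ 0 := by
    by_contra hh
    push Not at hh
    obtain ⟨k, hk, -⟩ := card_iso_alt _ hh hnd
    obtain ⟨l, hl⟩ := hev
    omega
  have hodd : Odd (Module.finrank F (perp h (F ∙ u₁))) := by
    obtain ⟨l, hl⟩ := hev
    exact ⟨l - 1, by omega⟩
  rw [hsplit, hcardU, card_fix_unit h hs ((hU _).2 hu₁),
    card_iso_odd (restr h (perp h (F ∙ u₁))) (fun a b => hs _ _) hnd hne' hodd]
  congr 2
  omega

end sym

section cent

variable {m : ℕ} {ι : Type} [Fintype ι] [DecidableEq ι]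

local notation "V" => Fin m ⊕ Fin m → F

/-- The centralizer of an involution with Gram data `G` is an extension of the isometry group of `G`
by the pointwise stabilizer of the image. -/
theorem card_centralizer (t : Matrix.symplecticGroup (Fin m) F)
    (hN : ∀ u v, spB m F ((t.1 - 1) *ᵥ u) v = spB m F u ((t.1 - 1) *ᵥ v))
    (hN2 : ∀ u, (t.1 - 1) *ᵥ ((t.1 - 1) *ᵥ u) = 0) (x : ι → V) (G : Matrix ι ι F) (hG : G * G = 1)
    (hx : ∀ i j, spB m F ((t.1 - 1) *ᵥ x i) (x j) = G i j)
    (hsp : ∀ v, ∃ c : ι → F, (t.1 - 1) *ᵥ v = ∑ i, c i • ((t.1 - 1) *ᵥ x i))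
    {k : ℕ} (hk : Fintype.card ι = k) :
    Fintype.card F ^ (k * (k - 1) / 2) * Nat.card (Subgroup.centralizer ({t} : Set (Matrix.symplecticGroup (Fin m) F))) =
      Nat.card (isoSub (Matrix.toBilin' G)) *
        (Fintype.card F ^ (m ^ 2) * ∏ i ∈ Finset.range (m - k), (Fintype.card F ^ (2 * (i + 1)) - 1)) := by
  classical
  set N : Matrix (Fin m ⊕ Fin m) (Fin m ⊕ Fin m) F := t.1 - 1 with hNdef
  let z : ι → V := fun i => N *ᵥ x i
  have hsym : ∀ i j, G i j = G j i := fun i j => by
    rw [← hx i j, ← hx j i, hN (x j), SpInvolTwo.pair_symm spB_alt]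
  have hGt : Gᵀ = G := Matrix.ext fun i j => hsym j i
  have hzx : ∀ i j, spB m F (z i) (x j) = G i j := hx
  have hzz : ∀ i j, spB m F (z i) (z j) = 0 := fun i j => by rw [hN, hN2, map_zero]
  have hli : LinearIndependent F z := by
    rw [Fintype.linearIndependent_iff]
    intro c hc
    have h1 : Matrix.vecMul c G = 0 := funext fun j => by
      have := congrArg (fun w => spB m F w (x j)) hc
      simpa [map_sum, hzx, Matrix.vecMul, dotProduct] using this
    have h2 := congrArg (fun w => Matrix.vecMul w G) h1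
    simp only [Matrix.vecMul_vecMul, hG, Matrix.vecMul_one, Matrix.zero_vecMul] at h2
    exact congrFun h2
  let e := Fintype.equivFinOfCardEq hk
  let e₀ : SpParabolic.Tup m k F := ⟨z ∘ e.symm, hli.comp _ e.symm.injective, fun i j => hzz _ _⟩
  -- the coefficient formula
  have hcoef : ∀ v, N *ᵥ v = ∑ l, (G *ᵥ fun j => spB m F v (z j)) l • z l := by
    intro v
    obtain ⟨c, hc⟩ := hsp v
    have h1 : (fun j => spB m F v (z j)) = G *ᵥ c := funext fun j => by
      rw [← hN, hc]
      simp [map_sum, hx, Matrix.mulVec, dotProduct, hsym j, mul_comm]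
    rw [hc, h1, Matrix.mulVec_mulVec, hG, Matrix.one_mulVec]
  let M : Type _ := {c : Matrix ι ι F // cᵀ * G * c = G}
  let img : M → ι → V := fun c j => ∑ i, c.1 i j • z i
  have hGc : ∀ c : M, c.1 * G * c.1ᵀ = G := by
    intro c
    have h1 : (G * c.1ᵀ * G) * c.1 = 1 := by rw [Matrix.mul_assoc, Matrix.mul_assoc, ← Matrix.mul_assoc _ G c.1, c.2, hG]
    have h2 := mul_eq_one_comm.1 h1
    calc c.1 * G * c.1ᵀ = c.1 * (G * c.1ᵀ * G) * G := by
          simp only [Matrix.mul_assoc, hG, Matrix.mul_one]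
      _ = G := by rw [h2, Matrix.one_mul]
  -- membership
  have hmem : ∀ A : Matrix.symplecticGroup (Fin m) F,
      A ∈ Subgroup.centralizer ({t} : Set (Matrix.symplecticGroup (Fin m) F)) ↔
        ∀ v, A.1 *ᵥ (N *ᵥ v) = N *ᵥ (A.1 *ᵥ v) := by
    intro A
    rw [Subgroup.mem_centralizer_singleton_iff]
    constructor
    · intro h v
      have h' : A.1 * t.1 = t.1 * A.1 := congrArg Subtype.val h
      rw [Matrix.mulVec_mulVec, Matrix.mulVec_mulVec, hNdef, mul_sub, sub_mul, h', mul_one, one_mul]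
    · intro h
      have h' : A.1 * N = N * A.1 := Matrix.ext_iff_mulVec.2 fun v => by
        rw [← Matrix.mulVec_mulVec, ← Matrix.mulVec_mulVec, h]
      apply Subtype.ext
      rw [Submonoid.coe_mul, Submonoid.coe_mul]
      rw [hNdef, mul_sub, sub_mul, mul_one, one_mul, sub_left_inj] at h'
      exact h'
  have hcent : ∀ A : Matrix.symplecticGroup (Fin m) F,
      A ∈ Subgroup.centralizer ({t} : Set (Matrix.symplecticGroup (Fin m) F)) ↔
        ∃ c : M, ∀ j, A.1 *ᵥ z j = img c j := by
    intro A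
    rw [hmem]
    constructor
    · intro h
      choose c hc using fun j => hsp (A.1 *ᵥ x j)
      let C : Matrix ι ι F := Matrix.of fun i j => c j i
      have hz : ∀ j, A.1 *ᵥ z j = ∑ i, C i j • z i := fun j => by
        show A.1 *ᵥ (N *ᵥ x j) = _
        rw [h, hc]
        rfl
      refine ⟨⟨C, Matrix.ext fun j l => ?_⟩, hz⟩
      have e1 : spB m F (A.1 *ᵥ z j) (A.1 *ᵥ x l) = G j l := by rw [SpParabolic.sp_pres, hzx]
      rw [hz] at e1
      simp only [map_sum, map_smul, LinearMap.sum_apply, LinearMap.smul_apply, smul_eq_mul] at e1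
      have e2 : ∀ i, spB m F (z i) (A.1 *ᵥ x l) = (G * C) i l := fun i => by
        show spB m F (N *ᵥ x i) (A.1 *ᵥ x l) = _
        rw [hN, hc]
        simp [map_sum, ← hN, hx, Matrix.mul_apply, C, mul_comm]
      simp only [e2] at e1
      rw [Matrix.mul_assoc, Matrix.mul_apply]
      simpa using e1
    · rintro ⟨c, hc⟩ v
      have h1 : (fun j => spB m F v (z j)) = c.1ᵀ *ᵥ fun j => spB m F (A.1 *ᵥ v) (z j) := funext fun j => by
        rw [← SpParabolic.sp_pres A v (z j), hc]
        simp [img, map_sum, Matrix.mulVec, dotProduct]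
      set a := fun j => spB m F (A.1 *ᵥ v) (z j) with ha
      rw [hcoef v, hcoef (A.1 *ᵥ v), h1, Matrix.mulVec_sum, ← ha]
      simp only [Matrix.mulVec_smul, hc, img, Finset.smul_sum, smul_smul]
      rw [Finset.sum_comm]
      refine Finset.sum_congr rfl fun i _ => ?_
      rw [← Finset.sum_smul]
      congr 1
      have h2 : (c.1 * G * c.1ᵀ) *ᵥ a = G *ᵥ a := by rw [hGc]
      rw [← Matrix.mulVec_mulVec, ← Matrix.mulVec_mulVec] at h2
      rw [← congrFun h2 i]
      simp only [Matrix.mulVec, dotProduct, mul_comm]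
  have himg_inj : Function.Injective img := by
    intro c c' h
    refine Subtype.ext (Matrix.ext fun i j => ?_)
    have h1 : ∑ i, (c.1 i j - c'.1 i j) • z i = 0 := by
      simp only [sub_smul, Finset.sum_sub_distrib]
      exact sub_eq_zero.2 (congrFun h j)
    exact sub_eq_zero.1 (Fintype.linearIndependent_iff.1 hli _ h1 i)
  have himg : ∀ c : M, LinearIndependent F (img c ∘ e.symm) ∧
      ∀ i j, spB m F (img c (e.symm i)) (img c (e.symm j)) = 0 := by
    intro c
    refine ⟨LinearIndependent.comp ?_ _ e.symm.injective, fun i j => by simp [img, map_sum, hzz]⟩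
    rw [Fintype.linearIndependent_iff]
    intro d hd
    simp only [img, Finset.smul_sum, smul_smul] at hd
    rw [Finset.sum_comm] at hd
    simp only [← Finset.sum_smul] at hd
    have h1 : c.1 *ᵥ d = 0 := funext fun i => by
      simpa [Matrix.mulVec, dotProduct, mul_comm] using Fintype.linearIndependent_iff.1 hli _ hd i
    have h2 : (c.1ᵀ * G * c.1) *ᵥ d = 0 := by rw [← Matrix.mulVec_mulVec, h1, Matrix.mulVec_zero]
    rw [c.2] at h2
    have h3 := congrArg (G *ᵥ ·) h2
    rw [Matrix.mulVec_mulVec, hG, Matrix.one_mulVec, Matrix.mulVec_zero] at h3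
    exact congrFun h3
  let toTup : M → SpParabolic.Tup m k F := fun c => ⟨img c ∘ e.symm, (himg c).1, (himg c).2⟩
  have htoInj : Function.Injective toTup := fun c c' h => himg_inj (funext fun j => by
    simpa [toTup] using congrFun (congrArg Subtype.val h) (e j))
  have hact : ∀ (A : Matrix.symplecticGroup (Fin m) F) (c : M),
      (∀ j, A.1 *ᵥ z j = img c j) ↔ SpParabolic.act A e₀ = toTup c := by
    intro A c
    refine ⟨fun h => Subtype.ext (funext fun i => h _), fun h j => ?_⟩
    have := congrFun (congrArg Subtype.val h) (e j)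
    simpa [SpParabolic.act, e₀, toTup] using this
  have hcard : Nat.card (Subgroup.centralizer ({t} : Set (Matrix.symplecticGroup (Fin m) F))) =
      Nat.card M * Nat.card {A : Matrix.symplecticGroup (Fin m) F // SpParabolic.act A e₀ = e₀} := by
    rw [← Nat.card_range_of_injective htoInj, ← SpParabolic.card_image_mem e₀ (Set.range toTup)]
    refine Nat.card_congr (Equiv.subtypeEquivRight fun A => ?_)
    rw [hcent]
    exact exists_congr fun c => (hact A c).trans eq_comm
  have hM : Nat.card M = Nat.card (isoSub (Matrix.toBilin' G)) := by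
    have key : ∀ (c : Matrix ι ι F) u v, Matrix.toBilin' G (c *ᵥ u) (c *ᵥ v) =
        Matrix.toBilin' (cᵀ * G * c) u v := fun c u v => by
      rw [Matrix.toBilin'_apply', Matrix.toBilin'_apply', ← Matrix.mulVec_mulVec, ← Matrix.mulVec_mulVec,
        Matrix.dotProduct_mulVec u cᵀ, Matrix.vecMul_transpose]
    have hu : ∀ c : M, (G * c.1ᵀ * G) * c.1 = 1 := fun c => by
      rw [Matrix.mul_assoc, Matrix.mul_assoc, ← Matrix.mul_assoc _ G c.1, c.2, hG]
    refine Nat.card_congr
      { toFun := fun c => ⟨LinearEquiv.ofLinearMap (Matrix.toLin' c.1) (Matrix.toLin' (G * c.1ᵀ * G))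
          (by rw [← Matrix.toLin'_mul, mul_eq_one_comm.1 (hu c), Matrix.toLin'_one])
          (by rw [← Matrix.toLin'_mul, hu c, Matrix.toLin'_one]), fun u v => by
            show Matrix.toBilin' G (c.1 *ᵥ u) (c.1 *ᵥ v) = _
            rw [key, c.2]⟩
        invFun := fun g => ⟨LinearMap.toMatrix' g.1.toLinearMap, by
          apply Matrix.toBilin'.injective
          refine LinearMap.ext₂ fun u v => ?_
          rw [← key, LinearMap.toMatrix'_mulVec, LinearMap.toMatrix'_mulVec]
          exact g.2 u v⟩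
        left_inv := fun c => Subtype.ext (LinearMap.toMatrix'_toLin' _)
        right_inv := fun g => Subtype.ext (LinearEquiv.ext fun v => by
          show Matrix.toLin' (LinearMap.toMatrix' _) v = _
          rw [Matrix.toLin'_toMatrix']
          rfl) }
  rw [hcard, hM, mul_left_comm, SpParabolic.card_fix_formula]

end cent

end Cfsg.Agent.FormsLib.SpInvolCent

namespace Cfsg.Agent.FormsLib.SpInvolCent

open scoped Matrix
open Cfsg.Agent.FormsLib Cfsg.Agent.FormModel

variable {F : Type*} [Field F] [Fintype F] [CharP F 2] {m : ℕ}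

/-- The basic identities for `t - 1`. -/
theorem props (t : Matrix.symplecticGroup (Fin m) F) (ht : t ^ 2 = 1) :
    (∀ u v, spB m F ((t.1 - 1) *ᵥ u) v = spB m F u ((t.1 - 1) *ᵥ v)) ∧
      (∀ u, (t.1 - 1) *ᵥ ((t.1 - 1) *ᵥ u) = 0) ∧
      ∀ v, Cfsg.sympForm m F v (t.1 *ᵥ v) = spB m F ((t.1 - 1) *ᵥ v) v := by
  have hcc : t.1 * t.1 = 1 := by
    have h := congrArg Subtype.val ((pow_two t).symm.trans ht)
    rwa [Submonoid.coe_mul, Submonoid.coe_one] at h
  have hadj : ∀ u v, spB m F (t.1 *ᵥ u) v = spB m F u (t.1 *ᵥ v) := fun u v => by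
    rw [← (mem_symplectic_iff t.1).1 t.2 (t.1 *ᵥ u) v, Matrix.mulVec_mulVec, hcc, Matrix.one_mulVec]
  refine ⟨fun u v => ?_, fun u => ?_, fun v => ?_⟩
  · simp only [Matrix.sub_mulVec, Matrix.one_mulVec, map_sub, LinearMap.sub_apply, hadj]
  · rw [Matrix.mulVec_mulVec]
    have : (t.1 - 1) * (t.1 - 1) = 0 := by
      have h2 : (2 : F) = 0 := CharTwo.two_eq_zero
      simp only [mul_sub, sub_mul, hcc, mul_one, one_mul]
      linear_combination (norm := module) h2 • (1 - t.1)
    rw [this, Matrix.zero_mulVec]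
  · rw [Cfsg.sympForm, ← spB_apply, Matrix.sub_mulVec, Matrix.one_mulVec, map_sub, LinearMap.sub_apply, spB_alt v, sub_zero,
      SpInvolTwo.pair_symm spB_alt]

/-- Non-alternate type: the centralizer order in terms of the isometry group of the identity form. -/
theorem card_of_nonalt (t : Matrix.symplecticGroup (Fin m) F) (ht : t ^ 2 = 1) {s : ℕ}
    (hs : (t.1 - 1).rank = s) (hna : ∃ v, spB m F ((t.1 - 1) *ᵥ v) v ≠ 0) :
    s ≤ m ∧ 0 < s ∧
    Fintype.card F ^ (s * (s - 1) / 2) * Nat.card (Subgroup.centralizer ({t} : Set (Matrix.symplecticGroup (Fin m) F))) =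
      (if Odd s then spCard (Fintype.card F) ((s - 1) / 2)
        else Fintype.card F ^ (s - 1) * spCard (Fintype.card F) ((s - 2) / 2)) *
        (Fintype.card F ^ (m ^ 2) * ∏ i ∈ Finset.range (m - s), (Fintype.card F ^ (2 * (i + 1)) - 1)) := by
  classical
  obtain ⟨hN, hN2, -⟩ := props t ht
  obtain ⟨x, hx, hsp⟩ := (SpInvolTwo.exists_data (N := (t.1 - 1).mulVecLin) spB_alt spB_nondeg hN s hs).1 hna
  have hgram : ∀ i j, spB m F ((t.1 - 1) *ᵥ x i) (x j) = (1 : Matrix (Fin s) (Fin s) F) i j := fun i j => by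
    rw [Matrix.one_apply]; exact hx i j
  have h := card_centralizer t hN hN2 x 1 (mul_one 1) hgram hsp (Fintype.card_fin s)
  have hpos : 0 < s := Nat.pos_of_ne_zero fun h0 => by
    subst h0
    obtain ⟨v, hv⟩ := hna
    obtain ⟨c, hc⟩ := hsp v
    exact hv (by rw [show (t.1 - 1) *ᵥ v = (t.1 - 1).mulVecLin v from rfl, hc]; simp)
  refine ⟨?_, hpos, ?_⟩
  · have hli := SpInvolTwo.li_of_gram (spB m F) (Sum.elim (fun i => (t.1 - 1) *ᵥ x i) x)
      (Matrix.fromBlocks (0 : Matrix (Fin s) (Fin s) F) 1 1 (Matrix.of fun i j => spB m F (x i) (x j)))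
    by_contra hsm
    push Not at hsm
    have e : LinearIndependent F fun i => (t.1 - 1) *ᵥ x i := by
      rw [Fintype.linearIndependent_iff]
      intro c hc j
      have := congrArg (fun w => spB m F w (x j)) hc
      simpa [map_sum, hgram, Matrix.one_apply] using this
    have hk := SpParabolic.k_le (m := m) (⟨fun i => (t.1 - 1) *ᵥ x i, e, fun i j => by rw [hN, hN2, map_zero]⟩ :
      SpParabolic.Tup m s F)
    omega
  · rw [h]
    congr 1
    have hfr : Module.finrank F (Fin s → F) = s := Module.finrank_fin_fun (R := F)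
    have hsym : ∀ u v : Fin s → F, Matrix.toBilin' (1 : Matrix (Fin s) (Fin s) F) u v =
        Matrix.toBilin' (1 : Matrix (Fin s) (Fin s) F) v u := fun u v => by
      simp [Matrix.toBilin'_apply', dotProduct_comm]
    have hnd : ∀ u : Fin s → F, (∀ v, Matrix.toBilin' (1 : Matrix (Fin s) (Fin s) F) u v = 0) → u = 0 := fun u hu =>
      funext fun i => by simpa [Matrix.toBilin'_apply', Matrix.one_mulVec, Matrix.col, Matrix.one_apply, dotProduct] using hu (Pi.single i 1)
    have hne : ∃ u : Fin s → F, Matrix.toBilin' (1 : Matrix (Fin s) (Fin s) F) u u ≠ 0 :=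
      ⟨Pi.single ⟨0, hpos⟩ 1, by simp [Matrix.toBilin'_apply']⟩
    split_ifs with hodd
    · have := card_iso_odd _ hsym hnd hne (by rwa [hfr])
      rwa [hfr] at this
    · have := card_iso_even _ hsym hnd hne (by rw [hfr]; exact Nat.not_odd_iff_even.1 hodd)
      rwa [hfr] at this

/-- Alternate type. -/
theorem card_of_alt (t : Matrix.symplecticGroup (Fin m) F) (ht : t ^ 2 = 1) {s : ℕ}
    (hs : (t.1 - 1).rank = s) (halt : ∀ v, spB m F ((t.1 - 1) *ᵥ v) v = 0) :
    s ≤ m ∧ Even s ∧
    Fintype.card F ^ (s * (s - 1) / 2) * Nat.card (Subgroup.centralizer ({t} : Set (Matrix.symplecticGroup (Fin m) F))) =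
      spCard (Fintype.card F) (s / 2) *
        (Fintype.card F ^ (m ^ 2) * ∏ i ∈ Finset.range (m - s), (Fintype.card F ^ (2 * (i + 1)) - 1)) := by
  classical
  obtain ⟨hN, hN2, -⟩ := props t ht
  obtain ⟨k, x, hk, hx, hsp⟩ := (SpInvolTwo.exists_data (N := (t.1 - 1).mulVecLin) spB_alt spB_nondeg hN s hs).2 halt
  set G : Matrix (Fin k ⊕ Fin k) (Fin k ⊕ Fin k) F := Matrix.fromBlocks 0 1 1 0
  have hG : G * G = 1 := by simp [G, Matrix.fromBlocks_multiply]
  have hcard : Fintype.card (Fin k ⊕ Fin k) = s := by simp [hk]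
  have h := card_centralizer t hN hN2 x G hG hx hsp hcard
  refine ⟨?_, ⟨k, hk⟩, ?_⟩
  · let e := Fintype.equivFinOfCardEq hcard
    have hli : LinearIndependent F fun i => (t.1 - 1) *ᵥ x i := by
      rw [Fintype.linearIndependent_iff]
      intro c hc
      have h1 : Matrix.vecMul c G = 0 := funext fun j => by
        have := congrArg (fun w => spB m F w (x j)) hc
        have hx' : ∀ i, spB m F ((t.1 - 1) *ᵥ x i) (x j) = G i j := fun i => hx i j
        simpa [map_sum, hx', Matrix.vecMul, dotProduct] using this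
      have h2 := congrArg (fun w => Matrix.vecMul w G) h1
      simp only [Matrix.vecMul_vecMul, hG, Matrix.vecMul_one, Matrix.zero_vecMul] at h2
      exact congrFun h2
    exact SpParabolic.k_le (m := m) (⟨fun i => (t.1 - 1) *ᵥ x (e.symm i), hli.comp _ e.symm.injective,
      fun i j => by rw [hN, hN2, map_zero]⟩ : SpParabolic.Tup m s F)
  · rw [h]
    congr 1
    have hA : LinearMap.IsAlt (Matrix.toBilin' G) := fun u => by
      simp only [Matrix.toBilin'_apply', G, Matrix.fromBlocks_mulVec, dotProduct, Fintype.sum_sum_type]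
      simp only [Sum.elim_inl, Sum.elim_inr, Matrix.one_mulVec, Matrix.zero_mulVec, Function.comp_apply,
        zero_add, add_zero]
      rw [← Finset.sum_add_distrib]
      exact Finset.sum_eq_zero fun i _ => by rw [mul_comm (u (Sum.inr i)), CharTwo.add_self_eq_zero]
    have hnd : ∀ u, (∀ v, Matrix.toBilin' G u v = 0) → u = 0 := by
      intro u hu
      have h1 : Matrix.vecMul u G = 0 := funext fun j => by
        have := hu (Pi.single j 1)
        rwa [Matrix.toBilin'_apply', Matrix.dotProduct_mulVec, dotProduct_single, mul_one] at this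
      have h2 := congrArg (fun w => Matrix.vecMul w G) h1
      simpa only [Matrix.vecMul_vecMul, hG, Matrix.vecMul_one, Matrix.zero_vecMul] using h2
    obtain ⟨j, hj, hc⟩ := card_iso_alt _ hA hnd
    rw [hc]
    simp only [Module.finrank_fintype_fun_eq_card, hcard] at hj
    congr 1
    omega

/-- Clearing the exponents. -/
theorem finish {q C s E e j M : ℕ} (hq : 0 < q)
    (h : q ^ (s * (s - 1) / 2) * C = q ^ e * spCard q j * (q ^ (M ^ 2) * ∏ i ∈ Finset.range (M - s), (q ^ (2 * (i + 1)) - 1)))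
    (he : s * (s - 1) / 2 + E + (M - s) ^ 2 = e + M ^ 2) :
    C = q ^ E * (q ^ (j ^ 2) * ∏ i : Fin j, (q ^ (2 * ((i : ℕ) + 1)) - 1)) *
      (q ^ ((M - s) ^ 2) * ∏ i : Fin (M - s), (q ^ (2 * ((i : ℕ) + 1)) - 1)) := by
  rw [Fin.prod_univ_eq_prod_range (fun i => q ^ (2 * (i + 1)) - 1),
    Fin.prod_univ_eq_prod_range (fun i => q ^ (2 * (i + 1)) - 1)]
  apply Nat.eq_of_mul_eq_mul_left (pow_pos hq (s * (s - 1) / 2))
  rw [h, spCard]
  have h2 : q ^ (s * (s - 1) / 2) * q ^ E * q ^ ((M - s) ^ 2) = q ^ e * q ^ (M ^ 2) := by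
    rw [← pow_add, ← pow_add, ← pow_add, he]
  calc _ = (q ^ e * q ^ (M ^ 2)) * (q ^ (j ^ 2) * (∏ i ∈ Finset.range j, (q ^ (2 * (i + 1)) - 1)) *
        ∏ i ∈ Finset.range (M - s), (q ^ (2 * (i + 1)) - 1)) := by ring
    _ = _ := by rw [← h2]; ring

end Cfsg.Agent.FormsLib.SpInvolCent
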