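import Cfsg.Agent.Lib.Forms.Alt
import Mathlib

/-!
Involutions of symplectic spaces in characteristic two.
-/

set_option autoImplicit false

namespace Cfsg.Agent.FormsLib.SpInvolTwo

variable {F : Type*} [Field F] [CharP F 2]

omit [CharP F 2] in
/-- A family with invertible Gram matrix is independent. -/
theorem li_of_gram {W ι : Type*} [AddCommGroup W] [Module F W] [Fintype ι] [DecidableEq ι]
    (h : LinearMap.BilinForm F W) (b : ι → W) (G : Matrix ι ι F) (hG : G * G = 1)
    (hb : ∀ i j, h (b i) (b j) = G i j) : LinearIndependent F b := by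
  rw [Fintype.linearIndependent_iff]
  intro c hc
  have h1 : Matrix.vecMul c G = 0 := funext fun j => by
    have := congrArg (fun w => h w (b j)) hc
    simpa [map_sum, hb, Matrix.vecMul, dotProduct] using this
  have h2 := congrArg (fun w => Matrix.vecMul w G) h1
  simp only [Matrix.vecMul_vecMul, hG, Matrix.vecMul_one, Matrix.zero_vecMul] at h2
  exact congrFun h2

omit [CharP F 2] in
theorem card_le_finrank {W : Type*} [AddCommGroup W] [Module F W] [FiniteDimensional F W] {n : ℕ} {b : Fin n → W}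
    (hb : LinearIndependent F b) : n ≤ Module.finrank F W := by
  simpa using hb.fintype_card_le_finrank

variable [Finite F]

/-- Orthonormal bases for non-alternate symmetric forms. -/
theorem exists_orthonormal {W : Type*} [AddCommGroup W] [Module F W] [FiniteDimensional F W]
    (h : LinearMap.BilinForm F W) (hs : ∀ u v, h u v = h v u) (hn : ∀ u, (∀ v, h u v = 0) → u = 0)
    (hne : ∃ u, h u u ≠ 0) :
    ∃ b : Fin (Module.finrank F W) → W, ∀ i j, h (b i) (b j) = if i = j then 1 else 0 := by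
  classical
  have h2 : (2 : F) = 0 := CharTwo.two_eq_zero
  obtain ⟨u, hu⟩ := hne
  obtain ⟨r, hr⟩ : IsSquare (h u u)⁻¹ := by
    cases nonempty_fintype F
    exact FiniteField.isSquare_of_char_two (ringChar.eq F 2) _
  -- a unit vector
  obtain ⟨u₁, hu₁, hperp⟩ : ∃ u₁, h u₁ u₁ = 1 ∧
      ((∀ w, h w u₁ = 0 → w = 0) ∨ ∃ w, h w u₁ = 0 ∧ h w w ≠ 0) := by
    set u₀ := r • u with hu0
    have h1 : h u₀ u₀ = 1 := by
      simp only [hu0, map_smul, LinearMap.smul_apply, smul_eq_mul]
      rw [← mul_assoc, ← hr, inv_mul_cancel₀ hu]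
    by_cases hc : ∃ w, h w u₀ = 0 ∧ h w w ≠ 0
    · exact ⟨u₀, h1, Or.inr hc⟩
    push Not at hc
    by_cases hz : ∀ w, h w u₀ = 0 → w = 0
    · exact ⟨u₀, h1, Or.inl hz⟩
    push Not at hz
    obtain ⟨e, he, he0⟩ := hz
    obtain ⟨f₀, hf₀⟩ : ∃ v, h e v ≠ 0 := by
      by_contra hh
      push Not at hh
      exact he0 (hn e hh)
    set f₁ := f₀ - h f₀ u₀ • u₀ with hf1
    have hef : h e f₁ ≠ 0 := by simp [hf1, he, hf₀]
    set f := (h e f₁)⁻¹ • f₁ with hf
    have hfu : h f u₀ = 0 := by simp [hf, hf1, h1]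
    have hef1 : h e f = 1 := by simp [hf, hef]
    have hee := hc e he
    have hff := hc f hfu
    have hue : h u₀ e = 0 := by rw [hs, he]
    have huf : h u₀ f = 0 := by rw [hs, hfu]
    have hfe : h f e = 1 := by rw [hs, hef1]
    refine ⟨u₀ + e, by simp [h1, he, hue, hee], Or.inr ⟨u₀ + f, ?_, by simp [h1, hfu, huf, hff]⟩⟩
    simp [h1, hue, hfu, hfe, h2, one_add_one_eq_two]
  obtain ⟨W', hW'⟩ : ∃ W' : Submodule F W, W' = LinearMap.ker (h.flip u₁) := ⟨_, rfl⟩
  have mem : ∀ w, w ∈ W' ↔ h w u₁ = 0 := fun w => by simp [hW']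
  have hd : Module.finrank F W' + 1 = Module.finrank F W := by
    have hs' : Function.Surjective (h.flip u₁) := fun c => ⟨c • u₁, by simp [hu₁]⟩
    have := (h.flip u₁).finrank_range_add_finrank_ker
    rw [LinearMap.range_eq_top.2 hs', finrank_top, Module.finrank_self, ← hW'] at this
    omega
  obtain ⟨b', hb'⟩ : ∃ b' : Fin (Module.finrank F W') → W', ∀ i j, h (b' i : W) (b' j : W) = if i = j then 1 else 0 := by
    rcases hperp with h0 | ⟨w, hw, hww⟩
    · have hbot : W' = ⊥ := (Submodule.eq_bot_iff _).2 fun x hx => h0 x ((mem x).1 hx)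
      have h0' : Module.finrank F W' = 0 := by rw [hbot, finrank_bot]
      rw [h0']
      exact ⟨fun i => i.elim0, fun i => i.elim0⟩
    · let h' : LinearMap.BilinForm F W' := h.compl₁₂ W'.subtype W'.subtype
      refine exists_orthonormal h' (fun a b => hs _ _) (fun a ha => Subtype.ext (hn _ fun v => ?_))
        ⟨⟨w, (mem w).2 hw⟩, hww⟩
      have hv : v - h v u₁ • u₁ ∈ W' := (mem _).2 (by simp [hu₁])
      have h3 : h (a : W) (v - h v u₁ • u₁) = 0 := ha ⟨_, hv⟩
      rw [map_sub, map_smul, (mem _).1 a.2, smul_zero, sub_zero] at h3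
      exact h3
  refine ⟨fun i => (Fin.cons u₁ (fun k => (b' k : W)) : Fin (_ + 1) → W) (Fin.cast hd.symm i), fun i j => ?_⟩
  have key : ∀ a c : Fin (Module.finrank F W' + 1),
      h ((Fin.cons u₁ (fun k => (b' k : W)) : Fin (_ + 1) → W) a)
        ((Fin.cons u₁ (fun k => (b' k : W)) : Fin (_ + 1) → W) c) = if a = c then 1 else 0 := by
    refine Fin.cases (Fin.cases (by simpa using hu₁) fun c => ?_) fun a => Fin.cases ?_ fun c => ?_
    · simpa [(Fin.succ_ne_zero c).symm, hs u₁] using (mem _).1 (b' c).2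
    · simpa [Fin.succ_ne_zero a] using (mem _).1 (b' a).2
    · simpa [Fin.succ_inj] using hb' a c
  rw [key]
  simp
termination_by Module.finrank F W
decreasing_by omega

section invol

variable {V : Type*} [AddCommGroup V] [Module F V] [FiniteDimensional F V] {f : LinearMap.BilinForm F V}
variable {N : Module.End F V}

omit [Finite F] in
theorem pair_symm (hA : LinearMap.IsAlt f) (u v : V) : f u v = f v u := by
  rw [alt_swap hA v u, CharTwo.neg_eq]

omit [Finite F] in
/-- Normal form: an isotropic family `x` with prescribed Gram matrix `f (N x_i) x_j`. -/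
theorem exists_isotropic (hA : LinearMap.IsAlt f) (hN : ∀ u v, f (N u) v = f u (N v)) (hN2 : ∀ u, N (N u) = 0)
    {ι : Type*} [Fintype ι] [LinearOrder ι] (x : ι → V) (G : Matrix ι ι F) (hG : G * G = 1)
    (hx : ∀ i j, f (N (x i)) (x j) = G i j) :
    ∃ x' : ι → V, (∀ i, N (x' i) = N (x i)) ∧ (∀ i j, f (x' i) (x' j) = 0) ∧
      ∀ i j, f (N (x' i)) (x' j) = G i j := by
  classical
  have hyy : ∀ i j, f (N (x i)) (N (x j)) = 0 := fun i j => by rw [hN, hN2, map_zero]
  let z : ι → V := fun j => ∑ l, G j l • N (x l)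
  have hzx : ∀ j k, f (z j) (x k) = if j = k then 1 else 0 := fun j k => by
    have := congrFun (congrFun hG j) k
    simpa [z, map_sum, hx, Matrix.mul_apply, Matrix.one_apply] using this
  have hzz : ∀ j k, f (z j) (z k) = 0 := fun j k => by simp [z, map_sum, hyy]
  have hzy : ∀ j k, f (z j) (N (x k)) = 0 := fun j k => by simp [z, map_sum, hyy]
  have hxz : ∀ j k, f (x k) (z j) = if j = k then 1 else 0 := fun j k => by rw [pair_symm hA, hzx]
  have hNz : ∀ j, N (z j) = 0 := fun j => by simp [z, map_sum, hN2]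
  let c : ι → ι → F := fun i j => if j < i then f (x i) (x j) else 0
  let x' : ι → V := fun i => x i + ∑ j, c i j • z j
  have hNx : ∀ i, N (x' i) = N (x i) := fun i => by simp [x', map_sum, hNz]
  refine ⟨x', hNx, fun i k => ?_, fun i k => ?_⟩
  · have e : f (x' i) (x' k) = f (x i) (x k) + c i k + c k i := by
      simp only [x', map_add, LinearMap.add_apply, map_sum, map_smul, LinearMap.sum_apply, LinearMap.smul_apply,
        smul_eq_mul, hzx, hxz, hzz, mul_ite, mul_one, mul_zero, Finset.sum_const_zero, Finset.sum_ite_eq',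
        Finset.mem_univ, if_true, add_zero]
    rw [e]
    rcases lt_trichotomy i k with hlt | rfl | hgt
    · simp [c, hlt, not_lt.2 hlt.le, pair_symm hA (x k) (x i), CharTwo.add_self_eq_zero]
    · simp [c, hA (x i)]
    · simp [c, hgt, not_lt.2 hgt.le, CharTwo.add_self_eq_zero]
  · rw [hNx, show x' k = x k + ∑ j, c k j • z j from rfl, map_add, hx]
    simp [map_sum, pair_symm hA (N (x i)), hzy]

omit [Finite F] in
/-- Involutions with the same Gram data are conjugate. -/
theorem exists_intertwine {N' : Module.End F V} (hA : LinearMap.IsAlt f) (hf : LinearMap.Nondegenerate f)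
    (hN : ∀ u v, f (N u) v = f u (N v)) (hN2 : ∀ u, N (N u) = 0)
    (hN' : ∀ u v, f (N' u) v = f u (N' v)) (hN2' : ∀ u, N' (N' u) = 0)
    {ι : Type*} [Fintype ι] [LinearOrder ι] (x x' : ι → V) (G : Matrix ι ι F) (hG : G * G = 1)
    (hx : ∀ i j, f (N (x i)) (x j) = G i j) (hx' : ∀ i j, f (N' (x' i)) (x' j) = G i j)
    (hsp : ∀ v, ∃ c : ι → F, N v = ∑ i, c i • N (x i))
    (hsp' : ∀ v, ∃ c : ι → F, N' v = ∑ i, c i • N' (x' i))
    (witt : ∀ (X : Submodule F V) (φ : X →ₗ[F] V), Function.Injective φ →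
      (∀ a b, f (φ a) (φ b) = f (a : V) (b : V)) → ∃ g : V ≃ₗ[F] V, (∀ u v, f (g u) (g v) = f u v) ∧ ∀ a : X, g a = φ a) :
    ∃ g : V ≃ₗ[F] V, (∀ u v, f (g u) (g v) = f u v) ∧ ∀ v, g (N v) = N' (g v) := by
  classical
  obtain ⟨u, hNu, huu, hu⟩ := exists_isotropic hA hN hN2 x G hG hx
  obtain ⟨u', hNu', huu', hu'⟩ := exists_isotropic hA hN' hN2' x' G hG hx'
  have hli : ∀ (M : Module.End F V), (∀ u v, f (M u) v = f u (M v)) → (∀ u, M (M u) = 0) → ∀ w : ι → V,
      (∀ i j, f (M (w i)) (w j) = G i j) → (∀ i j, f (w i) (w j) = 0) →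
      LinearIndependent F (Sum.elim w fun i => M (w i)) ∧
        ∀ s t, f (Sum.elim w (fun i => M (w i)) s) (Sum.elim w (fun i => M (w i)) t) =
          Matrix.fromBlocks (0 : Matrix ι ι F) G.transpose G 0 s t := by
    intro M hM hM2 w hw hww
    have hgram : ∀ s t, f (Sum.elim w (fun i => M (w i)) s) (Sum.elim w (fun i => M (w i)) t) =
        Matrix.fromBlocks (0 : Matrix ι ι F) G.transpose G 0 s t := by
      rintro (i | i) (j | j)
      · simp [hww]
      · simp [pair_symm hA (w i), hw]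
      · simp [hw]
      · simp [hM (w i) (M (w j)), hM2]
    refine ⟨li_of_gram f _ (Matrix.fromBlocks (0 : Matrix ι ι F) G.transpose G 0) ?_ hgram, hgram⟩
    have hGt : G.transpose = G := by
      ext i j
      rw [Matrix.transpose_apply, ← hw j i, ← hw i j, hM (w j) (w i), pair_symm hA]
    rw [hGt, Matrix.fromBlocks_multiply]
    simp [hG]
  obtain ⟨hl, hg⟩ := hli N hN hN2 u hu huu
  obtain ⟨hl', hg'⟩ := hli N' hN' hN2' u' hu' huu'
  let b := Module.Basis.span hl
  let φ := b.constr F (Sum.elim u' fun i => N' (u' i))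
  have hφb : ∀ s, φ (b s) = Sum.elim u' (fun i => N' (u' i)) s := fun s => b.constr_basis F _ s
  have hinj : Function.Injective φ := by
    rw [← LinearMap.ker_eq_bot, LinearMap.ker_eq_bot']
    intro w hw
    rw [← b.sum_repr w, map_sum] at hw
    simp only [map_smul, hφb] at hw
    have := Fintype.linearIndependent_iff.1 hl' _ hw
    rw [← b.sum_repr w]
    exact Finset.sum_eq_zero fun i _ => by rw [this i, zero_smul]
  have hpres : ∀ a c, f (φ a) (φ c) = f (a : V) (c : V) := by
    intro a c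
    have h : f.compl₁₂ φ φ = f.compl₁₂ (Submodule.span F (Set.range (Sum.elim u fun i => N (u i)))).subtype
        (Submodule.span F (Set.range (Sum.elim u fun i => N (u i)))).subtype :=
      LinearMap.ext_basis b b fun s t => by
        rw [LinearMap.compl₁₂_apply, LinearMap.compl₁₂_apply, hφb, hφb, hg']
        simp only [Submodule.subtype_apply, b, Module.Basis.span_apply, hg]
    exact congrArg (fun k => k a c) h
  obtain ⟨g, hgf, hgφ⟩ := witt _ φ hinj hpres
  have hgu : ∀ i, g (u i) = u' i ∧ g (N (u i)) = N' (u' i) := fun i => by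
    have h1 := hgφ (b (.inl i))
    have h2 := hgφ (b (.inr i))
    rw [hφb, Module.Basis.span_apply] at h1 h2
    exact ⟨h1, h2⟩
  refine ⟨g, hgf, fun v => ?_⟩
  have hcoef : ∀ (M : Module.End F V), (∀ u v, f (M u) v = f u (M v)) → ∀ (w : ι → V),
      (∀ i j, f (M (w i)) (w j) = G i j) → ∀ (v : V) (c : ι → F), M v = ∑ i, c i • M (w i) →
      ∀ l, c l = ∑ j, f v (M (w j)) * G j l := by
    intro M hM w hw v c hc l
    have h1 : ∀ j, f v (M (w j)) = Matrix.vecMul c G j := fun j => by
      rw [← hM, hc]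
      simp [map_sum, hw, Matrix.vecMul, dotProduct]
    have h2 := congrFun (show Matrix.vecMul (Matrix.vecMul c G) G = c by
      rw [Matrix.vecMul_vecMul, hG, Matrix.vecMul_one]) l
    rw [← h2]
    simp [Matrix.vecMul, dotProduct, h1]
  obtain ⟨c, hc⟩ := hsp v
  obtain ⟨c', hc'⟩ := hsp' (g v)
  simp only [← hNu] at hc
  simp only [← hNu'] at hc'
  have hcc : c' = c := funext fun l => by
    rw [hcoef N hN u hu v c hc l, hcoef N' hN' u' hu' (g v) c' hc' l]
    exact Finset.sum_congr rfl fun j _ => by rw [← (hgu j).2, hgf]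
  rw [hc, hc', hcc, map_sum]
  exact Finset.sum_congr rfl fun i _ => by rw [map_smul, (hgu i).2]

/-- Gram data of an involution: orthonormal in the non-alternate case, symplectic in the alternate case. -/
theorem exists_data (hA : LinearMap.IsAlt f) (hf : LinearMap.Nondegenerate f)
    (hN : ∀ u v, f (N u) v = f u (N v)) (r : ℕ) (hr : Module.finrank F (LinearMap.range N) = r) :
    ((∃ v, f (N v) v ≠ 0) → ∃ x : Fin r → V, (∀ i j, f (N (x i)) (x j) = if i = j then 1 else 0) ∧
        ∀ v, ∃ c : Fin r → F, N v = ∑ i, c i • N (x i)) ∧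
    ((∀ v, f (N v) v = 0) → ∃ (k : ℕ) (x : Fin k ⊕ Fin k → V), r = k + k ∧
        (∀ i j, f (N (x i)) (x j) = Matrix.fromBlocks (0 : Matrix (Fin k) (Fin k) F) 1 1 0 i j) ∧
        ∀ v, ∃ c : Fin k ⊕ Fin k → F, N v = ∑ i, c i • N (x i)) := by
  classical
  obtain ⟨X, hX⟩ := Submodule.exists_isCompl (LinearMap.ker N)
  let h : LinearMap.BilinForm F X := f.compl₁₂ (N ∘ₗ X.subtype) X.subtype
  have hh : ∀ a b : X, h a b = f (N a) (b : V) := fun a b => rfl
  have hNX : ∀ v, ∃ w : X, N v = N w := fun v => by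
    have hv : v ∈ LinearMap.ker N ⊔ X := by rw [hX.sup_eq_top]; exact Submodule.mem_top
    obtain ⟨k, hk, w, hw, rfl⟩ := Submodule.mem_sup.1 hv
    exact ⟨⟨w, hw⟩, by rw [map_add, LinearMap.mem_ker.1 hk, zero_add]⟩
  have hs : ∀ a b, h a b = h b a := fun a b => by rw [hh, hh, hN, pair_symm hA]
  have hn : ∀ a, (∀ b, h a b = 0) → a = 0 := by
    intro a ha
    have h0 : N a = 0 := hf.1 _ fun v => by
      obtain ⟨w, hw⟩ := hNX v
      rw [hN, hw, ← hN]
      exact ha w
    have : (a : V) ∈ LinearMap.ker N ⊓ X := ⟨LinearMap.mem_ker.2 h0, a.2⟩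
    rw [hX.inf_eq_bot, Submodule.mem_bot] at this
    exact Subtype.ext this
  have hdim : Module.finrank F X = r := by
    have h1 := Submodule.finrank_add_eq_of_isCompl hX
    have h2 := N.finrank_range_add_finrank_ker
    omega
  have span : ∀ {ι : Type} [Fintype ι] (b : Module.Basis ι F X) (v : V),
      ∃ c : ι → F, N v = ∑ i, c i • N (b i : V) := by
    intro ι _ b v
    obtain ⟨w, hw⟩ := hNX v
    refine ⟨fun i => b.repr w i, ?_⟩
    rw [hw]
    conv_lhs => rw [← b.sum_repr w, Submodule.coe_sum, map_sum]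
    simp only [Submodule.coe_smul, map_smul]
  refine ⟨fun ⟨v, hv⟩ => ?_, fun hall => ?_⟩
  · obtain ⟨w, hw⟩ := hNX v
    obtain ⟨b, hb⟩ := exists_orthonormal h hs hn ⟨w, by
      rw [hh]
      intro h0
      refine hv ?_
      rw [hw, ← h0, hN, hw, ← hN]⟩
    have hli := li_of_gram h b 1 (mul_one _) fun i j => by rw [hb, Matrix.one_apply]
    let bb := basisOfLinearIndependentOfCardEqFinrank' b hli (by simp)
    obtain ⟨x, hx⟩ : ∃ x : Fin r → X, (∀ i j, h (x i) (x j) = if i = j then 1 else 0) ∧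
        ∀ v, ∃ c : Fin r → F, N v = ∑ i, c i • N (x i : V) := by
      refine ⟨fun i => b (Fin.cast hdim.symm i), fun i j => by rw [hb]; simp, fun v => ?_⟩
      obtain ⟨c, hc⟩ := span (bb.reindex (finCongr hdim)) v
      refine ⟨c, hc.trans (Finset.sum_congr rfl fun i _ => ?_)⟩
      simp [bb, finCongr]
    exact ⟨fun i => (x i : V), hx.1, hx.2⟩
  · have halt : LinearMap.IsAlt h := fun a => hall a
    have hnd : LinearMap.Nondegenerate h := ⟨hn, fun b hb => hn b fun a => by rw [hs]; exact hb a⟩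
    obtain ⟨k, b, h1, h2, h3⟩ := exists_symplectic_basis_nondeg halt hnd
    refine ⟨k, fun i => (b i : V), by rw [← hdim, Module.finrank_eq_card_basis b]; simp, ?_, span b⟩
    rintro (i | i) (j | j) <;> rw [← hh]
    · simp [h2]
    · simp [h1, Matrix.one_apply]
    · simp [hs (b (.inr i)), h1, Matrix.one_apply, eq_comm]
    · simp [h3]

end invol

end Cfsg.Agent.FormsLib.SpInvolTwo
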