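import Cfsg.Agent.Lib.Forms.UnipotentForms
import Cfsg.Agent.S2570

/-!
Regular unipotent elements of symplectic groups in odd characteristic: one block, its forms and its centraliser.
-/

set_option autoImplicit false
set_option linter.unusedSectionVars false
set_option maxHeartbeats 1000000

namespace Cfsg.Agent.SpRegular

open scoped Matrix
open Cfsg.Agent.JordanType Cfsg.Agent.S2581 Cfsg.Agent.UnipotentForms
open Cfsg.Agent.UnipotentCentralizer (block)

variable {K : Type*} [Field K] [Fintype K]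

/-- The type with one block. -/
abbrev one1 (n : ℕ) : Fin 1 → ℕ := fun _ => n

variable {n : ℕ} (hn : 1 ≤ n)

/-- The first position. -/
abbrev p0 : Idx (one1 n) := ⟨0, ⟨0, hn⟩⟩

/-- The only size index. -/
abbrev i0 : Fin (Finset.univ.sup (one1 n) + 1) := idx (d := one1 n) 0

omit [Fintype K] in
theorem eq_of_proj {X Y : Matrix (KB (one1 n) i0) (KB (one1 n) i0) K}
    (h : X ⟨0, rfl⟩ ⟨0, rfl⟩ = Y ⟨0, rfl⟩ ⟨0, rfl⟩) : X = Y := by
  ext ⟨k, hk⟩ ⟨l, hl⟩
  obtain rfl : k = 0 := Subsingleton.elim _ _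
  obtain rfl : l = 0 := Subsingleton.elim _ _
  exact h

theorem isUnit_of_corner {X : Matrix (Idx (one1 n)) (Idx (one1 n)) K} (hX : Commute (shift K (one1 n)) X)
    (h : X (p0 hn) (p0 hn) ≠ 0) : IsUnit X := by
  refine isUnit_of_proj (d := one1 n) (fun _ => hn) hX fun i => ?_
  by_cases hi : i = i0
  · subst hi
    rw [Matrix.isUnit_iff_isUnit_det]
    letI : Unique (KB (one1 n) (i0 (n := n))) := ⟨⟨⟨0, rfl⟩⟩, fun ⟨k, hk⟩ => Subtype.ext (Subsingleton.elim _ _)⟩
    rw [Matrix.det_unique, isUnit_iff_ne_zero]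
    exact h
  · haveI : IsEmpty (KB (one1 n) i) := ⟨fun k => hi (Fin.ext k.2.symm)⟩
    exact ⟨1, Subsingleton.elim _ _⟩

omit [Fintype K] in
theorem corner_mul {X Y : Matrix (Idx (one1 n)) (Idx (one1 n)) K} (hX : Commute (shift K (one1 n)) X)
    (hY : Commute (shift K (one1 n)) Y) :
    (X * Y) (p0 hn) (p0 hn) = X (p0 hn) (p0 hn) * Y (p0 hn) (p0 hn) := by
  have h := congrFun (congrFun (proj_mul (d := one1 n) (fun _ => hn) hX hY i0) ⟨0, rfl⟩) ⟨0, rfl⟩
  letI : Unique (KB (one1 n) (i0 (n := n))) := ⟨⟨⟨0, rfl⟩⟩, fun ⟨k, hk⟩ => Subtype.ext (Subsingleton.elim _ _)⟩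
  rw [Matrix.mul_apply, Fintype.sum_unique] at h
  exact h

omit [Fintype K] in
theorem shift_corner : shift K (one1 n) (p0 hn) (p0 hn) = 0 := by
  rw [shift_apply, if_neg]
  simp

variable (h2 : (2 : K) ≠ 0)

variable (K n) in
/-- The matrix `2 + S`. -/
noncomputable def base : Matrix (Idx (one1 n)) (Idx (one1 n)) K := (2 : K) • 1 + shift K (one1 n)

omit [Fintype K] in
theorem base_commute : Commute (shift K (one1 n)) (base K n) :=
  ((Commute.one_right _).smul_right (2 : K)).add_right (Commute.refl _)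

include hn h2 in
theorem base_isUnit : IsUnit (base K n) := by
  refine isUnit_of_corner hn base_commute ?_
  simp [base, shift_corner hn, Matrix.one_apply, h2]

variable (K n) in
/-- The odd parameter `S / (2 + S)`. -/
noncomputable def oddT : Matrix (Idx (one1 n)) (Idx (one1 n)) K := shift K (one1 n) * (base K n)⁻¹

include hn h2 in
theorem base_inv_commute : Commute (shift K (one1 n)) (base K n)⁻¹ := by
  have hu := (Matrix.isUnit_iff_isUnit_det _).1 (base_isUnit hn h2)
  show shift K (one1 n) * _ = _ * shift K (one1 n)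
  calc shift K (one1 n) * (base K n)⁻¹
      = (base K n)⁻¹ * (base K n * shift K (one1 n)) * (base K n)⁻¹ := by
        rw [← mul_assoc, Matrix.nonsing_inv_mul _ hu, one_mul]
    _ = (base K n)⁻¹ * shift K (one1 n) := by
        rw [← base_commute.eq, mul_assoc, mul_assoc, Matrix.mul_nonsing_inv _ hu, mul_one]

include hn h2 in
theorem oddT_commute : Commute (shift K (one1 n)) (oddT K n) :=
  (Commute.refl _).mul_right (base_inv_commute hn h2)

include hn h2 in
theorem oddT_mul_base : oddT K n * base K n = shift K (one1 n) := by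
  rw [oddT, mul_assoc, Matrix.nonsing_inv_mul _ ((Matrix.isUnit_iff_isUnit_det _).1 (base_isUnit hn h2)), mul_one]

include h2 in
theorem oddT_pow_col (i : ℕ) (r : ℕ) (hr : r < n) :
    (r < i → (oddT K n ^ i) ⟨0, ⟨r, hr⟩⟩ (p0 hn) = 0) ∧
      (r = i → (oddT K n ^ i) ⟨0, ⟨r, hr⟩⟩ (p0 hn) ≠ 0) := by
  have hW : ∀ i : ℕ, ((base K n)⁻¹ ^ i) (p0 hn) (p0 hn) ≠ 0 := by
    intro i h0
    have h := corner_mul hn ((base_inv_commute hn h2).pow_right i) ((base_commute (K := K) (n := n)).pow_right i)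
    rw [h0, zero_mul, ← (show Commute (base K n)⁻¹ (base K n) from
      (Matrix.nonsing_inv_mul _ ((Matrix.isUnit_iff_isUnit_det _).1 (base_isUnit hn h2))).trans
        (Matrix.mul_nonsing_inv _ ((Matrix.isUnit_iff_isUnit_det _).1 (base_isUnit hn h2))).symm).mul_pow,
      Matrix.nonsing_inv_mul _ ((Matrix.isUnit_iff_isUnit_det _).1 (base_isUnit hn h2)), one_pow,
      Matrix.one_apply_eq] at h
    exact one_ne_zero h
  have key : (oddT K n ^ i) ⟨0, ⟨r, hr⟩⟩ (p0 hn) =
      if h : i ≤ r then ((base K n)⁻¹ ^ i) ⟨0, ⟨r - i, by show r - i < n; omega⟩⟩ (p0 hn) else 0 := by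
    rw [oddT, (base_inv_commute hn h2).mul_pow, Matrix.mul_apply]
    split_ifs with h
    · rw [Finset.sum_eq_single (⟨0, ⟨r - i, by show r - i < n; omega⟩⟩ : Idx (one1 n))]
      · rw [shift_pow_apply, if_pos ⟨rfl, by simp only; omega⟩, one_mul]
      · intro c _ hc
        rw [shift_pow_apply, if_neg, zero_mul]
        rintro ⟨-, e⟩
        obtain ⟨k, s⟩ := c
        obtain rfl : k = 0 := Subsingleton.elim _ _
        exact hc (congrArg (Sigma.mk _) (Fin.ext (by simp only at e ⊢; omega)))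
      · simp
    · refine Finset.sum_eq_zero fun c _ => ?_
      rw [shift_pow_apply, if_neg, zero_mul]
      rintro ⟨-, e⟩
      simp only at e
      omega
  refine ⟨fun h => by rw [key, dif_neg (by omega)], fun h => ?_⟩
  rw [key, dif_pos h.ge]
  subst h
  have e : (⟨r - r, by omega⟩ : Fin n) = ⟨0, hn⟩ := Fin.ext (Nat.sub_self r)
  rw [e]
  exact hW r

variable (K n) in
/-- The combinations of powers of the odd parameter. -/
noncomputable def comb (c : Fin n → K) : Matrix (Idx (one1 n)) (Idx (one1 n)) K :=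
  ∑ i : Fin n, c i • oddT K n ^ (i : ℕ)

omit [Fintype K] in
theorem comb_sub (c c' : Fin n → K) : comb K n (c - c') = comb K n c - comb K n c' := by
  simp [comb, sub_smul, Finset.sum_sub_distrib]

omit [Fintype K] in
theorem comb_commute_comb (c c' : Fin n → K) : Commute (comb K n c) (comb K n c') :=
  Commute.sum_left _ _ _ fun i _ => Commute.sum_right _ _ _ fun j _ =>
    (((Commute.refl (oddT K n)).pow_pow (i : ℕ) (j : ℕ)).smul_left (c i)).smul_right (c' j)

include hn h2 in
theorem comb_commute (c : Fin n → K) : Commute (shift K (one1 n)) (comb K n c) :=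
  Commute.sum_right _ _ _ fun i _ => ((oddT_commute hn h2).pow_right (i : ℕ)).smul_right (c i)

include hn h2 in
theorem comb_eq_zero {c : Fin n → K} (h : comb K n c = 0) : c = 0 := by
  suffices H : ∀ (r : ℕ) (hr : r < n), c ⟨r, hr⟩ = 0 from funext fun i => H i.1 i.2
  intro r
  induction r using Nat.strong_induction_on with
  | _ r ih =>
  intro hr
  have h1 := congrFun (congrFun h ⟨0, ⟨r, hr⟩⟩) (p0 hn)
  rw [comb, Matrix.sum_apply, Matrix.zero_apply, Finset.sum_eq_single (⟨r, hr⟩ : Fin n)] at h1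
  · rw [Matrix.smul_apply, smul_eq_mul] at h1
    exact (mul_eq_zero.1 h1).resolve_right ((oddT_pow_col hn h2 r r hr).2 rfl)
  · intro i _ hi
    rcases lt_or_gt_of_ne (fun e => hi (Fin.ext e) : (i : ℕ) ≠ r) with hlt | hgt
    · rw [ih i hlt i.2, zero_smul, Matrix.zero_apply]
    · rw [Matrix.smul_apply, (oddT_pow_col hn h2 i r hr).1 hgt, smul_zero]
  · simp

include hn h2 in
theorem comb_injective : Function.Injective (comb K n) := fun c c' h =>
  sub_eq_zero.1 (comb_eq_zero hn h2 (by rw [comb_sub, h, sub_self]))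

include hn h2 in
theorem exists_comb {X : Matrix (Idx (one1 n)) (Idx (one1 n)) K} (hX : Commute (shift K (one1 n)) X) :
    ∃ c, comb K n c = X := by
  classical
  let col : {X : Matrix (Idx (one1 n)) (Idx (one1 n)) K // Commute (shift K (one1 n)) X} → (Fin n → K) :=
    fun X r => X.1 ⟨0, r⟩ (p0 hn)
  have hcol : Function.Injective col := by
    rintro ⟨X, hX⟩ ⟨Y, hY⟩ h
    refine Subtype.ext (Matrix.ext fun a b => ?_)
    show X a b = Y a b
    rw [apply_of_commute (d := one1 n) (fun _ => hn) hX _ a b rfl,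
      apply_of_commute (d := one1 n) (fun _ => hn) hY _ a b rfl]
    split_ifs with hab
    · obtain ⟨k, s⟩ := a
      obtain ⟨l, s'⟩ := b
      obtain rfl : k = 0 := Subsingleton.elim _ _
      obtain rfl : l = 0 := Subsingleton.elim _ _
      exact congrFun h _
    · rfl
  let ev : (Fin n → K) → {X : Matrix (Idx (one1 n)) (Idx (one1 n)) K // Commute (shift K (one1 n)) X} :=
    fun c => ⟨comb K n c, comb_commute hn h2 c⟩
  have hev : Function.Injective ev := fun c c' h => comb_injective hn h2 (congrArg Subtype.val h)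
  obtain ⟨c, hc⟩ := (Finite.injective_iff_surjective.1 (hcol.comp hev)) (col ⟨X, hX⟩)
  exact ⟨c, congrArg Subtype.val (hcol hc)⟩

include hn h2 in
theorem commute_all {X Y : Matrix (Idx (one1 n)) (Idx (one1 n)) K} (hX : Commute (shift K (one1 n)) X)
    (hY : Commute (shift K (one1 n)) Y) : Commute X Y := by
  obtain ⟨c, rfl⟩ := exists_comb hn h2 hX
  obtain ⟨c', rfl⟩ := exists_comb hn h2 hY
  exact comb_commute_comb c c'

include hn h2 in
theorem comb_corner (c : Fin n → K) : comb K n c (p0 hn) (p0 hn) = c ⟨0, hn⟩ := by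
  rw [comb, Matrix.sum_apply, Finset.sum_eq_single (⟨0, hn⟩ : Fin n)]
  · simp
  · intro i _ hi
    have : (0 : ℕ) < i := Nat.pos_of_ne_zero fun e => hi (Fin.ext e)
    rw [Matrix.smul_apply, (oddT_pow_col hn h2 i 0 hn).1 this, smul_zero]
  · simp

section Form

variable {G : Matrix (Idx (one1 n)) (Idx (one1 n)) K}
  (hJ : (1 + (shift K (one1 n))ᵀ) * G * (1 + shift K (one1 n)) = G) (hu : IsUnit G)

include hn h2 hJ in
theorem oddT_skew : (oddT K n)ᵀ * G = -(G * oddT K n) := by
  set S := shift K (one1 n)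
  set T := oddT K n
  have hT : T * base K n = S := oddT_mul_base hn h2
  have hB := base_isUnit (K := K) hn h2
  have hcT : base K n * T = S := by
    rw [← hT]
    exact (commute_all hn h2 base_commute (oddT_commute hn h2)).eq
  rw [eq_neg_iff_add_eq_zero]
  refine ((Matrix.isUnit_transpose _).2 hB).mul_left_cancel (hB.mul_right_cancel ?_)
  have hTt : (base K n)ᵀ * Tᵀ = Sᵀ := by rw [← Matrix.transpose_mul, hT]
  have hz : Sᵀ * G + G * S + Sᵀ * G * S = 0 := by
    have : Sᵀ * G + G * S + Sᵀ * G * S + G = G := by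
      refine Eq.trans ?_ hJ
      noncomm_ring
    exact add_eq_right.1 this
  rw [mul_zero, zero_mul, mul_add, ← mul_assoc, hTt, add_mul, mul_assoc, mul_assoc _ _ (base K n), mul_assoc G T,
    hT]
  rw [show base K n = (2 : K) • 1 + S from rfl]
  simp only [Matrix.transpose_add, Matrix.transpose_smul, Matrix.transpose_one, add_mul, mul_add,
    Matrix.smul_mul, Matrix.mul_smul, one_mul, mul_one]
  have hz2 := congrArg (fun X => (2 : K) • X) hz
  simp only [smul_zero, smul_add, mul_assoc] at hz2 ⊢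
  linear_combination (norm := module) hz2

include hn h2 hJ in
theorem oddT_pow_skew (i : ℕ) : (oddT K n ^ i)ᵀ * G = (-1 : K) ^ i • (G * oddT K n ^ i) := by
  induction i with
  | zero => simp
  | succ i ih =>
    rw [pow_succ, Matrix.transpose_mul, mul_assoc, ih, Matrix.mul_smul, ← mul_assoc, oddT_skew hn h2 hJ, pow_succ,
      mul_neg_one, neg_smul, Matrix.neg_mul, smul_neg, mul_assoc, (Commute.self_pow (oddT K n) i).eq]

include hn h2 hJ hu in
theorem comb_skew_iff (c : Fin n → K) :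
    (comb K n c)ᵀ * G + G * comb K n c = 0 ↔ ∀ i : Fin n, Even (i : ℕ) → c i = 0 := by
  have e : (comb K n c)ᵀ * G + G * comb K n c = G * comb K n fun i : Fin n => ((-1 : K) ^ (i : ℕ) + 1) * c i := by
    simp only [comb, Matrix.transpose_sum, Matrix.sum_mul, Matrix.mul_sum, ← Finset.sum_add_distrib]
    refine Finset.sum_congr rfl fun i _ => ?_
    rw [Matrix.transpose_smul, Matrix.smul_mul, oddT_pow_skew hn h2 hJ, Matrix.mul_smul, Matrix.mul_smul,
      smul_smul, ← add_smul]
    congr 1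
    ring
  rw [e]
  constructor
  · intro h i hi
    have h1 := congrFun (comb_eq_zero hn h2 (hu.mul_right_eq_zero.1 h)) i
    rw [hi.neg_one_pow, Pi.zero_apply] at h1
    exact (mul_eq_zero.1 h1).resolve_left (by rw [one_add_one_eq_two]; exact h2)
  · intro h
    rw [show (fun i : Fin n => ((-1 : K) ^ (i : ℕ) + 1) * c i) = 0 from funext fun i => ?_]
    · simp [comb]
    · rcases Nat.even_or_odd (i : ℕ) with hi | hi
      · rw [h i hi, mul_zero]; rfl
      · rw [hi.neg_one_pow, neg_add_cancel, zero_mul]; rfl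

variable (hG : Alt G)

include hn h2 hJ hu hG in
theorem corner_sq {X : Matrix (Idx (one1 n)) (Idx (one1 n)) K} (hX : Commute (shift K (one1 n)) X)
    (hXG : Xᵀ * G * X = G) : X (p0 hn) (p0 hn) = 1 ∨ X (p0 hn) (p0 hn) = -1 := by
  have h := congrFun (congrFun (block_transform (d := one1 n) (fun _ => hn) hJ hG.sym hu hX i0) ⟨0, rfl⟩) ⟨0, rfl⟩
  letI : Unique (KB (one1 n) (i0 (n := n))) := ⟨⟨⟨0, rfl⟩⟩, fun ⟨k, hk⟩ => Subtype.ext (Subsingleton.elim _ _)⟩
  rw [hXG, Matrix.mul_apply, Fintype.sum_unique, Matrix.mul_apply, Fintype.sum_unique, Matrix.transpose_apply] at h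
  have hb : block (d := one1 n) (fun _ => hn) G i0 ⟨0, rfl⟩ ⟨0, rfl⟩ ≠ 0 := by
    have h1 := (Matrix.isUnit_iff_isUnit_det _).1 (block_isUnit (d := one1 n) (fun _ => hn) hJ hG.sym hu i0)
    rw [Matrix.det_unique] at h1
    exact h1.ne_zero
  set x := X (p0 hn) (p0 hn)
  set bb := block (d := one1 n) (fun _ => hn) G i0 ⟨0, rfl⟩ ⟨0, rfl⟩
  have h' : bb = x * bb * x := h
  exact mul_self_eq_one_iff.1 (mul_right_cancel₀ hb (by rw [one_mul]; linear_combination -h'))

/-- The isometries of the form in the commutant. -/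
abbrev Cent (G : Matrix (Idx (one1 n)) (Idx (one1 n)) K) :=
  {X : Matrix (Idx (one1 n)) (Idx (one1 n)) K // Commute (shift K (one1 n)) X ∧ Xᵀ * G * X = G}

include hn h2 hJ hu hG in
/-- The centraliser is parametrised by a sign and an odd series. -/
theorem card_cent {m : ℕ} (hm : n = m + m) : Nat.card (Cent G) = 2 * Fintype.card K ^ m := by
  classical
  let C := {c : Fin n → K // ∀ i : Fin n, Even (i : ℕ) → c i = 0}
  have hC : Nat.card C = Fintype.card K ^ m := by
    let odd : Fin m → Fin n := fun k => ⟨2 * k.1 + 1, by omega⟩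
    rw [← Fintype.card_fin m, ← Fintype.card_fun, ← Nat.card_eq_fintype_card]
    refine Nat.card_eq_of_bijective (fun c k => c.1 (odd k)) ⟨?_, fun v => ?_⟩
    · rintro ⟨c, hc⟩ ⟨c', hc'⟩ h
      refine Subtype.ext (funext fun i => ?_)
      show c i = c' i
      rcases Nat.even_or_odd (i : ℕ) with hi | ⟨k, hk⟩
      · rw [hc i hi, hc' i hi]
      · have hik := i.2
        have := congrFun h (⟨k, by omega⟩ : Fin m)
        change c (odd ⟨k, by omega⟩) = c' (odd ⟨k, by omega⟩) at this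
        rwa [show odd (⟨k, by omega⟩ : Fin m) = i from Fin.ext hk.symm] at this
    · refine ⟨⟨fun i => if h : Odd (i : ℕ) then v ⟨(i : ℕ) / 2, by omega⟩ else 0,
        fun i hi => dif_neg (Nat.not_odd_iff_even.2 hi)⟩, funext fun k => ?_⟩
      show dite _ _ _ = v k
      rw [dif_pos ⟨k.1, rfl⟩]
      congr 1
      exact Fin.ext (show (2 * k.1 + 1) / 2 = k.1 by omega)
  let Y : C → Matrix (Idx (one1 n)) (Idx (one1 n)) K := fun c => comb K n c.1
  have hYc : ∀ c, Commute (shift K (one1 n)) (Y c) := fun c => comb_commute hn h2 c.1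
  have hY0 : ∀ c, Y c (p0 hn) (p0 hn) = 0 := fun c => by
    show comb K n c.1 (p0 hn) (p0 hn) = 0
    rw [comb_corner hn h2, c.2 _ (by simp)]
  have hm1 : ∀ c, IsUnit (1 - Y c) := fun c => isUnit_of_corner hn ((Commute.one_right _).sub_right (hYc c)) (by
    rw [Matrix.sub_apply, Matrix.one_apply_eq, hY0, sub_zero]; exact one_ne_zero)
  have hYG : ∀ c, (Y c)ᵀ * G = -(G * Y c) := fun c =>
    eq_neg_iff_add_eq_zero.2 ((comb_skew_iff hn h2 hJ hu c.1).2 c.2)
  let sg : Bool → K := fun b => if b then 1 else -1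
  let Φ : Bool × C → Matrix (Idx (one1 n)) (Idx (one1 n)) K := fun p =>
    sg p.1 • ((1 + Y p.2) * (1 - Y p.2)⁻¹)
  have hdiv : ∀ c, (1 + Y c) * (1 - Y c)⁻¹ * (1 - Y c) = 1 + Y c := fun c => by
    rw [mul_assoc, Matrix.nonsing_inv_mul _ ((Matrix.isUnit_iff_isUnit_det _).1 (hm1 c)), mul_one]
  have hcom : ∀ c, Commute (shift K (one1 n)) ((1 + Y c) * (1 - Y c)⁻¹) := fun c => by
    refine ((Commute.one_right _).add_right (hYc c)).mul_right ?_
    have hu1 := (Matrix.isUnit_iff_isUnit_det _).1 (hm1 c)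
    have h1 : Commute (shift K (one1 n)) (1 - Y c) := (Commute.one_right _).sub_right (hYc c)
    show _ * _ = _ * _
    calc shift K (one1 n) * (1 - Y c)⁻¹
        = (1 - Y c)⁻¹ * ((1 - Y c) * shift K (one1 n)) * (1 - Y c)⁻¹ := by
          rw [← mul_assoc, Matrix.nonsing_inv_mul _ hu1, one_mul]
      _ = (1 - Y c)⁻¹ * shift K (one1 n) := by
          rw [← h1.eq, mul_assoc, mul_assoc, Matrix.mul_nonsing_inv _ hu1, mul_one]
  have hmem : ∀ p, Commute (shift K (one1 n)) (Φ p) ∧ (Φ p)ᵀ * G * Φ p = G := by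
    rintro ⟨b, c⟩
    refine ⟨(hcom c).smul_right _, ?_⟩
    have hs : sg b * sg b = 1 := by cases b <;> simp [sg]
    show (sg b • ((1 + Y c) * (1 - Y c)⁻¹))ᵀ * G * (sg b • ((1 + Y c) * (1 - Y c)⁻¹)) = G
    rw [Matrix.transpose_smul, Matrix.smul_mul, Matrix.smul_mul, Matrix.mul_smul, smul_smul, hs, one_smul]
    refine ((Matrix.isUnit_transpose _).2 (hm1 c)).mul_left_cancel ((hm1 c).mul_right_cancel ?_)
    set X := (1 + Y c) * (1 - Y c)⁻¹
    calc (1 - Y c)ᵀ * (Xᵀ * G * X) * (1 - Y c) = (X * (1 - Y c))ᵀ * G * (X * (1 - Y c)) := by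
          rw [Matrix.transpose_mul X (1 - Y c)]; simp only [mul_assoc]
      _ = (1 + Y c)ᵀ * G * (1 + Y c) := by rw [hdiv]
      _ = (1 - Y c)ᵀ * G * (1 - Y c) := by
          rw [Matrix.transpose_add, Matrix.transpose_sub, Matrix.transpose_one, add_mul, sub_mul, one_mul, hYG]
          noncomm_ring
  have hcor : ∀ p, Φ p (p0 hn) (p0 hn) = sg p.1 := by
    rintro ⟨b, c⟩
    have h := corner_mul hn (hcom c) ((Commute.one_right _).sub_right (hYc c))
    rw [hdiv, Matrix.add_apply, Matrix.sub_apply, Matrix.one_apply_eq, hY0, add_zero, sub_zero, mul_one] at h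
    show sg b * _ = sg b
    rw [← h, mul_one]
  rw [show 2 * Fintype.card K ^ m = Nat.card (Bool × C) by
    rw [Nat.card_prod, hC, Nat.card_eq_fintype_card, Fintype.card_bool]]
  refine (Nat.card_eq_of_bijective (fun p => (⟨Φ p, hmem p⟩ : Cent G)) ⟨?_, ?_⟩).symm
  · rintro ⟨b, c⟩ ⟨b', c'⟩ h
    have h' : Φ (b, c) = Φ (b', c') := congrArg Subtype.val h
    have h1 := hcor (b, c)
    rw [h', hcor] at h1
    obtain rfl : b = b' := by
      cases b <;> cases b' <;> simp [sg] at h1 ⊢
      all_goals first | exact h2 (by linear_combination h1) | exact h2 (by linear_combination -h1)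
    have hsg : sg b ≠ 0 := by cases b <;> simp [sg]
    have h3 : (1 + Y c) * (1 - Y c)⁻¹ = (1 + Y c') * (1 - Y c')⁻¹ := smul_right_injective _ hsg h'
    have hcc : Commute (Y c) (Y c') := comb_commute_comb _ _
    have h4 : (1 + Y c) * (1 - Y c') = (1 + Y c') * (1 - Y c) := by
      have hsw : Commute (1 - Y c) (1 - Y c') :=
        (Commute.one_left _).sub_left ((Commute.one_right _).sub_right hcc)
      conv_lhs => rw [← hdiv c, mul_assoc _ (1 - Y c), hsw.eq, h3]
      rw [← mul_assoc, hdiv]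
    have h5 : (2 : K) • (Y c - Y c') = 0 := by
      rw [two_smul]
      linear_combination (norm := noncomm_ring) h4 + hcc.eq
    have h6 : Y c - Y c' = 0 := (smul_eq_zero.1 h5).resolve_left h2
    exact congrArg (Prod.mk b) (Subtype.ext (comb_injective hn h2 (sub_eq_zero.1 h6)))
  · rintro ⟨X, hX, hXG⟩
    obtain ⟨b, hb⟩ : ∃ b, sg b = X (p0 hn) (p0 hn) := by
      rcases corner_sq hn h2 hJ hu hG hX hXG with e | e
      · exact ⟨true, e.symm⟩
      · exact ⟨false, e.symm⟩
    set Z := sg b • X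
    have hs : sg b * sg b = 1 := by cases b <;> simp [sg]
    have hZc : Commute (shift K (one1 n)) Z := hX.smul_right _
    have hZG : Zᵀ * G * Z = G := by
      rw [Matrix.transpose_smul, Matrix.smul_mul, Matrix.smul_mul, Matrix.mul_smul, smul_smul, hs, one_smul, hXG]
    have hZ1 : IsUnit (Z + 1) := isUnit_of_corner hn (hZc.add_right (Commute.one_right _)) (by
      rw [Matrix.add_apply, show Z (p0 hn) (p0 hn) = 1 by show sg b * X _ _ = 1; rw [← hb, hs], Matrix.one_apply_eq, one_add_one_eq_two]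
      exact h2)
    set W := (Z - 1) * (Z + 1)⁻¹
    have hWm : W * (Z + 1) = Z - 1 := by
      rw [mul_assoc, Matrix.nonsing_inv_mul _ ((Matrix.isUnit_iff_isUnit_det _).1 hZ1), mul_one]
    have hWc : Commute (shift K (one1 n)) W := by
      refine hZ1.mul_right_cancel ?_
      rw [mul_assoc, hWm, mul_assoc W, (hZc.add_right (Commute.one_right _)).eq, ← mul_assoc, hWm]
      exact (hZc.sub_right (Commute.one_right _)).eq
    obtain ⟨c, hc⟩ := exists_comb hn h2 hWc
    have hodd : ∀ i : Fin n, Even (i : ℕ) → c i = 0 := by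
      rw [← comb_skew_iff hn h2 hJ hu, hc]
      refine ((Matrix.isUnit_transpose _).2 hZ1).mul_left_cancel (hZ1.mul_right_cancel ?_)
      rw [mul_zero, zero_mul, mul_add (Z + 1)ᵀ, add_mul ((Z + 1)ᵀ * _), ← mul_assoc (Z + 1)ᵀ Wᵀ, ← Matrix.transpose_mul,
        mul_assoc ((Z + 1)ᵀ) (G * W), mul_assoc G W, hWm, Matrix.transpose_sub, Matrix.transpose_add,
        Matrix.transpose_one]
      linear_combination (norm := noncomm_ring) hZG + hZG
    refine ⟨(b, ⟨c, hodd⟩), Subtype.ext ?_⟩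
    show sg b • ((1 + Y ⟨c, hodd⟩) * (1 - Y ⟨c, hodd⟩)⁻¹) = X
    have hYW : Y ⟨c, hodd⟩ = W := hc
    have h7 : 1 + Y ⟨c, hodd⟩ = Z * (1 - Y ⟨c, hodd⟩) := by
      rw [hYW]
      refine hZ1.mul_right_cancel ?_
      rw [mul_assoc Z, add_mul, sub_mul, one_mul, hWm]
      noncomm_ring
    rw [h7, mul_assoc, Matrix.mul_nonsing_inv _ ((Matrix.isUnit_iff_isUnit_det _).1 (hm1 _)), mul_one, smul_smul,
      hs, one_smul]

end Form

/-- A regular unipotent symplectic matrix is one block in some coordinates. -/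
theorem exists_coords {m : ℕ} (hm : 1 ≤ m) (u : Matrix.symplecticGroup (Fin m) K)
    (hnil : ((u : Matrix (Fin m ⊕ Fin m) (Fin m ⊕ Fin m) K) - 1) ^ (2 * m) = 0)
    (hreg : ((u : Matrix (Fin m ⊕ Fin m) (Fin m ⊕ Fin m) K) - 1).rank = 2 * m - 1) :
    ∃ (G : Matrix (Idx (one1 (2 * m))) (Idx (one1 (2 * m))) K)
      (M : Matrix (Idx (one1 (2 * m))) (Fin m ⊕ Fin m) K) (N : Matrix (Fin m ⊕ Fin m) (Idx (one1 (2 * m))) K),
      (Alt G ∧ IsUnit G ∧ (1 + (shift K (one1 (2 * m)))ᵀ) * G * (1 + shift K (one1 (2 * m))) = G) ∧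
      M * N = 1 ∧ N * M = 1 ∧ Mᵀ * G * M = Matrix.J (Fin m) K ∧
      (u : Matrix (Fin m ⊕ Fin m) (Fin m ⊕ Fin m) K) = N * Cfsg.jordanTypeMatrix (one1 (2 * m)) K * M := by
  classical
  set A := (u : Matrix (Fin m ⊕ Fin m) (Fin m ⊕ Fin m) K)
  obtain ⟨t, d, σ, P, hdle, hAP⟩ := exists_normal_form A (2 * m) hnil
  have hsum : ∑ k, d k = 2 * m := by
    have h0 := Fintype.card_congr σ
    rw [Fintype.card_sigma, Fintype.card_sum, Fintype.card_fin] at h0
    simp only [Fintype.card_fin] at h0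
    omega
  have hrank : ∑ k, (d k - 1) = 2 * m - 1 := by
    have h1 : A - 1 = (P : Matrix (Fin m ⊕ Fin m) (Fin m ⊕ Fin m) K) *
        Matrix.reindexAlgEquiv K K σ (shift K d) * (P⁻¹ : GL (Fin m ⊕ Fin m) K) := by
      rw [shift, map_sub, map_one, Matrix.coe_reindexAlgEquiv, mul_sub, ← hAP, mul_one, sub_mul,
        Units.mul_inv_cancel_right, Units.mul_inv]
    have h := hreg
    rw [h1, Matrix.rank_mul_eq_left_of_isUnit_det _ _ ((Matrix.isUnit_iff_isUnit_det _).1 (Units.isUnit _)),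
      Matrix.rank_mul_eq_right_of_isUnit_det _ _ ((Matrix.isUnit_iff_isUnit_det _).1 (Units.isUnit _)),
      Matrix.coe_reindexAlgEquiv, Matrix.rank_reindex] at h
    rw [← pow_one (shift K d), rank_shift_pow] at h
    exact h
  have hone : (Finset.univ.filter fun k => d k ≠ 0).card = 1 := by
    have h3 : ∑ k, d k = ∑ k, (d k - 1) + ∑ k, (if d k ≠ 0 then 1 else 0) := by
      rw [← Finset.sum_add_distrib]
      exact Finset.sum_congr rfl fun k _ => by split_ifs <;> omega
    rw [Finset.sum_boole, hsum, hrank, Nat.cast_id] at h3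
    omega
  obtain ⟨k₀, hk₀⟩ := Finset.card_eq_one.1 hone
  have hk0 : d k₀ = 2 * m := by
    rw [← hsum, Finset.sum_eq_single k₀ (fun k _ hk => ?_) (by simp)]
    by_contra hd0
    exact hk (Finset.mem_singleton.1 (hk₀ ▸ Finset.mem_filter.2 ⟨Finset.mem_univ k, hd0⟩))
  obtain ⟨τ, hτ⟩ := S2570.exists_idx_equiv (F := K) (one1 (2 * m)) d fun i hi => by
    by_cases h : i = 2 * m
    · subst h
      rw [show (Finset.univ.filter fun k => d k = 2 * m) = {k₀} from ?_]
      · simp
      · ext k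
        simp only [Finset.mem_filter, Finset.mem_univ, true_and, Finset.mem_singleton]
        refine ⟨fun e => ?_, fun e => e ▸ hk0⟩
        exact Finset.mem_singleton.1 (hk₀ ▸ Finset.mem_filter.2 ⟨Finset.mem_univ k, by omega⟩)
    · have e1 : (Finset.univ.filter fun k : Fin 1 => one1 (2 * m) k = i) = ∅ := by
        simp [one1, Ne.symm h]
      have e2 : (Finset.univ.filter fun k => d k = i) = ∅ := by
        refine Finset.filter_eq_empty_iff.2 fun k _ e => h ?_
        have : k = k₀ := Finset.mem_singleton.1 (hk₀ ▸ Finset.mem_filter.2 ⟨Finset.mem_univ k, by omega⟩)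
        subst this
        omega
      rw [e1, e2]
      simp
  set π : Idx (one1 (2 * m)) ≃ Fin m ⊕ Fin m := τ.trans σ
  set U : Matrix (Fin m ⊕ Fin m) (Idx (one1 (2 * m))) K := P.1.submatrix id π
  set V : Matrix (Idx (one1 (2 * m))) (Fin m ⊕ Fin m) K := (P⁻¹).1.submatrix π id
  have hUV : U * V = 1 := by
    rw [show U * V = P.1 * (P⁻¹).1 from Matrix.submatrix_mul_equiv P.1 (P⁻¹).1 id π id, Units.mul_inv]
  have hVU : V * U = 1 := by
    rw [show V * U = ((P⁻¹).1 * P.1).submatrix π π from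
      (Matrix.submatrix_mul_equiv (P⁻¹).1 P.1 π (Equiv.refl _) π), Units.inv_mul, Matrix.submatrix_one_equiv]
  have hgU : A * U = U * Cfsg.jordanTypeMatrix (one1 (2 * m)) K := by
    rw [show A * U = (A * P.1).submatrix id π from rfl, hAP]
    ext a b
    simp only [U, Matrix.mul_apply, Matrix.submatrix_apply, id, Matrix.reindex_apply]
    refine (Fintype.sum_equiv π _ _ fun k => ?_).symm
    have h := hτ k b
    simp only [shift, Matrix.sub_apply, Matrix.one_apply, τ.injective.eq_iff] at h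
    simp [π, sub_left_inj.1 h]
  obtain ⟨hJg, hGg, hug⟩ := form_of_symplectic u U V hUV hgU
  refine ⟨_, V, U, ⟨hGg, hug hVU, hJg⟩, hVU, hUV, ?_, ?_⟩
  · calc Vᵀ * (Uᵀ * Matrix.J (Fin m) K * U) * V = (U * V)ᵀ * Matrix.J (Fin m) K * (U * V) := by
          simp only [Matrix.transpose_mul, Matrix.mul_assoc]
      _ = _ := by rw [hUV, Matrix.transpose_one, Matrix.one_mul, Matrix.mul_one]
  · rw [← hgU, Matrix.mul_assoc, hUV, Matrix.mul_one]

end Cfsg.Agent.SpRegular
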