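import Cfsg.Agent.Lib.Forms.Sp

/-!
Counting the unipotent elements of the symplectic group by inclusion–exclusion over isotropic
tuples of fixed vectors.
-/

set_option autoImplicit false

namespace Cfsg.Agent.SpUnipotent

open Cfsg.Agent.FormsLib Matrix

variable {F : Type*} [Field F]

local notation "Vs" m => (Fin m ⊕ Fin m → F)

variable (F) in
/-- Unipotent isometries. -/
abbrev Uni (m : ℕ) := {g : Module.End F (Vs m) //
  (∀ u v, spB m F (g u) (g v) = spB m F u v) ∧ IsNilpotent (g - 1)}

/-- Isotropic independent tuples of fixed vectors. -/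
abbrev Fr {m : ℕ} (g : Module.End F (Vs m)) (k : ℕ) := {v : Fin k → (Vs m) //
  LinearIndependent F v ∧ (∀ i j, spB m F (v i) (v j) = 0) ∧ ∀ i, g (v i) = v i}

/-- Those independent of a further vector. -/
abbrev FrE {m : ℕ} (g : Module.End F (Vs m)) (e : Vs m) (k : ℕ) := {v : Fin k → (Vs m) //
  LinearIndependent F (Fin.cons e v : Fin (k + 1) → (Vs m)) ∧ (∀ i j, spB m F (v i) (v j) = 0) ∧
    ∀ i, g (v i) = v i}

theorem swapB {m : ℕ} (u v : Vs m) : spB m F u v = - spB m F v u :=
  alt_swap spB_alt v u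

section Telescope

variable [Fintype F] {m : ℕ} {g : Module.End F (Fin m ⊕ Fin m → F)} {e : Fin m ⊕ Fin m → F}

theorem indep_of_cons {k : ℕ} {v : Fin k → (Vs m)}
    (h : LinearIndependent F (Fin.cons e v : Fin (k + 1) → (Vs m))) : LinearIndependent F v :=
  (linearIndependent_finCons.mp h).1

theorem card_fr_succ (he0 : e ≠ 0) (hge : g e = e) (hperp : ∀ x, g x = x → spB m F e x = 0)
    (k : ℕ) :
    Nat.card (Fr g (k + 1)) = Nat.card (FrE g e (k + 1))
      + (Nat.card F ^ (k + 1) - 1) * Nat.card (FrE g e k) := by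
  classical
  -- split by whether `e` lies in the span
  have h1 : Nat.card (Fr g (k + 1)) =
      Nat.card {v : Fr g (k + 1) // e ∉ Submodule.span F (Set.range v.1)}
        + Nat.card {v : Fr g (k + 1) // ¬ e ∉ Submodule.span F (Set.range v.1)} := by
    rw [← Nat.card_sum]
    exact (Nat.card_congr (Equiv.sumCompl _)).symm
  have h2 : Nat.card {v : Fr g (k + 1) // e ∉ Submodule.span F (Set.range v.1)}
      = Nat.card (FrE g e (k + 1)) := Nat.card_congr
    { toFun := fun v => ⟨v.1.1, linearIndependent_finCons.mpr ⟨v.1.2.1, v.2⟩, v.1.2.2⟩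
      invFun := fun v => ⟨⟨v.1, indep_of_cons v.2.1, v.2.2⟩, (linearIndependent_finCons.mp v.2.1).2⟩
      left_inv := fun v => rfl
      right_inv := fun v => rfl }
  -- the pivot construction
  let piv : {a : Fin (k + 1) → F // a ≠ 0} → Fin (k + 1) := fun (a : {a : Fin (k + 1) → F // a ≠ 0}) =>
    (Function.ne_iff.mp a.2).choose
  have hpiv : ∀ a : {a : Fin (k + 1) → F // a ≠ 0}, a.1 (piv a) ≠ 0 := fun a => (Function.ne_iff.mp a.2).choose_spec
  let mkv : {a : Fin (k + 1) → F // a ≠ 0} × FrE g e k → (Fin (k + 1) → (Vs m)) := fun x =>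
    (piv x.1).insertNth
      ((x.1.1 (piv x.1))⁻¹ • (e - ∑ i, x.1.1 ((piv x.1).succAbove i) • x.2.1 i)) x.2.1
  have hsum : ∀ x, ∑ i, x.1.1 i • mkv x i = e := by
    intro x
    rw [Fin.sum_univ_succAbove _ (piv x.1)]
    simp only [mkv, Fin.insertNth_apply_same, Fin.insertNth_apply_succAbove]
    rw [smul_inv_smul₀ (hpiv x.1), sub_add_cancel]
  have hmem : ∀ x, ∀ i, spB m F e (mkv x i) = 0 ∧ g (mkv x i) = mkv x i := by
    intro x i
    have hfix : g (mkv x i) = mkv x i := by
      refine Fin.succAboveCases (piv x.1) ?_ (fun j => ?_) i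
      · simp only [mkv, Fin.insertNth_apply_same, map_smul, map_sub, map_sum, hge, x.2.2.2.2]
      · simp only [mkv, Fin.insertNth_apply_succAbove, x.2.2.2.2]
    exact ⟨hperp _ hfix, hfix⟩
  have hiso : ∀ x, ∀ i j, spB m F (mkv x i) (mkv x j) = 0 := by
    intro x
    have hw : ∀ i, ∀ u, g u = u → (∀ l, spB m F (x.2.1 l) u = 0) → spB m F (mkv x i) u = 0 := by
      intro i u hu hl
      refine Fin.succAboveCases (piv x.1) ?_ (fun j => ?_) i
      · simp [mkv, hperp u hu, hl]
      · simp [mkv, hl]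
    intro i j
    refine hw i _ (hmem x j).2 fun l => ?_
    rw [swapB, hw j _ (x.2.2.2.2 l) fun l' => x.2.2.2.1 l' l, neg_zero]
  have hind : ∀ x, LinearIndependent F (mkv x) := by
    intro x
    rw [Fintype.linearIndependent_iff]
    intro b hb
    rw [Fin.sum_univ_succAbove _ (piv x.1)] at hb
    simp only [mkv, Fin.insertNth_apply_same, Fin.insertNth_apply_succAbove] at hb
    set t := b (piv x.1) * (x.1.1 (piv x.1))⁻¹ with ht
    have hc := Fintype.linearIndependent_iff.mp x.2.2.1
      (Fin.cons t fun i => b ((piv x.1).succAbove i) - t * x.1.1 ((piv x.1).succAbove i)) (by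
        rw [Fin.sum_univ_succ]
        simp only [Fin.cons_zero, Fin.cons_succ, sub_smul, Finset.sum_sub_distrib, ← smul_smul]
        rw [← hb, smul_smul, ← ht, smul_sub, ← Finset.smul_sum]
        abel)
    have ht0 : t = 0 := by simpa using hc 0
    refine Fin.succAboveCases (piv x.1) ?_ (fun j => ?_)
    · simpa [ht, hpiv x.1] using ht0
    · have := hc j.succ
      simpa [ht0] using this
  have h3 : Nat.card {v : Fr g (k + 1) // ¬ e ∉ Submodule.span F (Set.range v.1)}
      = Nat.card ({a : Fin (k + 1) → F // a ≠ 0} × FrE g e k) := by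
    symm
    refine Nat.card_congr (Equiv.ofBijective (fun x => ⟨⟨mkv x, hind x, hiso x,
      fun i => (hmem x i).2⟩, not_not.mpr ?_⟩) ⟨?_, ?_⟩)
    · show e ∈ Submodule.span F (Set.range (mkv x))
      have hm : ∑ i, x.1.1 i • mkv x i ∈ Submodule.span F (Set.range (mkv x)) :=
        Submodule.sum_mem _ fun i _ => Submodule.smul_mem _ _ (Submodule.subset_span ⟨i, rfl⟩)
      rwa [hsum x] at hm
    · intro x y h
      have h' : mkv x = mkv y := congrArg (fun v => v.1.1) h
      have ha : x.1.1 = y.1.1 := by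
        have hz := Fintype.linearIndependent_iff.mp (hind x) (x.1.1 - y.1.1) (by
          simp only [Pi.sub_apply, sub_smul, Finset.sum_sub_distrib]
          rw [hsum x]
          conv_lhs => arg 2; rw [h']
          rw [hsum y, sub_self])
        exact funext fun i => sub_eq_zero.mp (hz i)
      obtain ⟨a, w⟩ := x
      obtain ⟨b, u⟩ := y
      obtain rfl : a = b := Subtype.ext ha
      refine Prod.ext rfl (Subtype.ext (funext fun j => ?_))
      simpa [mkv] using congrFun h' ((piv a).succAbove j)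
    · rintro ⟨⟨v, hv, hvi, hvf⟩, hspan⟩
      obtain ⟨a, ha⟩ := (Submodule.mem_span_range_iff_exists_fun F).mp (not_not.mp hspan)
      have ha0 : a ≠ 0 := fun h => he0 (by rw [← ha, h]; simp)
      set p := piv ⟨a, ha0⟩ with hp
      have hw : LinearIndependent F (Fin.cons e (p.removeNth v) : Fin (k + 1) → (Vs m)) := by
        refine linearIndependent_finCons.mpr ⟨hv.comp _ Fin.succAbove_right_injective, fun hm => ?_⟩
        obtain ⟨b, hb⟩ := (Submodule.mem_span_range_iff_exists_fun F).mp hm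
        have h0 := Fintype.linearIndependent_iff.mp hv
          (a - p.insertNth 0 b) (by
            simp only [Pi.sub_apply, sub_smul, Finset.sum_sub_distrib]
            rw [ha, Fin.sum_univ_succAbove _ p]
            simp only [Fin.insertNth_apply_same, Fin.insertNth_apply_succAbove, zero_smul, zero_add]
            exact sub_eq_zero.mpr hb.symm) p
        exact hpiv ⟨a, ha0⟩ (by simpa [← hp] using h0)
      refine ⟨(⟨a, ha0⟩, ⟨p.removeNth v, hw, fun i j => hvi _ _, fun i => hvf _⟩),
        Subtype.ext (Subtype.ext ?_)⟩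
      show mkv _ = v
      simp only [mkv]
      rw [← hp]
      conv_rhs => rw [← Fin.insertNth_self_removeNth p v]
      congr 1
      rw [← ha, Fin.sum_univ_succAbove _ p]
      simp only [Fin.removeNth_apply, add_sub_cancel_right]
      exact inv_smul_smul₀ (hpiv ⟨a, ha0⟩) _
  rw [h1, h2, h3, Nat.card_prod]
  congr 2
  rw [Nat.card_eq_fintype_card, Fintype.card_subtype_compl, Fintype.card_subtype_eq,
    Fintype.card_fun, Fintype.card_fin, Nat.card_eq_fintype_card]

end Telescope

section Coord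

variable {m : ℕ}

/-- Coordinates along a hyperbolic pair. -/
def mk (x y : F) (w : Vs m) : Vs (m + 1) :=
  Sum.elim (Fin.cons x fun i => w (.inl i)) (Fin.cons y fun i => w (.inr i))

/-- The projection to the orthogonal complement. -/
def pr : (Vs (m + 1)) →ₗ[F] (Vs m) := LinearMap.funLeft F F (Sum.map Fin.succ Fin.succ)

/-- The first coordinate. -/
abbrev al (v : Vs (m + 1)) : F := v (.inl 0)

/-- The second coordinate. -/
abbrev be (v : Vs (m + 1)) : F := v (.inr 0)

theorem mk_eta (v : Vs (m + 1)) : mk (al v) (be v) (pr v) = v := by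
  funext s
  rcases s with i | i <;> refine Fin.cases ?_ (fun j => ?_) i <;> simp [mk, pr, LinearMap.funLeft]

@[simp] theorem al_mk (x y : F) (w : Vs m) : al (mk x y w) = x := by simp [mk, al]
@[simp] theorem be_mk (x y : F) (w : Vs m) : be (mk x y w) = y := by simp [mk, be]
@[simp] theorem pr_mk (x y : F) (w : Vs m) : pr (mk x y w) = w := by
  funext s
  rcases s with i | i <;> simp [mk, pr, LinearMap.funLeft]

theorem ext3 {u v : Vs (m + 1)} (h1 : al u = al v) (h2 : be u = be v) (h3 : pr u = pr v) :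
    u = v := by
  rw [← mk_eta u, ← mk_eta v, h1, h2, h3]

theorem spB_mk (x y x' y' : F) (w w' : Vs m) :
    spB (m + 1) F (mk x y w) (mk x' y' w') = y * x' - x * y' + spB m F w w' := by
  simp [spB_expand, Fin.sum_univ_succ, mk]
  ring

theorem spB_coord (u v : Vs (m + 1)) :
    spB (m + 1) F u v = be u * al v - al u * be v + spB m F (pr u) (pr v) := by
  conv_lhs => rw [← mk_eta u, ← mk_eta v]
  rw [spB_mk]

/-- The base vector. -/
def e₀ : Vs (m + 1) := mk 1 0 0

theorem e₀_ne : (e₀ : Vs (m + 1)) ≠ 0 := fun h => by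
  simpa [e₀, mk] using congrFun h (.inl 0)

theorem spB_e₀ (v : Vs (m + 1)) : spB (m + 1) F e₀ v = - be v := by
  rw [spB_coord]; simp [e₀]

/-- An isometry fixing the base vector, from its coordinates. -/
noncomputable def gOf (h : Module.End F (Vs m)) (a : Vs m) (c : F) : Module.End F (Vs (m + 1)) where
  toFun v := mk (al v + spB m F (h (pr v)) a + c * be v) (be v) (h (pr v) + be v • a)
  map_add' u v := ext3 (by simp [al, be, mk]; ring) (by simp [be, mk])
    (by simp [be, add_smul]; abel)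
  map_smul' r v := ext3 (by simp [al, be, mk]; ring) (by simp [be, mk])
    (by simp [be, smul_smul])

theorem gOf_apply (h : Module.End F (Vs m)) (a : Vs m) (c : F) (v : Vs (m + 1)) :
    gOf h a c v = mk (al v + spB m F (h (pr v)) a + c * be v) (be v) (h (pr v) + be v • a) := rfl

theorem gOf_isometry {h : Module.End F (Vs m)} (hh : ∀ u v, spB m F (h u) (h v) = spB m F u v)
    (a : Vs m) (c : F) (u v : Vs (m + 1)) :
    spB (m + 1) F (gOf h a c u) (gOf h a c v) = spB (m + 1) F u v := by
  rw [gOf_apply, gOf_apply, spB_mk, spB_coord u v]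
  have h0 : spB m F a a = 0 := spB_alt a
  simp only [map_add, map_smul, LinearMap.add_apply, LinearMap.smul_apply, smul_eq_mul, hh, h0,
    mul_zero, add_zero]
  rw [swapB a (h (pr v))]
  ring

theorem gOf_e₀ (h : Module.End F (Vs m)) (a : Vs m) (c : F) : gOf h a c e₀ = e₀ := by
  simp [gOf_apply, e₀]

theorem exists_gOf {g : Module.End F (Vs (m + 1))}
    (hg : ∀ u v, spB (m + 1) F (g u) (g v) = spB (m + 1) F u v) (he : g e₀ = e₀) :
    ∃ h a c, (∀ u v, spB m F (h u) (h v) = spB m F u v) ∧ g = gOf h a c := by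
  have hbe : ∀ v, be (g v) = be v := by
    intro v
    have h1 := hg e₀ v
    rw [he, spB_e₀, spB_e₀, neg_inj] at h1
    exact h1
  let emb : (Vs m) →ₗ[F] (Vs (m + 1)) :=
    { toFun := fun w => mk 0 0 w
      map_add' := fun u v => ext3 (by simp [al, mk]) (by simp [be, mk]) (by simp)
      map_smul' := fun r v => ext3 (by simp [al, mk]) (by simp [be, mk]) (by simp) }
  let h : Module.End F (Vs m) := pr ∘ₗ g ∘ₗ emb
  let a := pr (g (mk 0 1 0))
  let c := al (g (mk 0 1 0))
  have hf : g (mk 0 1 0) = mk c 1 a := ext3 (by simp [c]) (by simp [hbe]) (by simp [a])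
  have hw : ∀ w, g (emb w) = mk (spB m F (h w) a) 0 (h w) := by
    intro w
    refine ext3 ?_ (by simp [hbe, emb]) (by simp [h])
    have h1 := hg (emb w) (mk 0 1 0)
    rw [hf, ← mk_eta (g (emb w)), spB_mk, hbe] at h1
    simp only [emb, LinearMap.coe_mk, AddHom.coe_mk, spB_mk, be_mk, zero_mul, map_zero,
      mul_one, zero_sub, add_zero, neg_zero] at h1
    rw [al_mk]
    exact (sub_eq_zero.mp (by rw [← h1]; simp [h, emb]; ring)).symm
  refine ⟨h, a, c, fun u v => ?_, LinearMap.ext fun v => ?_⟩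
  · have h1 := hg (emb u) (emb v)
    rw [hw, hw, spB_mk] at h1
    simp [emb, spB_mk] at h1
    exact h1
  · have hdec : v = al v • e₀ + emb (pr v) + be v • mk 0 1 0 :=
      ext3 (by simp [al, mk, e₀, emb]) (by simp [be, mk, e₀, emb]) (by simp [e₀, emb])
    conv_lhs => rw [hdec, map_add, map_add, map_smul, map_smul, he, hw, hf]
    rw [gOf_apply]
    exact ext3 (by simp [al, mk, e₀]; ring) (by simp [be, mk, e₀]) (by simp [e₀])

theorem gOf_inj {h h' : Module.End F (Vs m)} {a a' : Vs m} {c c' : F}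
    (e : gOf h a c = gOf h' a' c') : h = h' ∧ a = a' ∧ c = c' := by
  refine ⟨LinearMap.ext fun w => ?_, ?_, ?_⟩
  · simpa [gOf_apply] using congrArg pr (LinearMap.congr_fun e (mk 0 0 w))
  · simpa [gOf_apply] using congrArg pr (LinearMap.congr_fun e (mk 0 1 0))
  · simpa [gOf_apply] using congrArg al (LinearMap.congr_fun e (mk 0 1 0))

theorem gOf_nilpotent (h : Module.End F (Vs m)) (a : Vs m) (c : F) :
    IsNilpotent (gOf h a c - 1) ↔ IsNilpotent (h - 1) := by
  set N := gOf h a c - 1 with hN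
  have hbe : ∀ v, be (N v) = 0 := fun v => by
    have : be (gOf h a c v) = be v := by rw [gOf_apply, be_mk]
    show (gOf h a c v - v) (.inr 0) = 0
    rw [Pi.sub_apply]
    exact sub_eq_zero.mpr this
  have hpr : ∀ v, be v = 0 → ∀ n, pr ((N ^ n) v) = ((h - 1) ^ n) (pr v) ∧ be ((N ^ n) v) = 0 := by
    intro v hv n
    induction n with
    | zero => exact ⟨by simp, by simpa using hv⟩
    | succ n ih =>
      rw [pow_succ', pow_succ', Module.End.mul_apply, Module.End.mul_apply, ← ih.1]
      refine ⟨?_, hbe _⟩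
      show pr (gOf h a c ((N ^ n) v) - (N ^ n) v) = _
      rw [map_sub, gOf_apply, pr_mk, ih.2, zero_smul, add_zero]
      rfl
  constructor
  · rintro ⟨n, hn⟩
    refine ⟨n, LinearMap.ext fun w => ?_⟩
    have := (hpr (mk 0 0 w) (be_mk _ _ _) n).1
    rw [hn, pr_mk, LinearMap.zero_apply, map_zero] at this
    exact this.symm
  · rintro ⟨n, hn⟩
    refine ⟨n + 2, LinearMap.ext fun v => ?_⟩
    obtain ⟨h1, h2⟩ := hpr (N v) (hbe v) n
    rw [hn, LinearMap.zero_apply] at h1
    rw [pow_succ', Module.End.mul_apply, pow_succ, Module.End.mul_apply]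
    show gOf h a c ((N ^ n) (N v)) - (N ^ n) (N v) = 0
    rw [gOf_apply, h1, h2, map_zero, zero_smul, add_zero, mul_zero, LinearMap.map_zero₂,
      add_zero, add_zero, sub_eq_zero]
    exact ext3 (al_mk _ _ _) (by rw [be_mk, h2]) (by rw [pr_mk, h1])

theorem cons_indep_iff {k : ℕ} (x : Fin k → F) (w : Fin k → (Vs m)) :
    LinearIndependent F (Fin.cons e₀ fun i => mk (x i) 0 (w i) : Fin (k + 1) → (Vs (m + 1))) ↔
      LinearIndependent F w := by
  have hsum : ∀ b : Fin (k + 1) → F,
      ∑ i, b i • (Fin.cons e₀ fun i => mk (x i) 0 (w i) : Fin (k + 1) → (Vs (m + 1))) i =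
        mk (b 0 + ∑ i, b i.succ * x i) 0 (∑ i, b i.succ • w i) := by
    intro b
    rw [Fin.sum_univ_succ]
    simp only [Fin.cons_zero, Fin.cons_succ]
    exact ext3 (by simp [al, mk, e₀, Finset.sum_apply]) (by simp [be, mk, e₀, Finset.sum_apply])
      (by simp [map_sum, e₀])
  rw [Fintype.linearIndependent_iff, Fintype.linearIndependent_iff]
  constructor
  · intro h b hb i
    have := h (Fin.cons (-∑ i, b i * x i) b) (by
      rw [hsum]
      exact ext3 (by simp [al, mk]) (by simp [be, mk]) (by simp [hb])) i.succ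
    simpa using this
  · intro h b hb
    rw [hsum] at hb
    have h1 := congrArg pr hb
    rw [pr_mk, map_zero] at h1
    have h2 := h (fun i => b i.succ) h1
    have h3 := congrArg al hb
    rw [al_mk] at h3
    refine Fin.cases ?_ h2
    simpa [h2] using h3

end Coord

section Count

variable [Fintype F] {m : ℕ}

theorem card_annihilator {k : ℕ} (w : Fin k → (Vs m)) (hw : LinearIndependent F w) :
    Nat.card {a : Vs m // ∀ i, spB m F (w i) a = 0} * Nat.card F ^ k = Nat.card F ^ (2 * m) := by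
  classical
  let L : (Vs m) →ₗ[F] (Fin k → F) := LinearMap.pi fun i => spB m F (w i)
  have hL : Function.Surjective L := by
    rw [← LinearMap.range_eq_top]
    by_contra hne
    obtain ⟨φ, hφ, hφL⟩ := Submodule.exists_le_ker_of_lt_top _ (lt_top_iff_ne_top.mpr hne)
    apply hφ
    have hφsum : ∀ a, φ a = ∑ i, φ (Pi.single i 1) * a i := fun a => by
      conv_lhs => rw [pi_eq_sum_univ' a]
      simp [map_sum, map_smul, mul_comm]
    have hz : ∑ i, φ (Pi.single i 1) • w i = 0 := by
      refine spB_nondeg.1 _ fun a => ?_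
      have := hφL ⟨a, rfl⟩
      rw [LinearMap.mem_ker, hφsum] at this
      simpa [L] using this
    refine LinearMap.ext fun a => ?_
    rw [hφsum]
    simp [Fintype.linearIndependent_iff.mp hw _ hz]
  have h1 := Submodule.card_eq_card_quotient_mul_card (LinearMap.ker L)
  rw [Nat.card_congr (L.quotKerEquivOfSurjective hL).toEquiv, Nat.card_fun, Nat.card_fun] at h1
  simp only [Nat.card_sum, Nat.card_fin, ← two_mul] at h1
  rw [h1]
  congr 1
  exact Nat.card_congr (Equiv.subtypeEquivRight (q := fun a : Vs m => a ∈ LinearMap.ker L)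
    fun a => by simp [L, funext_iff])

theorem card_ne_zero_vec (m : ℕ) :
    Nat.card {v : Vs (m + 1) // v ≠ 0} = Nat.card F ^ (2 * m + 2) - 1 := by
  classical
  rw [Nat.card_eq_fintype_card, Fintype.card_subtype_compl, Fintype.card_subtype_eq,
    Fintype.card_fun, Fintype.card_sum, Fintype.card_fin, Nat.card_eq_fintype_card]
  ring_nf

theorem exists_move {x : Vs (m + 1)} (hx : x ≠ 0) :
    ∃ t : (Vs (m + 1)) ≃ₗ[F] (Vs (m + 1)),
      (∀ u v, spB (m + 1) F (t u) (t v) = spB (m + 1) F u v) ∧ t e₀ = x := by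
  obtain ⟨t, ht, htx⟩ := exists_map_vec (spB_alt (m := m + 1) (F := F)) spB_nondeg e₀_ne hx
  exact ⟨t, fun u v => mem_isoGroup.mp (tauGroup_le _ ht) u v, htx⟩

theorem step_T (m k : ℕ) :
    Nat.card (Fr (1 : Module.End F (Vs (m + 1))) (k + 1)) =
      (Nat.card F ^ (2 * m + 2) - 1) *
        (Nat.card F ^ k * Nat.card (Fr (1 : Module.End F (Vs m)) k)) := by
  classical
  haveI : Fintype {v : Vs (m + 1) // v ≠ 0} := Fintype.ofFinite _
  let fib : Fr (1 : Module.End F (Vs (m + 1))) (k + 1) → {v : Vs (m + 1) // v ≠ 0} :=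
    fun v => ⟨v.1 0, v.2.1.ne_zero 0⟩
  rw [← Nat.card_congr (Equiv.sigmaFiberEquiv fib), Nat.card_sigma,
    Finset.sum_congr rfl (g := fun _ => Nat.card F ^ k * Nat.card (Fr (1 : Module.End F (Vs m)) k))
      fun x _ => ?_,
    Finset.sum_const, Finset.card_univ, ← Nat.card_eq_fintype_card, card_ne_zero_vec, smul_eq_mul]
  obtain ⟨t, ht, htx⟩ := exists_move x.2
  have ht' : ∀ u v, spB (m + 1) F (t.symm u) (t.symm v) = spB (m + 1) F u v := fun u v => by
    rw [← ht, t.apply_symm_apply, t.apply_symm_apply]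
  rw [show Nat.card F ^ k = Nat.card (Fin k → F) by simp, ← Nat.card_prod]
  symm
  refine Nat.card_congr (Equiv.ofBijective (fun p => ⟨⟨fun i => t ((Fin.cons e₀
    fun j => mk (p.1 j) 0 (p.2.1 j) : Fin (k + 1) → (Vs (m + 1))) i), ?_, ?_, fun i => rfl⟩, ?_⟩) ⟨?_, ?_⟩)
  · exact ((cons_indep_iff p.1 p.2.1).mpr p.2.2.1).map' t.toLinearMap (LinearEquiv.ker t)
  · intro i j
    rw [ht]
    refine Fin.cases ?_ (fun i => ?_) i <;> refine Fin.cases ?_ (fun j => ?_) j <;>
      simp [spB_mk, e₀, p.2.2.2.1]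
  · exact Subtype.ext (by simp [fib, htx])
  · intro p p' h
    have h' : ∀ i : Fin k, mk (p.1 i) 0 (p.2.1 i) = mk (p'.1 i) 0 (p'.2.1 i) := fun i => by
      simpa using congrFun (congrArg (fun v => v.1.1) h) i.succ
    refine Prod.ext (funext fun i => ?_) (Subtype.ext (funext fun i => ?_))
    · simpa using congrArg al (h' i)
    · simpa using congrArg pr (h' i)
  · rintro ⟨⟨v, hv, hvi, -⟩, hv0⟩
    have h0 : t.symm (v 0) = e₀ := by
      rw [show v 0 = x.1 from congrArg Subtype.val hv0, ← htx, t.symm_apply_apply]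
    have hbe : ∀ i : Fin k, be (t.symm (v i.succ)) = 0 := fun i => by
      have := ht' (v 0) (v i.succ)
      rw [h0, spB_e₀, hvi, neg_eq_zero] at this
      exact this
    have hcons : (Fin.cons e₀ fun j => mk (al (t.symm (v j.succ))) 0 (pr (t.symm (v j.succ))) :
        Fin (k + 1) → (Vs (m + 1))) = fun i => t.symm (v i) := by
      funext i
      refine Fin.cases ?_ (fun j => ?_) i
      · simp [h0]
      · rw [Fin.cons_succ]
        exact ext3 (al_mk _ _ _) (by rw [be_mk, hbe]) (pr_mk _ _ _)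
    have hind : LinearIndependent F fun i => t.symm (v i) :=
      hv.map' t.symm.toLinearMap (LinearEquiv.ker t.symm)
    refine ⟨(fun j => al (t.symm (v j.succ)), ⟨fun j => pr (t.symm (v j.succ)), ?_, ?_, fun _ => rfl⟩),
      Subtype.ext (Subtype.ext ?_)⟩
    · rw [← hcons] at hind
      exact (cons_indep_iff _ _).mp hind
    · intro i j
      have := ht' (v i.succ) (v j.succ)
      rw [hvi, spB_coord, hbe, hbe] at this
      simpa using this
    · funext i
      show t _ = v i
      rw [congrFun hcons i, t.apply_symm_apply]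

variable (F) in
/-- Pairs of a unipotent element and an isotropic independent tuple it fixes. -/
noncomputable def pairCount (m k : ℕ) : ℕ := Nat.card (Σ g : Uni F m, Fr g.1 k)

set_option maxHeartbeats 1000000 in
theorem step_pairs (m k : ℕ) :
    pairCount F (m + 1) (k + 1) =
      (Nat.card F ^ (2 * m + 2) - 1) * (Nat.card F ^ (2 * m + 1) * pairCount F m k) := by
  classical
  haveI : Fintype {v : Vs (m + 1) // v ≠ 0} := Fintype.ofFinite _
  haveI : Finite (Module.End F (Vs (m + 1))) := Module.finite_of_finite F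
  haveI : Finite (Module.End F (Vs m)) := Module.finite_of_finite F
  let fib : (Σ g : Uni F (m + 1), Fr g.1 (k + 1)) → {v : Vs (m + 1) // v ≠ 0} :=
    fun v => ⟨v.2.1 0, v.2.2.1.ne_zero 0⟩
  rw [pairCount, ← Nat.card_congr (Equiv.sigmaFiberEquiv fib), Nat.card_sigma,
    Finset.sum_congr rfl (g := fun _ => Nat.card F ^ (2 * m + 1) * pairCount F m k) fun x _ => ?_,
    Finset.sum_const, Finset.card_univ, ← Nat.card_eq_fintype_card, card_ne_zero_vec, smul_eq_mul]
  obtain ⟨t, ht, htx⟩ := exists_move x.2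
  have ht' : ∀ u v, spB (m + 1) F (t.symm u) (t.symm v) = spB (m + 1) F u v := fun u v => by
    rw [← ht, t.apply_symm_apply, t.apply_symm_apply]
  let C : Module.End F (Vs (m + 1)) ≃+* Module.End F (Vs (m + 1)) := t.conjRingEquiv
  have hC : ∀ g u, C g u = t (g (t.symm u)) := fun g u => rfl
  -- the model of the fibre
  let M := (Σ p : (Σ h : Uni F m, Fr h.1 k), {a : Vs m // ∀ i, spB m F (p.2.1 i) a = 0}) ×
    F × (Fin k → F)
  have hM : Nat.card M = Nat.card F ^ (2 * m + 1) * pairCount F m k := by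
    haveI := Fintype.ofFinite (Σ h : Uni F m, Fr h.1 k)
    have hpos : 0 < Nat.card F ^ k := pow_pos Nat.card_pos k
    refine Nat.eq_of_mul_eq_mul_right hpos ?_
    rw [Nat.card_prod, Nat.card_prod, Nat.card_sigma, Nat.card_fun, Nat.card_fin, Finset.sum_mul,
      Finset.sum_mul]
    rw [Finset.sum_congr rfl (g := fun _ => Nat.card F ^ (2 * m) * (Nat.card F * Nat.card F ^ k))
      fun p _ => by rw [← card_annihilator p.2.1 p.2.2.1]; ring]
    rw [Finset.sum_const, Finset.card_univ, ← Nat.card_eq_fintype_card, smul_eq_mul, pairCount]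
    ring
  rw [← hM]
  symm
  let tup : M → (Fin (k + 1) → (Vs (m + 1))) := fun p =>
    Fin.cons e₀ fun j => mk (p.2.2 j) 0 (p.1.1.2.1 j)
  let op : M → Module.End F (Vs (m + 1)) := fun p => gOf p.1.1.1.1 p.1.2.1 p.2.1
  have hop : ∀ p i, op p (tup p i) = tup p i := by
    intro p i
    refine Fin.cases ?_ (fun j => ?_) i
    · exact gOf_e₀ _ _ _
    · show gOf _ _ _ (mk _ _ _) = mk _ _ _
      rw [gOf_apply]
      simp [p.1.1.2.2.2.2, p.1.2.2]
  refine Nat.card_congr (Equiv.ofBijective (fun p => ⟨⟨⟨C (op p), ?_, ?_⟩,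
    ⟨fun i => t (tup p i), ?_, ?_, ?_⟩⟩, ?_⟩) ⟨?_, ?_⟩)
  · intro u v
    rw [hC, hC, ht, gOf_isometry p.1.1.1.2.1, ht']
  · have := ((gOf_nilpotent p.1.1.1.1 p.1.2.1 p.2.1).mpr p.1.1.1.2.2).map C
    rwa [map_sub, map_one] at this
  · exact ((cons_indep_iff p.2.2 p.1.1.2.1).mpr p.1.1.2.2.1).map' t.toLinearMap (LinearEquiv.ker t)
  · intro i j
    rw [ht]
    refine Fin.cases ?_ (fun i => ?_) i <;> refine Fin.cases ?_ (fun j => ?_) j <;>
      simp [tup, spB_mk, e₀, p.1.1.2.2.2.1]
  · intro i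
    rw [hC, t.symm_apply_apply, hop]
  · exact Subtype.ext (by simp [fib, tup, htx])
  · rintro ⟨⟨⟨⟨h, hh⟩, ⟨w, hw⟩⟩, a⟩, c, x₁⟩ ⟨⟨⟨⟨h', hh'⟩, ⟨w', hw'⟩⟩, a'⟩, c', x₂⟩ heq
    have e1 : C (gOf h a.1 c) = C (gOf h' a'.1 c') := congrArg (fun s => s.1.1.1) heq
    obtain ⟨rfl, ha, rfl⟩ := gOf_inj (C.injective e1)
    have e2 : (fun i => t ((Fin.cons e₀ fun j => mk (x₁ j) 0 (w j) : Fin (k + 1) → (Vs (m + 1))) i))
        = fun i => t ((Fin.cons e₀ fun j => mk (x₂ j) 0 (w' j) : Fin (k + 1) → (Vs (m + 1))) i) :=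
      congrArg (fun s => s.1.2.1) heq
    have e3 : ∀ i, mk (x₁ i) 0 (w i) = mk (x₂ i) 0 (w' i) := fun i => by
      simpa using congrFun e2 i.succ
    obtain rfl : x₁ = x₂ := funext fun i => by simpa using congrArg al (e3 i)
    obtain rfl : w = w' := funext fun i => by simpa using congrArg pr (e3 i)
    obtain rfl : a = a' := Subtype.ext ha
    rfl
  · rintro ⟨⟨⟨g, hg, hgn⟩, ⟨v, hv, hvi, hvf⟩⟩, hv0⟩
    have h0 : t.symm (v 0) = e₀ := by
      rw [show v 0 = x.1 from congrArg Subtype.val hv0, ← htx, t.symm_apply_apply]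
    let g' : Module.End F (Vs (m + 1)) := t.symm.toLinearMap ∘ₗ g ∘ₗ t.toLinearMap
    have hCs : ∀ u, g' u = t.symm (g (t u)) := fun u => rfl
    have hCg : C g' = g := LinearMap.ext fun u => by
      rw [hC, hCs, t.apply_symm_apply, t.apply_symm_apply]
    have hiso : ∀ u w : Vs (m + 1), spB (m + 1) F (g' u) (g' w) = spB (m + 1) F u w := by
      intro u w
      exact (congrArg₂ (fun a b => spB (m + 1) F a b) (hCs u) (hCs w)).trans
        ((ht' _ _).trans ((hg _ _).trans (ht u w)))
    have hge : g' e₀ = e₀ := by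
      calc g' e₀ = t.symm (g (t e₀)) := hCs e₀
        _ = t.symm (g (v 0)) := by rw [← h0, t.apply_symm_apply]
        _ = e₀ := by rw [hvf, h0]
    have hex := @exists_gOf F _ m g' hiso hge
    obtain ⟨h, a, c, hh, hgc⟩ := hex
    have hn : IsNilpotent (h - 1) := by
      rw [← gOf_nilpotent h a c, ← hgc]
      have := hgn.map C.symm
      rw [map_sub, map_one, ← hCg, RingEquiv.symm_apply_apply] at this
      exact this
    have hbe : ∀ i : Fin k, be (t.symm (v i.succ)) = 0 := fun i => by
      have := ht' (v 0) (v i.succ)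
      rw [h0, spB_e₀, hvi, neg_eq_zero] at this
      exact this
    have hcons : (Fin.cons e₀ fun j => mk (al (t.symm (v j.succ))) 0 (pr (t.symm (v j.succ))) :
        Fin (k + 1) → (Vs (m + 1))) = fun i => t.symm (v i) := by
      funext i
      refine Fin.cases ?_ (fun j => ?_) i
      · simp [h0]
      · rw [Fin.cons_succ]
        exact ext3 (al_mk _ _ _) (by rw [be_mk, hbe]) (pr_mk _ _ _)
    have hind : LinearIndependent F fun i => t.symm (v i) :=
      hv.map' t.symm.toLinearMap (LinearEquiv.ker t.symm)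
    rw [← hcons] at hind
    have hfix : ∀ j : Fin k, h (pr (t.symm (v j.succ))) = pr (t.symm (v j.succ)) ∧
        spB m F (pr (t.symm (v j.succ))) a = 0 := by
      intro j
      have h1 : g' (t.symm (v j.succ)) = t.symm (v j.succ) := by
        rw [hCs, t.apply_symm_apply, hvf]
      rw [hgc, gOf_apply, hbe, zero_smul, add_zero] at h1
      have h2 := congrArg pr h1
      have h3 := congrArg al h1
      rw [pr_mk] at h2
      rw [al_mk, h2] at h3
      exact ⟨h2, by simpa using h3⟩
    refine ⟨(⟨⟨⟨h, hh, hn⟩, ⟨fun j => pr (t.symm (v j.succ)), (cons_indep_iff _ _).mp hind, ?_,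
      fun j => (hfix j).1⟩⟩, ⟨a, fun j => (hfix j).2⟩⟩, c, fun j => al (t.symm (v j.succ))),
      Subtype.ext (Sigma.subtype_ext (Subtype.ext ?_) ?_)⟩
    · intro i j
      have := ht' (v i.succ) (v j.succ)
      rw [hvi, spB_coord, hbe, hbe] at this
      simpa using this
    · show C (gOf h a c) = g
      rw [← hgc, hCg]
    · funext i
      show t (tup _ i) = v i
      rw [show tup _ i = t.symm (v i) from congrFun hcons i, t.apply_symm_apply]

end Count

end Cfsg.Agent.SpUnipotent
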