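import Cfsg.Agent.Lib.Forms.UnipotentForms

/-!
Symmetric forms preserved by a unipotent matrix of given Jordan type.
-/

set_option autoImplicit false

namespace Cfsg.Agent.UnipotentForms

open scoped Matrix
open Cfsg.Agent.JordanType Cfsg.Agent.S2581
open Cfsg.Agent.UnipotentCentralizer (G_recursion G_vanish_left block)

variable {K : Type*} [Field K] [Fintype K]

omit [Fintype K] in
theorem wt_symm (h s j : ℕ) :
    wt K (h : ℤ) (2 * h + 1) j s = wt K ((h : ℤ) - 1) (2 * h + 1) s j := by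
  unfold wt
  by_cases hc : s + j < 2 * h + 1
  · rw [if_pos hc, if_pos (by omega : j + s < 2 * h + 1)]
    set k := 2 * h + 1 - 1 - s - j with hk
    rw [show 2 * h + 1 - 1 - j - s = k by omega,
      show (h : ℤ) - 1 - (j : ℤ) = -((j : ℤ) - h + 1) by ring, Ring.choose_neg,
      show (j : ℤ) - h + 1 + (k : ℤ) - 1 = (h : ℤ) - s by omega]
    rw [Units.smul_def, smul_eq_mul, Int.cast_mul, Int.coe_negOnePow_natCast, Int.cast_pow, Int.cast_neg,
      Int.cast_one, ← mul_assoc, ← pow_add]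
    congr 1
    rw [neg_one_pow_eq_pow_mod_two, neg_one_pow_eq_pow_mod_two (R := K) (j + k)]
    congr 1
    omega
  · rw [if_neg hc, if_neg (by omega : ¬ j + s < 2 * h + 1)]

/-- There is a non-degenerate invariant symmetric form of every type whose even parts are paired. -/
theorem exists_model_sym (h2c : (2 : K) ≠ 0) {t : ℕ} (d : Fin t → ℕ) (hd : ∀ k, 1 ≤ d k)
    (heven : ∀ j : ℕ, Even j → 0 < j → Even (Finset.univ.filter (fun k : Fin t => d k = j)).card) :
    ∃ G : Matrix (Idx d) (Idx d) K, Gᵀ = G ∧ IsUnit G ∧ (1 + (shift K d)ᵀ) * G * (1 + shift K d) = G := by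
  classical
  -- pair the blocks of even size
  have hfib : ∀ c : ℕ, ∃ (τ : Equiv.Perm {k // d k = c}) (L : {k // d k = c} → Bool),
      (∀ x, τ (τ x) = x) ∧ (Odd c → ∀ x, τ x = x) ∧ (Even c → ∀ x, L (τ x) = !L x) := by
    intro c
    by_cases hc : Even c ∧ 0 < c
    · obtain ⟨r, hr⟩ := heven c hc.1 hc.2
      let e : {k // d k = c} ≃ Fin r ⊕ Fin r := Fintype.equivOfCardEq (by
        rw [Fintype.card_subtype, Fintype.card_sum, Fintype.card_fin]; exact hr)
      refine ⟨e.trans ((Equiv.sumComm _ _).trans e.symm), fun x => (e x).isLeft, fun x => ?_,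
        fun hev => absurd hc.1 (Nat.not_even_iff_odd.2 hev), fun _ x => ?_⟩
      · simp
      · rcases hx : e x with a | a <;> simp [hx]
    · refine ⟨1, fun _ => true, fun x => rfl, fun _ x => rfl, fun h x => absurd ⟨h, ?_⟩ hc⟩
      have := hd x.1
      have := x.2
      omega
  choose τf Lf hττ hτod hL using hfib
  let τ : Fin t → Fin t := fun k => (τf (d k) ⟨k, rfl⟩).1
  let L : Fin t → Bool := fun k => Lf (d k) ⟨k, rfl⟩
  have hτd : ∀ k, d (τ k) = d k := fun k => (τf (d k) ⟨k, rfl⟩).2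
  have hfix : ∀ (k : Fin t) (c : ℕ) (hc : d k = c), τ k = (τf c ⟨k, hc⟩).1 ∧ L k = Lf c ⟨k, hc⟩ := by
    rintro k c rfl
    exact ⟨rfl, rfl⟩
  have hτ2 : ∀ k, τ (τ k) = k := fun k => by
    rw [(hfix (τ k) _ (hτd k)).1]
    exact congrArg Subtype.val (hττ (d k) ⟨k, rfl⟩)
  have hτodd : ∀ k, Odd (d k) → τ k = k := fun k hk => congrArg Subtype.val (hτod _ hk ⟨k, rfl⟩)
  have hLeven : ∀ k, Even (d k) → L (τ k) = !L k := fun k hk => by
    rw [(hfix (τ k) _ (hτd k)).2]
    exact hL _ hk ⟨k, rfl⟩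
  let c : ℕ → ℤ := fun n => ((n / 2 : ℕ) : ℤ)
  let g : Fin t → ℕ → ℕ → K := fun k s j =>
    if Odd (d k) then wt K (c (d k)) (d k) s j + wt K (c (d k) - 1) (d k) s j
    else if L k then wt K (c (d k)) (d k) s j else wt K (c (d k)) (d k) j s
  have hgrec : ∀ k s j, g k s (j + 1) + g k (s + 1) (j + 1) + g k (s + 1) j = 0 := by
    intro k s j
    have h1 := wt_recursion (K := K) (c (d k)) (d k) s j
    have h2 := wt_recursion (K := K) (c (d k)) (d k) j s
    have h3 := wt_recursion (K := K) (c (d k) - 1) (d k) s j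
    simp only [g]
    split_ifs
    · linear_combination h1 + h3
    · exact h1
    · linear_combination h2
  have hgzero : ∀ k s j, d k ≤ s + j → g k s j = 0 := by
    intro k s j h
    have h1 : wt K (c (d k)) (d k) s j = 0 := if_neg (by omega)
    have h2 : wt K (c (d k)) (d k) j s = 0 := if_neg (by omega)
    have h3 : wt K (c (d k) - 1) (d k) s j = 0 := if_neg (by omega)
    simp [g, h1, h2, h3]
  have hgswap : ∀ k s j, g (τ k) j s = g k s j := by
    intro k s j
    by_cases hod : Odd (d k)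
    · obtain ⟨h, hh⟩ := hod
      simp only [g, hτodd k ⟨h, hh⟩, if_pos (show Odd (d k) from ⟨h, hh⟩)]
      rw [show c (d k) = (h : ℤ) by simp only [c]; omega, hh, wt_symm, wt_symm h j s, add_comm]
    · have hL' := hLeven k (Nat.not_odd_iff_even.1 hod)
      simp only [g, hτd, if_neg hod, hL']
      cases L k <;> simp
  let G : Matrix (Idx d) (Idx d) K := fun a b => if b.1 = τ a.1 then g a.1 a.2 b.2 else 0
  have hrec : ∀ a b : Idx d, (b.2 : ℕ) + 1 < d b.1 → ∀ hb, G a ⟨b.1, ⟨b.2 + 1, hb⟩⟩ =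
      -(if h : (a.2 : ℕ) + 1 < d a.1 then
        G ⟨a.1, ⟨a.2 + 1, h⟩⟩ b + G ⟨a.1, ⟨a.2 + 1, h⟩⟩ ⟨b.1, ⟨b.2 + 1, hb⟩⟩ else 0) := by
    intro a b _ hb
    simp only [G]
    by_cases hτa : b.1 = τ a.1
    · simp only [if_pos hτa]
      split_ifs with h
      · linear_combination hgrec a.1 a.2 b.2
      · rw [hgzero _ _ _ (by omega), neg_zero]
    · simp only [if_neg hτa]
      split_ifs <;> simp
  have hJ : (1 + (shift K d)ᵀ) * G * (1 + shift K d) = G := by
    suffices h : G * shift K d + (shift K d)ᵀ * (G + G * shift K d) = 0 by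
      calc (1 + (shift K d)ᵀ) * G * (1 + shift K d)
          = G + (G * shift K d + (shift K d)ᵀ * (G + G * shift K d)) := by noncomm_ring
        _ = G := by rw [h, add_zero]
    ext a b
    have hT : ∀ M : Matrix (Idx d) (Idx d) K, ((shift K d)ᵀ * M) a b =
        if h : (a.2 : ℕ) + 1 < d a.1 then M ⟨a.1, ⟨a.2 + 1, h⟩⟩ b else 0 := by
      intro M
      rw [show ((shift K d)ᵀ * M) a b = (Mᵀ * shift K d) b a by
        rw [← Matrix.transpose_apply (((shift K d)ᵀ) * M), Matrix.transpose_mul, Matrix.transpose_transpose],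
        mul_shift]
      rfl
    rw [Matrix.add_apply, Matrix.zero_apply, hT, mul_shift]
    by_cases hb : (b.2 : ℕ) + 1 < d b.1
    · rw [dif_pos hb, hrec a b hb hb]
      split_ifs with h
      · rw [Matrix.add_apply, mul_shift, dif_pos hb]; ring
      · ring
    · rw [dif_neg hb, zero_add]
      split_ifs with h
      · rw [Matrix.add_apply, mul_shift, dif_neg hb, add_zero]
        simp only [G]
        split_ifs with hτa
        · refine hgzero _ _ _ ?_
          have : d b.1 = d a.1 := by rw [hτa, hτd]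
          omega
        · rfl
      · rfl
  have hsymG : Gᵀ = G := by
    ext a b
    show (if a.1 = τ b.1 then g b.1 b.2 a.2 else 0) = if b.1 = τ a.1 then g a.1 a.2 b.2 else 0
    by_cases h : b.1 = τ a.1
    · rw [if_pos h, if_pos (by rw [h, hτ2])]
      have e := hgswap a.1 a.2 b.2
      rw [← h] at e
      exact e
    · rw [if_neg h, if_neg (fun e => h (by rw [e, hτ2]))]
  have htop : ∀ (k : Fin t) (s : ℕ) (j : ℕ), s + j + 1 = d k → g k s j ≠ 0 := by
    intro k s j h
    have h1 : wt K (c (d k)) (d k) s j = (-1) ^ j := by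
      rw [wt, if_pos (by omega), show d k - 1 - s - j = 0 by omega, Ring.choose_zero_right, Int.cast_one, mul_one]
    have h2 : wt K (c (d k)) (d k) j s = (-1) ^ s := by
      rw [wt, if_pos (by omega), show d k - 1 - j - s = 0 by omega, Ring.choose_zero_right, Int.cast_one, mul_one]
    have h3 : wt K (c (d k) - 1) (d k) s j = (-1) ^ j := by
      rw [wt, if_pos (by omega), show d k - 1 - s - j = 0 by omega, Ring.choose_zero_right, Int.cast_one, mul_one]
    simp only [g, h1, h2, h3]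
    split_ifs
    · rw [← two_mul]
      exact mul_ne_zero h2c (pow_ne_zero _ (neg_ne_zero.2 one_ne_zero))
    · exact pow_ne_zero _ (neg_ne_zero.2 one_ne_zero)
    · exact pow_ne_zero _ (neg_ne_zero.2 one_ne_zero)
  refine ⟨G, hsymG, ?_, hJ⟩
  rw [← Matrix.mulVec_injective_iff_isUnit]
  suffices key : ∀ v, G *ᵥ v = 0 → v = 0 by
    intro u v huv
    exact sub_eq_zero.1 (key _ (by rw [Matrix.mulVec_sub, huv, sub_self]))
  intro v hv
  suffices H : ∀ (j : ℕ) (b : Idx d), (b.2 : ℕ) = j → v b = 0 from funext fun b => H _ b rfl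
  intro j
  induction j using Nat.strong_induction_on with
  | _ j ih =>
  intro b hb
  have hdb : d (τ b.1) = d b.1 := hτd _
  have hb2 := b.2.2
  have h := congrFun hv ⟨τ b.1, ⟨d b.1 - 1 - b.2, by omega⟩⟩
  rw [Matrix.mulVec, dotProduct, Pi.zero_apply, Finset.sum_eq_single b ?_ (by simp)] at h
  · simp only [G, hτ2] at h
    exact (mul_eq_zero.1 h).resolve_left (htop _ _ _ (by omega))
  · intro a _ hab
    simp only [G, hτ2]
    split_ifs with ha
    · obtain ⟨l, i⟩ := a
      obtain ⟨l', i'⟩ := b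
      change l = l' at ha
      subst ha
      rcases lt_trichotomy (i : ℕ) i' with hi | hi | hi
      · have hb' : (i' : ℕ) = j := hb
        rw [ih (i : ℕ) (by omega) ⟨l, i⟩ rfl, mul_zero]
      · exact absurd (congrArg (Sigma.mk l) (Fin.ext hi)) hab
      · have q1 : (i' : ℕ) < d l := i'.2
        have q2 : d (τ l) = d l := hτd l
        rw [hgzero _ _ _ (show d (τ l) ≤ d l - 1 - (i' : ℕ) + (i : ℕ) by omega), zero_mul]
    · rw [zero_mul]

/-- Even blocks of a symmetric invariant form are paired. -/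
theorem even_card_of_even (h2c : (2 : K) ≠ 0) {t : ℕ} {d : Fin t → ℕ} (hd : ∀ k, 1 ≤ d k) {G : Matrix (Idx d) (Idx d) K}
    (hJ : (1 + (shift K d)ᵀ) * G * (1 + shift K d) = G) (hG : Gᵀ = G) (hu : IsUnit G)
    (i : Fin (Finset.univ.sup d + 1)) (hi : Even (i : ℕ)) : Even (Fintype.card (KB d i)) := by
  classical
  have hswap : ∀ a b, G b a = G a b := fun a b => congrFun (congrFun hG a) b
  have hsym : ∀ a b, G a b = 0 → G b a = 0 := fun a b h => by rw [hswap]; exact h
  have key : ∀ (k l : Fin t) (j : ℕ) (hj : j < d k) (hkl : d k = d l),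
      G ⟨k, ⟨d k - 1, by omega⟩⟩ ⟨l, ⟨0, hd l⟩⟩ =
        (-1 : K) ^ j * G ⟨k, ⟨d k - 1 - j, by omega⟩⟩ ⟨l, ⟨j, by omega⟩⟩ := by
    intro k l j
    induction j with
    | zero => intros; simp
    | succ j ih =>
      intro hj hkl
      have e : (⟨k, ⟨d k - 1 - j, by omega⟩⟩ : Idx d) = ⟨k, ⟨d k - 1 - (j + 1) + 1, by omega⟩⟩ :=
        congrArg (Sigma.mk _) (Fin.ext (by simp only; omega))
      rw [ih (by omega) hkl, G_recursion hJ ⟨k, ⟨d k - 1 - (j + 1), by omega⟩⟩
        ⟨l, ⟨j, by omega⟩⟩ (by simp only; omega), dif_pos (by simp only; omega),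
        G_vanish hJ hsym ⟨k, ⟨d k - 1 - (j + 1) + 1, _⟩⟩ ⟨l, ⟨j + 1, _⟩⟩ (Or.inl (by simp only; omega)),
        add_zero, pow_succ, e]
      ring
  have hflip : ∀ k l : KB d i, block hd G i l k = -block hd G i k l := by
    intro k l
    have hkl : d k.1 = d l.1 := k.2.trans l.2.symm
    have hk2 := k.2
    have hk1 := hd k.1
    obtain ⟨n, hn⟩ : ∃ n, (i : ℕ) = n + 1 := ⟨d k.1 - 1, by omega⟩
    have hno : Odd n := by
      rcases Nat.even_or_odd n with h | h
      · exact absurd (h.add_one) (Nat.not_odd_iff_even.2 (hn ▸ hi))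
      · exact h
    have h1 := key k.1 l.1 n (by omega) hkl
    show G ⟨l.1, ⟨0, hd l.1⟩⟩ ⟨k.1, ⟨d k.1 - 1, _⟩⟩ = -G ⟨k.1, ⟨0, hd k.1⟩⟩ ⟨l.1, ⟨d l.1 - 1, _⟩⟩
    rw [hswap, h1, hno.neg_one_pow, neg_one_mul]
    have e1 : (⟨k.1, ⟨d k.1 - 1 - n, by omega⟩⟩ : Idx d) = ⟨k.1, ⟨0, hd k.1⟩⟩ :=
      congrArg (Sigma.mk _) (Fin.ext (by simp only; omega))
    have e2 : (⟨l.1, ⟨n, by omega⟩⟩ : Idx d) = ⟨l.1, ⟨d l.1 - 1, by omega⟩⟩ :=
      congrArg (Sigma.mk _) (Fin.ext (by simp only; omega))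
    rw [e1, e2]
  set B := block hd G i
  have hBt : Bᵀ = -B := Matrix.ext fun k l => hflip k l
  have hdet := congrArg Matrix.det hBt
  rw [Matrix.det_transpose, Matrix.det_neg] at hdet
  have hne : B.det ≠ 0 :=
    ((Matrix.isUnit_iff_isUnit_det _).1 (block_isUnit hd hJ hsym hu i)).ne_zero
  by_contra hodd
  rw [(Nat.not_even_iff_odd.1 hodd).neg_one_pow, neg_one_mul] at hdet
  exact hne ((mul_eq_zero.1 (show (2 : K) * B.det = 0 by linear_combination hdet)).resolve_left h2c)

end Cfsg.Agent.UnipotentForms
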