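import Cfsg.Agent.Lib.Forms.Witt
import Mathlib

/-!
Hermitian forms: the special unitary group is generated by unitary transvections.
-/

set_option autoImplicit false

namespace Cfsg.Agent.FormsLib

variable {F V : Type*} [Field F] [AddCommGroup V] [Module F V] {σ : F →+* F}
  {B : V →ₛₗ[σ] V →ₗ[F] F}

/-- A non-degenerate Hermitian form for a non-trivial involution with surjective norm. -/
structure IsUnitaryForm (σ : F →+* F) (B : V →ₛₗ[σ] V →ₗ[F] F) : Prop where
  tf : IsTraceForm σ 1 B
  sigma_ne : σ ≠ RingHom.id F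
  norm_surj : ∀ a, σ a = a → ∃ x, x * σ x = a

/-- `g` is the unitary transvection `x ↦ x + c B(v, x) v`. -/
def IsUTau (B : V →ₛₗ[σ] V →ₗ[F] F) (W : Submodule F V) (g : V ≃ₗ[F] V) : Prop :=
  ∃ v c, v ∈ W ∧ B v v = 0 ∧ c + σ c = 0 ∧ ∀ x, g x = x + (c * B v x) • v

/-- The group generated by the unitary transvections with centre in `W`. -/
def uGroup (B : V →ₛₗ[σ] V →ₗ[F] F) (W : Submodule F V) : Subgroup (V ≃ₗ[F] V) :=
  Subgroup.closure {g | IsUTau B W g}

theorem uGroup_mono {W W' : Submodule F V} (h : W ≤ W') : uGroup B W ≤ uGroup B W' :=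
  Subgroup.closure_mono fun _ ⟨v, c, hv, h'⟩ => ⟨v, c, h hv, h'⟩

theorem IsUTau.det_eq {W : Submodule F V} {g : V ≃ₗ[F] V} (h : IsUTau B W g) : g.det = 1 := by
  obtain ⟨v, c, -, hv, -, hg⟩ := h
  have hfv : (c • B v) v = 0 := by simp [hv]
  have : g = LinearEquiv.transvection hfv := by
    ext x
    rw [hg, LinearEquiv.transvection.apply]
    simp
  rw [this]
  exact LinearEquiv.transvection.det_eq_one hfv

variable (hU : IsUnitaryForm σ B)
include hU

theorem herm_flip (u v : V) : B v u = σ (B u v) := by simpa using hU.tf.flip u v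

theorem herm_self_fixed (v : V) : σ (B v v) = B v v := (herm_flip hU v v).symm

theorem exists_trace {a : F} (ha : σ a = a) : ∃ t, t + σ t = a := by
  obtain ⟨d, hd⟩ : ∃ d : F, d + σ d ≠ 0 := by
    by_contra hc
    push Not at hc
    have h1 : (1 : F) + 1 = 0 := by simpa using hc 1
    apply hU.sigma_ne
    ext a
    have := hc a
    simp only [RingHom.id_apply]
    linear_combination this - a * h1
  refine ⟨a * d / (d + σ d), ?_⟩
  simp only [map_div₀, map_mul, map_add, ha, hU.tf.invol, add_comm (σ d) d]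
  field_simp

theorem exists_skew : ∃ k : F, k ≠ 0 ∧ k + σ k = 0 := by
  obtain ⟨d, hd⟩ : ∃ d, σ d ≠ d := by
    by_contra hc
    push Not at hc
    exact hU.sigma_ne (RingHom.ext hc)
  exact ⟨d - σ d, sub_ne_zero.2 (Ne.symm hd), by rw [map_sub, hU.tf.invol]; ring⟩

theorem uTau_preserves {W : Submodule F V} {g : V ≃ₗ[F] V} (h : IsUTau B W g) : Preserves B g := by
  obtain ⟨v, c, -, hv, hc, hg⟩ := h
  intro x y
  simp only [hg, map_add, map_smulₛₗ, LinearMap.add_apply, LinearMap.smul_apply, smul_eq_mul,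
    map_mul, RingHom.id_apply, hv]
  rw [herm_flip hU v x]
  linear_combination (σ (B v x) * B v y) * hc

theorem uGroup_preserves {W : Submodule F V} {g : V ≃ₗ[F] V} (h : g ∈ uGroup B W) : Preserves B g := by
  induction h using Subgroup.closure_induction with
  | mem x hx => exact uTau_preserves hU hx
  | one => exact preserves_one
  | mul x y _ _ hx hy => exact hx.mul hy
  | inv x _ hx => exact hx.symm

theorem uGroup_fix {W : Submodule F V} {g : V ≃ₗ[F] V} (h : g ∈ uGroup B W) {u : V}
    (hu : ∀ w ∈ W, B w u = 0) : g u = u := by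
  induction h using Subgroup.closure_induction with
  | mem x hx =>
    obtain ⟨v, c, hv, -, -, hg⟩ := hx
    simp [hg, hu v hv]
  | one => rfl
  | mul x y _ _ hx hy => rw [LinearEquiv.mul_apply, hy, hx]
  | inv x _ hx =>
    have h1 : x.symm (x u) = u := x.symm_apply_apply u
    rw [hx] at h1
    exact h1

theorem exists_uTau {W : Submodule F V} {v : V} (hv : v ∈ W) (hvv : B v v = 0) {c : F}
    (hc : c + σ c = 0) : ∃ g ∈ uGroup B W, ∀ x, g x = x + (c * B v x) • v := by
  have hfv : (c • B v) v = 0 := by simp [hvv]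
  refine ⟨LinearEquiv.transvection hfv, ?_, fun x => by rw [LinearEquiv.transvection.apply]; simp⟩
  exact Subgroup.subset_closure ⟨v, c, hv, hvv, hc, fun x => by rw [LinearEquiv.transvection.apply]; simp⟩

/-- Transitivity in a hyperbolic plane on vectors of a given non-zero norm. -/
theorem hyp_transitive {W : Submodule F V} {e f : V} (he : e ∈ W) (hf : f ∈ W) (hee : B e e = 0)
    (hff : B f f = 0) (hef : B e f = 1) {α β α' β' : F}
    (ha : σ α * β + σ β * α ≠ 0) (heq : σ α * β + σ β * α = σ α' * β' + σ β' * α') :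
    ∃ g ∈ uGroup B W, g (α • e + β • f) = α' • e + β' • f := by
  have hfe : B f e = 1 := by rw [herm_flip hU e f, hef, map_one]
  have htf : ∀ {c : F}, c + σ c = 0 → ∀ α β : F, ∃ g ∈ uGroup B W,
      g (α • e + β • f) = α • e + (β + c * α) • f := by
    intro c hc α β
    obtain ⟨g, hg, hga⟩ := exists_uTau hU hf hff hc
    refine ⟨g, hg, ?_⟩
    simp only [hga, map_add, map_smul, hfe, hff, smul_eq_mul, mul_one, mul_zero, add_zero]
    module
  have hte : ∀ {c : F}, c + σ c = 0 → ∀ α β : F, ∃ g ∈ uGroup B W,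
      g (α • e + β • f) = (α + c * β) • e + β • f := by
    intro c hc α β
    obtain ⟨g, hg, hga⟩ := exists_uTau hU he hee hc
    refine ⟨g, hg, ?_⟩
    simp only [hga, map_add, map_smul, hef, hee, smul_eq_mul, mul_one, mul_zero, zero_add]
    module
  -- from a non-fixed second coordinate
  have step : ∀ α β : F, σ α * β + σ β * α ≠ 0 → σ β ≠ β → ∃ g ∈ uGroup B W, ∃ α'' : F,
      g (α • e + β • f) = α'' • e + (1 : F) • f ∧ α'' + σ α'' = σ α * β + σ β * α := by
    intro α β h hβ
    have hβ0 : β ≠ 0 := fun e => hβ (by simp [e])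
    have hsβ : σ β ≠ 0 := (map_ne_zero σ).2 hβ0
    obtain ⟨i, hi⟩ : ∃ i, i = (β⁻¹ - σ β⁻¹) := ⟨_, rfl⟩
    set r := α / β with hr
    have hαr : α = r * β := by rw [hr, div_mul_cancel₀ _ hβ0]
    have hrt : r + σ r ≠ 0 := by
      intro h0
      apply h
      rw [hαr, map_mul]
      linear_combination (σ β * β) * h0
    set c := i / (r + σ r) with hcdef
    have hc : c + σ c = 0 := by
      simp only [hcdef, hi, map_div₀, map_sub, map_add, hU.tf.invol, add_comm (σ r) r]
      field_simp
      ring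
    have hc0 : c ≠ 0 := by
      refine div_ne_zero (fun h0 => hβ ?_) hrt
      rw [hi, sub_eq_zero, map_inv₀] at h0
      exact (inv_inj.1 h0).symm
    have hmul : c * (r + σ r) = β⁻¹ - σ β⁻¹ := by rw [← hi, hcdef, div_mul_cancel₀ _ hrt]
    set u := β⁻¹ - c * r with hu
    have hufix : σ u = u := by
      rw [hu, map_sub, map_mul]
      linear_combination hmul - (σ r) * hc
    set d := (u - 1) / c with hd
    have hd' : d + σ d = 0 := by
      simp only [hd, map_div₀, map_sub, map_one, hufix]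
      rw [show σ c = -c from by linear_combination hc]
      field_simp
      ring
    obtain ⟨g₁, hg₁, h1⟩ := hte hd' α β
    obtain ⟨g₂, hg₂, h2⟩ := htf hc (α + d * β) β
    have hone : β + c * (α + d * β) = 1 := by
      have : c * d = u - 1 := by rw [hd, mul_div_cancel₀ _ hc0]
      calc β + c * (α + d * β) = c * (r * β) + (1 + c * d) * β := by rw [hαr]; ring
        _ = β⁻¹ * β := by rw [this, hu]; ring
        _ = 1 := inv_mul_cancel₀ hβ0
    refine ⟨g₂ * g₁, mul_mem hg₂ hg₁, α + d * β, ?_, ?_⟩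
    · rw [LinearEquiv.mul_apply, h1, h2, hone]
    · have e := (uGroup_preserves hU (mul_mem hg₂ hg₁)) (α • e + β • f) (α • e + β • f)
      rw [LinearEquiv.mul_apply, h1, h2, hone] at e
      simp only [map_add, map_smulₛₗ, LinearMap.add_apply, LinearMap.smul_apply, smul_eq_mul,
        RingHom.id_apply, hee, hff, hef, hfe, map_one, mul_one, mul_zero, zero_add, add_zero,
        one_mul] at e
      rw [map_add, map_mul]
      simp only [map_add, map_mul] at e
      linear_combination e
  have norm : ∀ α β : F, σ α * β + σ β * α ≠ 0 → ∃ g ∈ uGroup B W, ∃ α'' : F,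
      g (α • e + β • f) = α'' • e + (1 : F) • f ∧ α'' + σ α'' = σ α * β + σ β * α := by
    intro α β h
    by_cases hβ : σ β = β
    · obtain ⟨k, hk0, hk⟩ := exists_skew hU
      obtain ⟨g₀, hg₀, h0⟩ := htf hk α β
      have hβ' : σ (β + k * α) ≠ β + k * α := by
        intro h1
        rw [map_add, map_mul, hβ, show σ k = -k from by linear_combination hk] at h1
        have h2 : k * (σ α + α) = 0 := by linear_combination -h1
        have h3 := (mul_eq_zero.1 h2).resolve_left hk0
        apply h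
        rw [hβ]
        linear_combination β * h3
      have hq : σ α * (β + k * α) + σ (β + k * α) * α = σ α * β + σ β * α := by
        rw [map_add, map_mul]
        linear_combination (σ α * α) * hk
      obtain ⟨g₁, hg₁, α'', h1, h2⟩ := step α (β + k * α) (hq ▸ h) hβ'
      exact ⟨g₁ * g₀, mul_mem hg₁ hg₀, α'', by rw [LinearEquiv.mul_apply, h0, h1], h2.trans hq⟩
    · exact step α β h hβ
  obtain ⟨g₁, hg₁, a₁, h1, t1⟩ := norm α β ha
  obtain ⟨g₂, hg₂, a₂, h2, t2⟩ := norm α' β' (heq ▸ ha)
  obtain ⟨g₃, hg₃, h3⟩ := hte (c := a₂ - a₁) (by rw [map_sub]; linear_combination t2 - t1 - heq) a₁ 1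
  refine ⟨g₂⁻¹ * g₃ * g₁, mul_mem (mul_mem (inv_mem hg₂) hg₃) hg₁, ?_⟩
  rw [LinearEquiv.mul_apply, LinearEquiv.mul_apply, h1, h3, mul_one, add_sub_cancel, ← h2]
  exact g₂.symm_apply_apply _

/-- Transitivity in a plane spanned by two orthogonal anisotropic vectors. -/
theorem plane_transitive {W : Submodule F V} {x z : V} (hx : x ∈ W) (hz : z ∈ W)
    (hxx : B x x ≠ 0) (hxz : B x z = 0) (hzz : B z z ≠ 0) {l m : F}
    (hy : B (l • x + m • z) (l • x + m • z) = B x x) :
    ∃ g ∈ uGroup B W, g x = l • x + m • z := by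
  set a := B x x with hadef
  have hσa : σ a = a := herm_self_fixed hU x
  have hzx : B z x = 0 := by rw [herm_flip hU x z, hxz, map_zero]
  obtain ⟨μ, hμ⟩ := hU.norm_surj (-a / B z z) (by simp [hσa, herm_self_fixed hU z])
  have hμ' : μ * σ μ * B z z = -a := by rw [hμ, div_mul_cancel₀ _ hzz]
  have hμ0 : μ ≠ 0 := fun h => hxx (by simpa [h] using hμ'.symm)
  set e := x + μ • z with hedef
  have hee : B e e = 0 := by
    simp only [hedef, map_add, map_smulₛₗ, LinearMap.add_apply, LinearMap.smul_apply, smul_eq_mul,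
      RingHom.id_apply, ← hadef, hxz, hzx]
    linear_combination hμ'
  have hex : B e x = a := by
    simp [hedef, hzx, ← hadef]
  obtain ⟨t, ht⟩ := exists_trace hU (a := -a⁻¹) (by simp [hσa])
  set f := a⁻¹ • x + t • e with hfdef
  have hxe : B x e = a := by rw [herm_flip hU e x, hex, hσa]
  have hef : B e f = 1 := by
    simp only [hfdef, map_add, map_smul, hex, hee, smul_eq_mul, mul_zero, add_zero]
    exact inv_mul_cancel₀ hxx
  have hff : B f f = 0 := by
    simp only [hfdef, map_add, map_smulₛₗ, LinearMap.add_apply, LinearMap.smul_apply, smul_eq_mul,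
      RingHom.id_apply, ← hadef, hex, hxe, hee, map_inv₀, hσa]
    field_simp
    have h' : a * (t + σ t) = -1 := by rw [ht, mul_neg, mul_inv_cancel₀ hxx]
    linear_combination h'
  have hfe : B f e = 1 := by rw [herm_flip hU e f, hef, map_one]
  have heW : e ∈ W := add_mem hx (W.smul_mem _ hz)
  have hfW : f ∈ W := add_mem (W.smul_mem _ hx) (W.smul_mem _ heW)
  -- coordinates
  have hcoord : ∀ p q : F, ∃ α β : F, p • x + q • z = α • e + β • f := by
    intro p q
    refine ⟨q / μ - (p - q / μ) * a * t, (p - q / μ) * a, ?_⟩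
    simp only [hfdef, hedef]
    match_scalars <;> field_simp <;> ring
  obtain ⟨α, β, hab⟩ := hcoord 1 0
  rw [one_smul, zero_smul, add_zero] at hab
  obtain ⟨α', β', hab'⟩ := hcoord l m
  have hn : ∀ α β : F, B (α • e + β • f) (α • e + β • f) = σ α * β + σ β * α := fun α β => by
    simp only [map_add, map_smulₛₗ, LinearMap.add_apply, LinearMap.smul_apply, smul_eq_mul,
      RingHom.id_apply, hee, hff, hef, hfe]
    ring
  obtain ⟨g, hg, hgx⟩ := hyp_transitive hU heW hfW hee hff hef
    (α := α) (β := β) (α' := α') (β' := β') (by rw [← hn, ← hab]; exact hxx)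
    (by rw [← hn, ← hn, ← hab, ← hab', hy, hadef])
  exact ⟨g, hg, by rw [hab', ← hgx, ← hab]⟩

/-- `x ↦ y` when `span(x, y)` is non-degenerate or a line. -/
theorem pair_transitive {W : Submodule F V} {x y : V} (hx : x ∈ W) (hy : y ∈ W) (hxx : B x x = 1)
    (hyy : B y y = 1) (hz : ∃ z ∈ W, B x z = 0 ∧ B z z ≠ 0)
    (h : B (y - B x y • x) (y - B x y • x) ≠ 0 ∨ y - B x y • x = 0) :
    ∃ g ∈ uGroup B W, g x = y := by
  rcases h with h | h
  · have hw : B x (y - B x y • x) = 0 := by simp [hxx]
    obtain ⟨g, hg, hgx⟩ := plane_transitive hU hx (sub_mem hy (W.smul_mem _ hx)) (by simp [hxx]) hw h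
      (l := B x y) (m := 1) (by rw [one_smul, add_sub_cancel, hyy, hxx])
    exact ⟨g, hg, by rw [hgx, one_smul, add_sub_cancel]⟩
  · obtain ⟨z, hzW, hxz, hzz⟩ := hz
    rw [sub_eq_zero] at h
    obtain ⟨g, hg, hgx⟩ := plane_transitive hU hx hzW (by simp [hxx]) hxz hzz
      (l := B x y) (m := 0) (by rw [zero_smul, add_zero, ← h, hyy, hxx])
    exact ⟨g, hg, by rw [hgx, zero_smul, add_zero, ← h]⟩

omit hU in
/-- `B` is non-degenerate on `W`. -/
def NondegOn (B : V →ₛₗ[σ] V →ₗ[F] F) (W : Submodule F V) : Prop :=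
  ∀ w ∈ W, (∀ u ∈ W, B u w = 0) → w = 0

theorem exists_norm_one {W : Submodule F V} (hW : NondegOn B W) (hne : W ≠ ⊥) :
    ∃ x ∈ W, B x x = 1 := by
  obtain ⟨⟨w, hw⟩, hw0⟩ := W.nonzero_mem_of_bot_lt (bot_lt_iff_ne_bot.2 hne)
  obtain ⟨z, hz, hzz⟩ : ∃ z ∈ W, B z z ≠ 0 := by
    by_contra hc
    push Not at hc
    apply hw0
    ext
    refine hW w hw fun u hu => ?_
    by_contra hne'
    obtain ⟨t, ht⟩ := exists_trace hU (a := 1) (map_one σ)
    have hs := hc (u + (t / B u w) • w) (add_mem hu (W.smul_mem _ hw))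
    simp only [map_add, map_smulₛₗ, LinearMap.add_apply, LinearMap.smul_apply, smul_eq_mul,
      RingHom.id_apply, hc u hu, hc w hw, herm_flip hU u w, map_div₀] at hs
    simp only [mul_zero, zero_add, add_zero, div_mul_cancel₀ _ hne', div_mul_cancel₀ _ ((map_ne_zero σ).2 hne')] at hs
    exact one_ne_zero (α := F) (by linear_combination hs - ht)
  obtain ⟨l, hl⟩ := hU.norm_surj (B z z)⁻¹ (by simp [herm_self_fixed hU z])
  refine ⟨l • z, W.smul_mem _ hz, ?_⟩
  simp only [map_smulₛₗ, LinearMap.smul_apply, smul_eq_mul, RingHom.id_apply]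
  rw [← mul_assoc]
  linear_combination (B z z) * hl + inv_mul_cancel₀ hzz

theorem nondegOn_perp {W : Submodule F V} (hW : NondegOn B W) {x : V} (hx : x ∈ W) (hxx : B x x = 1) :
    NondegOn B (W ⊓ LinearMap.ker (B x)) := by
  rintro w ⟨hwW, hwx⟩ h
  refine hW w hwW fun u hu => ?_
  have h1 := h (u - B x u • x) ⟨sub_mem hu (W.smul_mem _ hx), by simp [hxx]⟩
  have hwx' : B x w = 0 := hwx
  simpa [hwx'] using h1

omit hU in
theorem finrank_inf_ker [FiniteDimensional F V] (W : Submodule F V) (φ : V →ₗ[F] F) :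
    Module.finrank F W ≤ Module.finrank F ↥(W ⊓ LinearMap.ker φ) + 1 := by
  have h1 := Submodule.finrank_sup_add_finrank_inf_eq W (LinearMap.ker φ)
  have h2 := Submodule.finrank_le (W ⊔ LinearMap.ker φ)
  have h3 := φ.finrank_range_add_finrank_ker
  have h4 := Submodule.finrank_le (LinearMap.range φ)
  rw [Module.finrank_self] at h4
  omega

/-- The special move `u ↦ u + r` fixing `x` when all non-zero norms are `1`. -/
theorem small_shift {W : Submodule F V} (hsmall : ∀ ν : F, ν ≠ 0 → ν * σ ν = 1) {x u r : V}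
    (hx : x ∈ W) (hu : u ∈ W) (hr : r ∈ W) (hxx : B x x = 1) (huu : B u u = 1) (hrr : B r r = 0)
    (hxu : B x u = 0) (hxr : B x r = 0) (hur : B u r = 0) :
    ∃ g ∈ uGroup B W, g x = x ∧ g u = u + r := by
  have h2 : (1 : F) + 1 = 0 := by
    obtain ⟨i, hi⟩ := hU.norm_surj (-1) (by simp)
    have := hsmall i (fun h => by simp [h] at hi)
    linear_combination hi - this
  have hux : B u x = 0 := by rw [herm_flip hU x u, hxu, map_zero]
  have hrx : B r x = 0 := by rw [herm_flip hU x r, hxr, map_zero]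
  have hru : B r u = 0 := by rw [herm_flip hU u r, hur, map_zero]
  -- the product of the transvections at `x + l u` and `x + l u + m r`
  have hP : ∀ l : F, l ≠ 0 → ∀ m : F, ∃ g ∈ uGroup B W, g x = x + m • r ∧
      g u = u + (σ l * m) • r ∧ g r = r := by
    intro l hl m
    have hN := hsmall l hl
    have hN' : σ l * l = 1 := by rw [mul_comm]; exact hN
    obtain ⟨g₁, hg₁, h1⟩ := exists_uTau hU (add_mem hx (W.smul_mem l hu))
      (by
        simp only [map_add, map_smulₛₗ, LinearMap.add_apply, LinearMap.smul_apply, smul_eq_mul,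
          RingHom.id_apply, hxx, huu, hxu, hux]
        linear_combination hN + h2)
      (c := 1) (by simpa using h2)
    obtain ⟨g₂, hg₂, h2'⟩ := exists_uTau hU (add_mem (add_mem hx (W.smul_mem l hu)) (W.smul_mem m hr))
      (by
        simp only [map_add, map_smulₛₗ, LinearMap.add_apply, LinearMap.smul_apply, smul_eq_mul,
          RingHom.id_apply, hxx, huu, hxu, hux, hrr, hxr, hrx, hur, hru]
        linear_combination hN + h2)
      (c := 1) (by simpa using h2)
    refine ⟨g₂ * g₁, mul_mem hg₂ hg₁, ?_, ?_, ?_⟩ <;>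
      simp only [LinearEquiv.mul_apply, h1, h2', map_add, map_smulₛₗ, LinearMap.add_apply,
        LinearMap.smul_apply, smul_eq_mul, RingHom.id_apply, hxx, huu, hxu, hux, hrr, hxr, hrx, hur,
        hru, one_mul, mul_one, mul_zero, zero_mul, zero_add, add_zero, zero_smul, one_smul]
    · match_scalars
      · linear_combination hN + 2 * h2
      · linear_combination l * hN + 2 * l * h2
      · linear_combination m * hN + m * h2
    · match_scalars
      · linear_combination (l * σ l + 4) * hN + 2 * h2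
      · linear_combination σ l * hN + 2 * σ l * h2
      · linear_combination (σ l * m) * hN + (σ l * m) * h2
  obtain ⟨d, hd0, hd1⟩ : ∃ d : F, d ≠ 0 ∧ σ d + 1 ≠ 0 := by
    by_contra hc
    push Not at hc
    apply hU.sigma_ne
    ext d
    by_cases hd : d = 0
    · simp [hd]
    · have e1 := hc d hd
      have e2 : σ (σ d + 1) = 0 := by rw [e1, map_zero]
      rw [map_add, map_one, hU.tf.invol] at e2
      simp only [RingHom.id_apply]
      linear_combination e1 - e2
  obtain ⟨g₁, hg₁, ex1, eu1, er1⟩ := hP 1 one_ne_zero (σ d + 1)⁻¹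
  obtain ⟨g₂, hg₂, ex2, eu2, er2⟩ := hP d hd0 (σ d + 1)⁻¹
  refine ⟨g₁ * g₂, mul_mem hg₁ hg₂, ?_, ?_⟩
  · rw [LinearEquiv.mul_apply, ex2, map_add, map_smul, ex1, er1]
    match_scalars
    · ring
    · linear_combination ((σ d + 1)⁻¹) * h2
  · rw [LinearEquiv.mul_apply, eu2, map_add, map_smul, eu1, er1]
    match_scalars
    · ring
    · rw [map_one]; linear_combination (mul_inv_cancel₀ hd1)

variable [FiniteDimensional F V]

/-- Transitivity of the transvection group on vectors of norm one. -/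
theorem norm_one_transitive {W : Submodule F V} (hW : NondegOn B W) (hdim : 2 ≤ Module.finrank F W)
    (hbig : (∃ ν : F, ν ≠ 0 ∧ ν * σ ν ≠ 1) ∨ Module.finrank F W ≠ 3) {x y : V} (hx : x ∈ W)
    (hy : y ∈ W) (hxx : B x x = 1) (hyy : B y y = 1) : ∃ g ∈ uGroup B W, g x = y := by
  set W' := W ⊓ LinearMap.ker (B x) with hW'
  have hW'n := nondegOn_perp hU hW hx hxx
  have hne : W' ≠ ⊥ := fun h => by
    have := finrank_inf_ker W (B x)
    rw [← hW', h, finrank_bot] at this
    omega
  obtain ⟨z₀, hz₀, hz₀1⟩ := exists_norm_one hU hW'n hne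
  have hz : ∃ z ∈ W, B x z = 0 ∧ B z z ≠ 0 := ⟨z₀, hz₀.1, hz₀.2, by simp [hz₀1]⟩
  set r := y - B x y • x with hr
  by_cases h : B r r ≠ 0 ∨ r = 0
  · exact pair_transitive hU hx hy hxx hyy hz h
  push Not at h
  obtain ⟨hrr, hr0⟩ := h
  have hrW : r ∈ W' := ⟨sub_mem hy (W.smul_mem _ hx), by simp [hr, hxx]⟩
  obtain ⟨f₀, hf₀, hrf₀⟩ : ∃ f₀ ∈ W', B f₀ r ≠ 0 := by
    by_contra hc
    push Not at hc
    exact hr0 (hW'n r hrW hc)
  have hrf₀' : B r f₀ ≠ 0 := fun e => hrf₀ (by rw [herm_flip hU r f₀, e, map_zero])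
  set f₁ := (B r f₀)⁻¹ • f₀ with hf₁
  have hrf₁ : B r f₁ = 1 := by simp [hf₁, hrf₀']
  obtain ⟨t, ht⟩ := exists_trace hU (a := -B f₁ f₁) (by simp [herm_self_fixed hU f₁])
  set f := f₁ + t • r with hf
  have hf₁r : B f₁ r = 1 := by rw [herm_flip hU r f₁, hrf₁, map_one]
  have hrf : B r f = 1 := by simp [hf, hrf₁, hrr]
  have hff : B f f = 0 := by
    simp only [hf, map_add, map_smulₛₗ, LinearMap.add_apply, LinearMap.smul_apply, smul_eq_mul,
      RingHom.id_apply, hrr, hrf₁, hf₁r]
    linear_combination ht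
  have hfW : f ∈ W' := add_mem (W'.smul_mem _ hf₀) (W'.smul_mem _ hrW)
  have hfr : B f r = 1 := by rw [herm_flip hU r f, hrf, map_one]
  obtain ⟨z, ν, hzW, hzz, hrz, hν⟩ : ∃ z ν, z ∈ W' ∧ B z z = 1 ∧ B r z = ν ∧ ν * σ ν ≠ 1 := by
    rcases hbig with ⟨ν, hν0, hν⟩ | hbig
    · obtain ⟨s, hs⟩ := exists_trace hU (a := 1) (map_one σ)
      have hsν : σ ν ≠ 0 := (map_ne_zero σ).2 hν0
      refine ⟨(s / σ ν) • r + ν • f, ν, add_mem (W'.smul_mem _ hrW) (W'.smul_mem _ hfW), ?_, ?_, hν⟩
      · simp only [map_add, map_smulₛₗ, LinearMap.add_apply, LinearMap.smul_apply, smul_eq_mul,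
          RingHom.id_apply, hrr, hrf, hff, hfr, map_div₀, hU.tf.invol]
        field_simp
        linear_combination (ν * σ ν) * hs
      · simp [hrr, hrf]
    · set W'' := W' ⊓ LinearMap.ker (B r) ⊓ LinearMap.ker (B f) with hW''
      have hn : NondegOn B W'' := by
        rintro w ⟨⟨hw1, hw2⟩, hw3⟩ hw
        refine hW'n w hw1 fun u hu => ?_
        have hw2' : B r w = 0 := hw2
        have hw3' : B f w = 0 := hw3
        have h1 := hw (u - B f u • r - B r u • f)
          ⟨⟨sub_mem (sub_mem hu (W'.smul_mem _ hrW)) (W'.smul_mem _ hfW), by simp [hrr, hrf]⟩,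
            by simp [hff, hfr]⟩
        simpa [hw2', hw3'] using h1
      have h4 : 4 ≤ Module.finrank F W := by
        by_contra h4
        have hW2 : Module.finrank F W = 2 := by omega
        have hlt : Module.finrank F W' < Module.finrank F W := by
          refine Submodule.finrank_lt_finrank_of_lt (lt_of_le_of_ne inf_le_left fun e => ?_)
          have hxW' : x ∈ W' := e.symm ▸ hx
          exact one_ne_zero (hxx.symm.trans hxW'.2)
        have h1 := finrank_inf_ker W (B x)
        rw [← hW'] at h1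
        obtain ⟨c, hc⟩ := (finrank_eq_one_iff_of_nonzero' (⟨r, hrW⟩ : W')
          (fun e => hr0 (congrArg Subtype.val e))).1 (show Module.finrank F W' = 1 by omega) ⟨f, hfW⟩
        have hc' : c • r = f := congrArg Subtype.val hc
        rw [← hc', map_smul, hrr, smul_zero] at hrf
        exact zero_ne_one hrf
      have hne'' : W'' ≠ ⊥ := fun e => by
        have h1 := finrank_inf_ker W (B x)
        have h2 := finrank_inf_ker W' (B r)
        have h3 := finrank_inf_ker (W' ⊓ LinearMap.ker (B r)) (B f)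
        rw [← hW''] at h3
        rw [e, finrank_bot] at h3
        rw [← hW'] at h1
        omega
      obtain ⟨z, hz1, hz2⟩ := exists_norm_one hU hn hne''
      exact ⟨z, 0, hz1.1.1, hz2, hz1.1.2, by simp⟩
  have hxz : B x z = 0 := hzW.2
  obtain ⟨g₁, hg₁, h1⟩ := plane_transitive hU hx hzW.1 (by simp [hxx]) hxz (by simp [hzz])
    (l := 0) (m := 1) (by simp [hxx, hzz])
  have hzy : B z y = σ ν := by
    have hzx : B z x = 0 := by rw [herm_flip hU x z, hxz, map_zero]
    rw [show y = B x y • x + r by rw [hr, add_sub_cancel]]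
    simp [hzx, herm_flip hU r z, hrz]
  obtain ⟨g₂, hg₂, h2⟩ := pair_transitive hU hzW.1 hy hzz hyy
    ⟨x, hx, by rw [herm_flip hU x z, hxz, map_zero], by simp [hxx]⟩ (Or.inl (by
      simp only [map_sub, map_smulₛₗ, LinearMap.sub_apply, LinearMap.smul_apply, smul_eq_mul,
        RingHom.id_apply, hzz, hyy, hzy, hU.tf.invol, herm_flip hU z y]
      intro e
      exact hν (by linear_combination -e)))
  refine ⟨g₂ * g₁, mul_mem hg₂ hg₁, ?_⟩
  rw [LinearEquiv.mul_apply, h1, zero_smul, one_smul, zero_add, h2]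

/-- Isometries of determinant one are products of transvections. -/
theorem mem_uGroup_of_fix (W : Submodule F V) :
    NondegOn B W → ((∃ ν : F, ν ≠ 0 ∧ ν * σ ν ≠ 1) ∨ Module.finrank F W ≠ 3) →
      ∀ g : V ≃ₗ[F] V, Preserves B g → g.det = 1 → (∀ v, (∀ w ∈ W, B w v = 0) → g v = v) →
        g ∈ uGroup B ⊤ := by
  induction hk : Module.finrank F W using Nat.strong_induction_on generalizing W with
  | h k ih =>
    intro hW hbig g hg hdet hfix
    have hmap : ∀ w ∈ W, g w ∈ W := by
      intro w hw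
      by_contra hn
      obtain ⟨z, hz1, hz2⟩ := hU.tf.exists_sep hn
      have hz : ∀ w ∈ W, B w z = 0 := fun w hw => by rw [herm_flip hU z w, hz1 w hw, map_zero]
      have h := hg z w
      rw [hfix z hz, hz2, hz1 w hw] at h
      exact one_ne_zero h
    by_cases hk0 : k = 0
    · have : g = 1 := by
        ext v
        refine hfix v fun w hw => ?_
        have hW0 : W = ⊥ := Submodule.finrank_eq_zero.1 (hk.trans hk0)
        rw [hW0, Submodule.mem_bot] at hw
        simp [hw]
      rw [this]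
      exact one_mem _
    obtain ⟨x, hx, hxx⟩ := exists_norm_one hU hW (fun h => hk0 (by rw [← hk, h, finrank_bot]))
    have hx0 : x ≠ 0 := fun h => by simp [h] at hxx
    by_cases hk1 : k = 1
    · -- `g` is a dilatation in the line `W`
      obtain ⟨l, hl⟩ : ∃ l : F, l • x = g x := by
        obtain ⟨l, hl⟩ := (finrank_eq_one_iff_of_nonzero' (⟨x, hx⟩ : W) (fun h =>
          hx0 (congrArg Subtype.val h))).1 (hk.trans hk1) ⟨g x, hmap x hx⟩
        exact ⟨l, congrArg Subtype.val hl⟩
      have hgt : (g : V →ₗ[F] V) = LinearMap.transvection ((l - 1) • B x) x := by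
        ext v
        rw [LinearMap.transvection.apply]
        have hv : g (v - B x v • x) = v - B x v • x := hfix _ fun w hw => by
          obtain ⟨c, hc⟩ := (finrank_eq_one_iff_of_nonzero' (⟨x, hx⟩ : W) (fun h =>
            hx0 (congrArg Subtype.val h))).1 (hk.trans hk1) ⟨w, hw⟩
          have hc' : c • x = w := congrArg Subtype.val hc
          simp [← hc', hxx]
        rw [map_sub, map_smul, ← hl] at hv
        simp only [LinearEquiv.coe_coe, LinearMap.smul_apply, smul_eq_mul]
        linear_combination (norm := module) hv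
      have hl1 : l = 1 := by
        have h := congrArg LinearMap.det hgt
        rw [LinearMap.transvection.det, ← LinearEquiv.coe_det, hdet] at h
        simp [hxx] at h
        linear_combination -h
      have : g = 1 := LinearEquiv.toLinearMap_injective (hgt.trans (by ext v; simp [hl1, LinearMap.transvection.apply]))
      rw [this]
      exact one_mem _
    -- descend
    have hdesc : ∀ (W : Submodule F V), NondegOn B W → ∀ x ∈ W, B x x = 1 →
        Module.finrank F W ≤ k →
        ((∃ ν : F, ν ≠ 0 ∧ ν * σ ν ≠ 1) ∨ Module.finrank F ↥(W ⊓ LinearMap.ker (B x)) ≠ 3) →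
        ∀ g : V ≃ₗ[F] V, Preserves B g → g.det = 1 → (∀ v, (∀ w ∈ W, B w v = 0) → g v = v) →
        g x = x → g ∈ uGroup B ⊤ := by
      intro W hW x hx hxx hWk hbig g hg hdet hfix hgx
      have hlt : Module.finrank F ↥(W ⊓ LinearMap.ker (B x)) < Module.finrank F W := by
        refine Submodule.finrank_lt_finrank_of_lt (lt_of_le_of_ne inf_le_left fun e => ?_)
        have : x ∈ W ⊓ LinearMap.ker (B x) := e.symm ▸ hx
        exact one_ne_zero (hxx.symm.trans this.2)
      refine ih _ (lt_of_lt_of_le hlt hWk) _ rfl (nondegOn_perp hU hW hx hxx) hbig g hg hdet ?_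
      intro v hv
      have h1 : g (v - B x v • x) = v - B x v • x := hfix _ fun w hw => by
        have h2 := hv (w - B x w • x) ⟨sub_mem hw (W.smul_mem _ hx), by simp [hxx]⟩
        simp only [map_sub, map_smulₛₗ, LinearMap.sub_apply, LinearMap.smul_apply, smul_eq_mul,
          RingHom.id_apply] at h2 ⊢
        rw [herm_flip hU x w]
        linear_combination h2
      rw [map_sub, map_smul, hgx] at h1
      exact sub_left_inj.1 h1
    have hdetT : ∀ t ∈ uGroup B W, t.det = 1 := by
      intro t ht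
      induction ht using Subgroup.closure_induction with
      | mem a ha => exact ha.det_eq
      | one => exact map_one _
      | mul a b _ _ ha hb => rw [map_mul, ha, hb, one_mul]
      | inv a _ ha => rw [map_inv, ha, inv_one]
    have hpeel : ∀ t ∈ uGroup B W, ∀ h : V ≃ₗ[F] V, Preserves B h → h.det = 1 →
        (∀ v, (∀ w ∈ W, B w v = 0) → h v = v) → Preserves B (t⁻¹ * h) ∧ (t⁻¹ * h).det = 1 ∧
          ∀ v, (∀ w ∈ W, B w v = 0) → (t⁻¹ * h) v = v := fun t ht h hp hd hf =>
      ⟨(uGroup_preserves hU (inv_mem ht)).mul hp, by rw [map_mul, map_inv, hdetT t ht, hd, inv_one, one_mul],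
        fun v hv => by rw [LinearEquiv.mul_apply, hf v hv]; exact uGroup_fix hU (inv_mem ht) hv⟩
    obtain ⟨t, ht, htx⟩ : ∃ t ∈ uGroup B W, t x = g x :=
      norm_one_transitive hU hW (by omega) (hbig.imp_right (by omega)) hx (hmap x hx) hxx
        (by rw [hg, hxx])
    obtain ⟨hg', hdet', hfix'⟩ := hpeel t ht g hg hdet hfix
    have hgx : (t⁻¹ * g) x = x := by
      rw [LinearEquiv.mul_apply, ← htx]
      exact t.symm_apply_apply x
    refine (mul_mem_cancel_left (inv_mem (uGroup_mono le_top ht))).1 ?_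
    by_cases hcase : (∃ ν : F, ν ≠ 0 ∧ ν * σ ν ≠ 1) ∨
        Module.finrank F ↥(W ⊓ LinearMap.ker (B x)) ≠ 3
    · exact hdesc W hW x hx hxx hk.le hcase _ hg' hdet' hfix' hgx
    push Not at hcase
    obtain ⟨hsmall, h3⟩ := hcase
    set g' := t⁻¹ * g with hg'def
    set W' := W ⊓ LinearMap.ker (B x) with hW'
    have hW'n := nondegOn_perp hU hW hx hxx
    obtain ⟨y, hy, hyy⟩ := exists_norm_one hU hW'n (fun e => by rw [show W' = ⊥ from e, finrank_bot] at h3; omega)
    have hne'' : W' ⊓ LinearMap.ker (B y) ≠ ⊥ := fun e => by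
      have := finrank_inf_ker W' (B y)
      rw [e, finrank_bot] at this
      omega
    obtain ⟨z, hz, hzz⟩ := exists_norm_one hU (nondegOn_perp hU hW'n hy hyy) hne''
    have hfixW' : ∀ v, (∀ w ∈ W', B w v = 0) → g' v = v := by
      intro v hv
      have h1 : g' (v - B x v • x) = v - B x v • x := hfix' _ fun w hw => by
        have h2 := hv (w - B x w • x) ⟨sub_mem hw (W.smul_mem _ hx), by simp [hxx]⟩
        simp only [map_sub, map_smulₛₗ, LinearMap.sub_apply, LinearMap.smul_apply, smul_eq_mul,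
          RingHom.id_apply] at h2 ⊢
        rw [herm_flip hU x w]
        linear_combination h2
      rw [map_sub, map_smul, hgx] at h1
      exact sub_left_inj.1 h1
    have hmap' : g' y ∈ W' := by
      refine ⟨?_, ?_⟩
      · by_contra hn
        obtain ⟨p, hp1, hp2⟩ := hU.tf.exists_sep hn
        have h := hg' p y
        rw [hfix' p (fun w hw => by rw [herm_flip hU p w, hp1 w hw, map_zero]), hp2, hp1 y hy.1] at h
        exact one_ne_zero h
      · show B x (g' y) = 0
        rw [← hgx, hg']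
        exact hy.2
    set y' := g' y with hy'def
    have hy'y' : B y' y' = 1 := by rw [hy'def, hg', hyy]
    obtain ⟨s, hs, hsx, hsy⟩ : ∃ s ∈ uGroup B W, s x = x ∧ s y = y' := by
      have hfixx : ∀ s ∈ uGroup B W', s x = x := fun s hs => uGroup_fix hU hs fun w hw => by
        rw [herm_flip hU x w, show B x w = 0 from hw.2, map_zero]
      have hzex : ∃ z ∈ W', B y z = 0 ∧ B z z ≠ 0 := ⟨z, hz.1, hz.2, by simp [hzz]⟩
      set r := y' - B y y' • y with hr
      by_cases h : B r r ≠ 0 ∨ r = 0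
      · obtain ⟨s, hs, hsy⟩ := pair_transitive hU hy hmap' hyy hy'y' hzex h
        exact ⟨s, uGroup_mono inf_le_left hs, hfixx s hs, hsy⟩
      push Not at h
      obtain ⟨hrr, hr0⟩ := h
      have hb : B y y' ≠ 0 := fun e => by simp [hr, e, hy'y'] at hrr
      have hN := hsmall _ hb
      obtain ⟨s₁, hs₁, hsy₁⟩ := pair_transitive hU (y := B y y' • y) hy (W'.smul_mem _ hy) hyy
        (by simp [hyy, mul_comm (σ _), hN]) hzex (Or.inr (by simp [hyy]))
      have hrW : r ∈ W' := sub_mem hmap' (W'.smul_mem _ hy)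
      obtain ⟨s₂, hs₂, hx₂, hu₂⟩ := small_shift hU (W := W) hsmall (x := x) (u := B y y' • y) (r := r)
        hx (W.smul_mem _ hy.1) hrW.1 hxx (by simp [hyy, mul_comm (σ _), hN]) hrr
        (by simp [show B x y = 0 from hy.2]) hrW.2 (by simp [hr, hyy])
      refine ⟨s₂ * s₁, mul_mem hs₂ (uGroup_mono inf_le_left hs₁), ?_, ?_⟩
      · rw [LinearEquiv.mul_apply, hfixx s₁ hs₁, hx₂]
      · rw [LinearEquiv.mul_apply, hsy₁, hu₂, hr, add_sub_cancel]
    refine (mul_mem_cancel_left (inv_mem (uGroup_mono le_top hs))).1 ?_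
    obtain ⟨hp, hd, hf⟩ := hpeel s hs g' hg' hdet' hfix'
    have hsx' : (s⁻¹ * g') x = x := by
      rw [LinearEquiv.mul_apply, hgx]
      exact (s.symm_apply_eq).2 hsx.symm
    have hW'k : Module.finrank F W' ≤ k := hk ▸ Submodule.finrank_mono inf_le_left
    refine hdesc W' hW'n y hy hyy hW'k (Or.inr (fun e => ?_)) _ hp hd ?_ ?_
    · have hlt : Module.finrank F ↥(W' ⊓ LinearMap.ker (B y)) < Module.finrank F W' := by
        refine Submodule.finrank_lt_finrank_of_lt (lt_of_le_of_ne inf_le_left fun e => ?_)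
        have : y ∈ W' ⊓ LinearMap.ker (B y) := e.symm ▸ hy
        exact one_ne_zero (hyy.symm.trans this.2)
      omega
    · intro v hv
      have h1 : (s⁻¹ * g') (v - B x v • x) = v - B x v • x := hf _ fun w hw => by
        have h2 := hv (w - B x w • x) ⟨sub_mem hw (W.smul_mem _ hx), by simp [hxx]⟩
        simp only [map_sub, map_smulₛₗ, LinearMap.sub_apply, LinearMap.smul_apply, smul_eq_mul,
          RingHom.id_apply] at h2 ⊢
        rw [herm_flip hU x w]
        linear_combination h2
      rw [map_sub, map_smul, hsx'] at h1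
      exact sub_left_inj.1 h1
    · rw [LinearEquiv.mul_apply]
      exact (s.symm_apply_eq).2 hsy.symm

/-- The special unitary group is generated by transvections. -/
theorem mem_uGroup_top (h : (∃ ν : F, ν ≠ 0 ∧ ν * σ ν ≠ 1) ∨ Module.finrank F V ≠ 3)
    {g : V ≃ₗ[F] V} (hg : Preserves B g) (hdet : g.det = 1) : g ∈ uGroup B ⊤ := by
  refine mem_uGroup_of_fix hU ⊤ (fun w _ hw => hU.tf.nondeg w fun u => ?_)
    (h.imp_right (by simp)) g hg hdet fun v hv => ?_
  · rw [herm_flip hU u w, hw u trivial, map_zero]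
  · rw [hU.tf.nondeg v fun u => by rw [herm_flip hU u v, hv u trivial, map_zero], map_zero]

end Cfsg.Agent.FormsLib
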