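import Cfsg.Agent.Lib.AutPSU.Basic
import Cfsg.Agent.Lib.LinearGroups.UnitaryOrder
import Cfsg.Agent.Lib.Forms.Orthonormal
import Cfsg.Agent.Lib.FormCentral.Unitary

/-!
Stabilisers of totally isotropic subspaces in the unitary groups, by counting isotropic tuples.
-/

set_option autoImplicit false
set_option linter.style.haveILetI false
set_option linter.unusedSectionVars false
set_option linter.unusedSimpArgs false

namespace Cfsg.Agent.UnitaryParabolic

open scoped Matrix
open Cfsg.Agent.AutPSU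

variable {F : Type*} [Field F] {q n k : ℕ} [hQ : QField F q]

local notation "Vn" => Fin n → F
local notation "σ" => qb (F := F) q
local notation "H" => Cfsg.hermForm n F q
set_option quotPrecheck false in
local notation "GUn" => ↥(Cfsg.GU n F q)

/-- Independent `k`-tuples spanning a totally isotropic subspace. -/
def Tup (n k : ℕ) (F : Type*) [Field F] (q : ℕ) : Type _ :=
  {e : Fin k → Fin n → F // LinearIndependent F e ∧ ∀ i j, Cfsg.hermForm n F q (e i) (e j) = 0}

theorem gu_pres (A : GUn) (u v : Vn) : H (A.1.1 *ᵥ u) (A.1.1 *ᵥ v) = H u v := A.2 u v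

theorem mulVec_inv_mulVec (A : GUn) (v : Vn) : (A⁻¹ : GUn).1.1 *ᵥ (A.1.1 *ᵥ v) = v := by
  rw [Matrix.mulVec_mulVec, ← Units.val_mul, ← Subgroup.coe_mul, inv_mul_cancel, Subgroup.coe_one,
    Units.val_one, Matrix.one_mulVec]

theorem mulVec_injective (A : GUn) : Function.Injective fun v : Vn => A.1.1 *ᵥ v :=
  Function.LeftInverse.injective (g := fun v => (A⁻¹ : GUn).1.1 *ᵥ v) (mulVec_inv_mulVec A)

/-- The action on tuples. -/
def act (A : GUn) (e : Tup n k F q) : Tup n k F q :=
  ⟨fun i => A.1.1 *ᵥ e.1 i,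
    e.2.1.map' (Matrix.mulVecLin A.1.1) (LinearMap.ker_eq_bot.2 (mulVec_injective A)),
    fun i j => by rw [gu_pres]; exact e.2.2 i j⟩

theorem act_one (e : Tup n k F q) : act (1 : GUn) e = e :=
  Subtype.ext (funext fun i => by simp [act])

theorem act_mul (A B : GUn) (e : Tup n k F q) : act (A * B) e = act A (act B e) :=
  Subtype.ext (funext fun i => by simp [act, Matrix.mulVec_mulVec])

variable [Fintype F]

omit hQ in
theorem card_of (hQ : QField F q) : Fintype.card F = q ^ 2 := by rw [← Nat.card_eq_fintype_card]; exact hQ.card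

theorem hermB_eq (u v : Vn) : FormsLib.hermB n ((σ : F ≃+* F) : F →+* F) u v = H v u :=
  FormsLib.hermB_apply (fun x => qb_apply x) u v

theorem witt_tup (e e' : Tup n k F q) : ∃ A : GUn, act A e = e' := by
  classical
  obtain ⟨hU, -⟩ : FormsLib.IsUnitaryForm ((σ : F ≃+* F) : F →+* F)
      (FormsLib.hermB n ((σ : F ≃+* F) : F →+* F)) ∧ _ :=
    FormsLib.hermB_isUnitary (card_of hQ) n (fun x => qb_apply x) (fun x => qb_qb x) (two_le_q (F := F))
  let b := Module.Basis.span e.2.1
  let φ : Submodule.span F (Set.range e.1) →ₗ[F] Vn := b.constr F e'.1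
  have hφb : ∀ i, φ (b i) = e'.1 i := fun i => b.constr_basis F _ i
  have hinj : Function.Injective φ := by
    rw [← LinearMap.ker_eq_bot, LinearMap.ker_eq_bot']
    intro x hx
    rw [← b.sum_repr x, map_sum] at hx
    simp only [map_smul, hφb] at hx
    have := Fintype.linearIndependent_iff.1 e'.2.1 _ hx
    rw [← b.sum_repr x]
    exact Finset.sum_eq_zero fun i _ => by rw [this i, zero_smul]
  have hzero : ∀ (a : Tup n k F q) (x y : Vn), x ∈ Submodule.span F (Set.range a.1) →
      y ∈ Submodule.span F (Set.range a.1) → H x y = 0 := by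
    intro a x y hx hy
    induction hx using Submodule.span_induction with
    | mem x hx =>
      obtain ⟨i, rfl⟩ := hx
      induction hy using Submodule.span_induction with
      | mem y hy => obtain ⟨j, rfl⟩ := hy; exact a.2.2 i j
      | zero => simp
      | add y y' _ _ h h' => simp [h, h']
      | smul c y _ h => simp [h]
    | zero => simp
    | add x x' _ _ h h' => simp [h, h']
    | smul c x _ h => simp [h]
  have hrange : ∀ x, φ x ∈ Submodule.span F (Set.range e'.1) := by
    intro x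
    rw [← b.sum_repr x, map_sum]
    exact Submodule.sum_mem _ fun i _ => by
      rw [map_smul, hφb]; exact Submodule.smul_mem _ _ (Submodule.subset_span ⟨i, rfl⟩)
  obtain ⟨g, hg, hgx⟩ := hU.tf.witt _ φ hinj (fun x y => by
    rw [hermB_eq, hermB_eq, hzero e' _ _ (hrange y) (hrange x), hzero e _ _ y.2 x.2])
  refine ⟨⟨Matrix.GeneralLinearGroup.toLin.symm (LinearMap.GeneralLinearGroup.ofLinearEquiv g), fun x y => ?_⟩,
    Subtype.ext (funext fun i => ?_)⟩
  · show H (LinearMap.toMatrix' g.toLinearMap *ᵥ x) (LinearMap.toMatrix' g.toLinearMap *ᵥ y) = H x y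
    rw [LinearMap.toMatrix'_mulVec, LinearMap.toMatrix'_mulVec, ← hermB_eq, ← hermB_eq]
    exact hg y x
  · show LinearMap.toMatrix' g.toLinearMap *ᵥ e.1 i = e'.1 i
    rw [LinearMap.toMatrix'_mulVec]
    have h := hgx (b i)
    rw [hφb, Module.Basis.span_apply] at h
    exact h

/-- Counting elements by the image of a tuple. -/
theorem card_image_mem (e₀ : Tup n k F q) (S : Set (Tup n k F q)) :
    Nat.card {A : GUn // act A e₀ ∈ S} = Nat.card S * Nat.card {A : GUn // act A e₀ = e₀} := by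
  choose c hc using fun e => witt_tup e₀ e
  rw [← Nat.card_prod]
  refine Nat.card_congr
    { toFun := fun A => (⟨act A.1 e₀, A.2⟩, ⟨(c (act A.1 e₀))⁻¹ * A.1, ?_⟩)
      invFun := fun p => ⟨c p.1.1 * p.2.1, by rw [act_mul, p.2.2, hc]; exact p.1.2⟩
      left_inv := fun A => Subtype.ext (mul_inv_cancel_left _ _)
      right_inv := fun p => ?_ }
  · have h := congrArg (act (c (act A.1 e₀))⁻¹) (hc (act A.1 e₀))
    rw [← act_mul, inv_mul_cancel, act_one] at h
    rw [act_mul]
    exact h.symm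
  · have h : act (c p.1.1 * p.2.1) e₀ = p.1.1 := by rw [act_mul, p.2.2, hc]
    refine Prod.ext (Subtype.ext h) (Subtype.ext ?_)
    show (c (act (c p.1.1 * p.2.1) e₀))⁻¹ * (c p.1.1 * p.2.1) = p.2.1
    rw [h, inv_mul_cancel_left]

theorem card_fix (e₀ : Tup n k F q) :
    Nat.card (Tup n k F q) * Nat.card {A : GUn // act A e₀ = e₀} = Nat.card GUn := by
  have h := card_image_mem e₀ Set.univ
  rw [Nat.card_congr (Equiv.Set.univ _),
    Nat.card_congr (Equiv.subtypeUnivEquiv fun A : GUn => Set.mem_univ (act A e₀))] at h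
  exact h.symm

/-- `q ^ j - (-1) ^ j`. -/
def ff (q j : ℕ) : ℕ := if Even j then q ^ j - 1 else q ^ j + 1

/-- The product in the order of `GU`. -/
def PP (q d : ℕ) : ℕ := ∏ i ∈ Finset.range d, (if Even i then q ^ (i + 1) + 1 else q ^ (i + 1) - 1)

omit [Field F] hQ [Fintype F] in
theorem PP_succ (q d : ℕ) : PP q (d + 1) = PP q d * ff q (d + 1) := by
  rw [PP, Finset.prod_range_succ, ← PP, ff]
  by_cases h : Even d <;> simp [h, Nat.even_add_one]

theorem card_iso (d : ℕ) :
    Nat.card {c : Fin d → F // Cfsg.hermForm d F q c c = 0} = ff q d * ff q (d - 1) + 1 := by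
  classical
  have hq : 2 ≤ q := two_le_q (F := F)
  have h := FormCount.card_herm (q := q) (card_of hQ) d (0 : F) (zero_pow (by omega))
  rw [if_pos rfl, mul_one] at h
  rcases d with _ | d
  · have h' : (q : ℤ) * Nat.card {c : Fin 0 → F // Cfsg.hermForm 0 F q c c = 0} = (q : ℤ) * 1 :=
      h.trans (by simp)
    rw [Int.ofNat_inj.1 (mul_left_cancel₀ (Int.ofNat_ne_zero.2 (by omega)) h')]
    simp [ff]
  · rw [Nat.add_sub_cancel]
    refine Int.ofNat_inj.1 (mul_left_cancel₀ (show (q : ℤ) ≠ 0 by exact_mod_cast (by omega : q ≠ 0)) (h.trans ?_))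
    have h1 : ∀ j, 1 ≤ q ^ j := fun j => Nat.one_le_pow _ _ (by omega)
    rcases Nat.even_or_odd d with hd | hd
    · rw [ff, ff, if_pos hd, if_neg (by simpa [Nat.even_add_one] using hd), hd.add_one.neg_one_pow]
      push_cast [h1]
      ring
    · have hd' : Even (d + 1) := hd.add_one
      rw [ff, ff, if_pos hd', if_neg (Nat.not_even_iff_odd.2 hd), hd'.neg_one_pow]
      push_cast [h1]
      ring

/-- The common perpendicular of a tuple. -/
noncomputable def perp (q : ℕ) [QField F q] (e : Fin k → Vn) : Submodule F Vn :=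
  LinearMap.ker (LinearMap.pi fun i => Hl (q := q) (e i))

omit [Fintype F] in
theorem mem_perp {e : Fin k → Vn} {v : Vn} : v ∈ perp q e ↔ ∀ i, H v (e i) = 0 := by
  simp [perp, funext_iff]

omit [Fintype F] in
theorem span_le_perp (e : Tup n k F q) : Submodule.span F (Set.range e.1) ≤ perp q e.1 := by
  rw [Submodule.span_le]
  rintro _ ⟨i, rfl⟩
  exact mem_perp.2 fun j => e.2.2 i j

omit [Fintype F] in
theorem finrank_perp (e : Tup n k F q) : Module.finrank F (perp q e.1) + k = n := by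
  classical
  set L := LinearMap.pi fun i => Hl (q := q) (e.1 i) with hL
  have hsurj : Function.Surjective L := by
    rw [← LinearMap.range_eq_top, Submodule.eq_top_iff']
    intro c
    by_contra hc
    obtain ⟨f, hfc, hf0⟩ := Submodule.exists_dual_map_eq_bot_of_notMem hc inferInstance
    have hfz : ∀ v, f (L v) = 0 := fun v => by
      have : f (L v) ∈ Submodule.map f (LinearMap.range L) := Submodule.mem_map_of_mem (LinearMap.mem_range_self L v)
      rwa [hf0, Submodule.mem_bot] at this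
    have hfsum : ∀ y : Fin k → F, f y = ∑ i, y i * f (Pi.single i 1) := by
      intro y
      conv_lhs => rw [pi_eq_sum_univ' y, map_sum]
      exact Finset.sum_congr rfl fun i _ => by rw [map_smul, smul_eq_mul]
    have hx : (∑ i, σ (f (Pi.single i 1)) • e.1 i) = 0 := by
      refine eq_zero_of_orth (q := q) fun v => ?_
      refine Eq.trans ?_ ((hfsum (L v)).symm.trans (hfz v))
      simp only [hL, LinearMap.pi_apply, Hl_apply, H_eq, Finset.sum_apply, Pi.smul_apply, smul_eq_mul, map_sum,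
        map_mul, qb_qb, Finset.mul_sum, Finset.sum_mul]
      rw [Finset.sum_comm]
      exact Finset.sum_congr rfl fun i _ => Finset.sum_congr rfl fun j _ => by ring
    have h0 := Fintype.linearIndependent_iff.1 e.2.1 _ hx
    refine hfc ?_
    rw [hfsum]
    refine Finset.sum_eq_zero fun i _ => ?_
    rw [(map_eq_zero _).1 (h0 i), mul_zero]
  have := L.finrank_range_add_finrank_ker
  rw [LinearMap.range_eq_top.2 hsurj, finrank_top] at this
  simp only [Module.finrank_pi, Fintype.card_fin] at this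
  show Module.finrank F (LinearMap.ker L) + _ = _
  omega

omit [Fintype F] in
theorem mem_span_of_orth_perp (e : Tup n k F q) {v : Vn} (h : ∀ u ∈ perp q e.1, H u v = 0) :
    v ∈ Submodule.span F (Set.range e.1) := by
  have hmem : Hl (q := q) v ∈ Submodule.span F (Set.range fun i => Hl (q := q) (e.1 i)) := by
    refine mem_span_of_iInf_ker_le_ker fun x hx => ?_
    simp only [Submodule.mem_iInf, LinearMap.mem_ker, Hl_apply] at hx ⊢
    exact h x (mem_perp.2 hx)
  obtain ⟨c, hc⟩ := (Submodule.mem_span_range_iff_exists_fun F).1 hmem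
  have hv : v = ∑ i, σ (c i) • e.1 i := by
    rw [← sub_eq_zero]
    refine eq_zero_of_orth (q := q) fun u => ?_
    have := congrArg (fun f : Vn →ₗ[F] F => f u) hc
    simp only [LinearMap.sum_apply, LinearMap.smul_apply, smul_eq_mul, Hl_apply] at this
    rw [H_sub_right, ← this]
    simp only [H_eq, Finset.sum_apply, Pi.smul_apply, smul_eq_mul, map_sum, map_mul, qb_qb, Finset.mul_sum]
    rw [Finset.sum_comm, sub_eq_zero]
    exact Finset.sum_congr rfl fun i _ => Finset.sum_congr rfl fun j _ => by ring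
  rw [hv]
  exact Submodule.sum_mem _ fun i _ => Submodule.smul_mem _ _ (Submodule.subset_span ⟨i, rfl⟩)

/-- The isotropic vectors of `perp e`. -/
theorem card_iso_perp (e : Tup n k F q) :
    2 * k ≤ n ∧ Nat.card {v : Vn // v ∈ perp q e.1 ∧ H v v = 0} =
      q ^ (2 * k) * (ff q (n - 2 * k) * ff q (n - 2 * k - 1) + 1) := by
  classical
  set S := Submodule.span F (Set.range e.1) with hSdef
  set P := perp q e.1 with hPdef
  have hSP : S ≤ P := span_le_perp e
  obtain ⟨M₀, hM₀⟩ := Submodule.exists_isCompl (S.comap P.subtype)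
  set M : Submodule F Vn := M₀.map P.subtype with hMdef
  have hMP : M ≤ P := by rintro _ ⟨x, -, rfl⟩; exact x.2
  have hsum : ∀ v ∈ P, ∃ s ∈ S, ∃ u ∈ M, v = s + u := by
    intro v hv
    have : (⟨v, hv⟩ : P) ∈ (S.comap P.subtype ⊔ M₀) := by rw [hM₀.sup_eq_top]; exact Submodule.mem_top
    obtain ⟨s, hs, u, hu, hsu⟩ := Submodule.mem_sup.1 this
    exact ⟨s, hs, u, ⟨u, hu, rfl⟩, (congrArg Subtype.val hsu).symm⟩
  have hdisj : ∀ x, x ∈ S → x ∈ M → x = 0 := by
    rintro _ hx ⟨y, hy, rfl⟩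
    have : y ∈ S.comap P.subtype ⊓ M₀ := ⟨hx, hy⟩
    rw [hM₀.inf_eq_bot, Submodule.mem_bot] at this
    simp [this]
  have hS0 : ∀ x ∈ S, ∀ v ∈ P, H v x = 0 := by
    intro x hx v hv
    induction hx using Submodule.span_induction with
    | mem x hx => obtain ⟨i, rfl⟩ := hx; exact mem_perp.1 hv i
    | zero => simp
    | add x y _ _ h h' => simp [h, h']
    | smul c x _ h => simp [h]
  let B : M →ₛₗ[((σ : F ≃+* F) : F →+* F)] M →ₗ[F] F :=
    LinearMap.mk₂'ₛₗ _ (RingHom.id F) (fun x y => H (y : Vn) (x : Vn))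
      (fun x x' y => by simp) (fun c x y => by simp) (fun x y y' => by simp) (fun c x y => by simp)
  have hB : ∀ x y, B x y = H (y : Vn) (x : Vn) := fun x y => rfl
  have hsep : ∀ x : M, (∀ y : M, H (y : Vn) (x : Vn) = 0) → x = 0 := by
    intro x hx
    refine Subtype.ext (hdisj _ (mem_span_of_orth_perp e fun u hu => ?_) x.2)
    obtain ⟨s, hs, w, hw, rfl⟩ := hsum u hu
    rw [H_add_left, hx ⟨w, hw⟩, H_eq_zero_comm.1 (hS0 s hs _ (hMP x.2)), add_zero]
  have hSym : B.IsSymm := ⟨fun x y => by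
    show σ (B x y) = B y x
    rw [hB, hB, H_flip]⟩
  have hN : B.Nondegenerate := ⟨fun x hx => hsep x fun y => hx y,
    fun y hy => hsep y fun x => H_eq_zero_comm.1 (by simpa [hB] using hy x)⟩
  obtain ⟨b, hb⟩ := FormModel.exists_orthonormal ((σ : F ≃+* F) : F →+* F) (fun h => by
      obtain ⟨a, ha⟩ := qb_ne (F := F) (q := q)
      exact ha (RingHom.congr_fun h a)) (fun a => qb_qb a) B hSym hN
  have hdim : Module.finrank F M + 2 * k = n := by
    have h1 := Submodule.finrank_add_eq_of_isCompl hM₀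
    have h2 : Module.finrank F (S.comap P.subtype) = k := by
      rw [(Submodule.comapSubtypeEquivOfLe hSP).finrank_eq, hSdef, finrank_span_eq_card e.2.1, Fintype.card_fin]
    have h3 : Module.finrank F M = Module.finrank F M₀ :=
      (Submodule.equivMapOfInjective _ P.injective_subtype M₀).finrank_eq.symm
    have h4 := finrank_perp e
    rw [← hPdef] at h4
    omega
  refine ⟨by omega, ?_⟩
  rw [show n - 2 * k = Module.finrank F M by omega]
  obtain ⟨d, b, hb, hd⟩ : ∃ (d : ℕ) (b : Module.Basis (Fin d) F M),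
      (∀ i j, B (b i) (b j) = if i = j then 1 else 0) ∧ Module.finrank F M = d := ⟨_, b, hb, rfl⟩
  rw [hd]
  have hcoord : ∀ c : Fin d → F, H ((∑ i, c i • b i : M) : Vn) ((∑ i, c i • b i : M) : Vn) =
      Cfsg.hermForm d F q c c := by
    intro c
    rw [← hB]
    simp [map_sum, hb, Cfsg.hermForm, qb_apply, mul_comm]
  have e1 : {v : Vn // v ∈ P ∧ H v v = 0} ≃ S × {u : M // H (u : Vn) (u : Vn) = 0} := by
    refine (Equiv.ofBijective (fun p : S × {u : M // H (u : Vn) (u : Vn) = 0} =>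
      (⟨(p.1 : Vn) + (p.2.1 : Vn), add_mem (hSP p.1.2) (hMP p.2.1.2), ?_⟩ : {v : Vn // v ∈ P ∧ H v v = 0}))
      ⟨?_, ?_⟩).symm
    · simp [p.2.2, hS0 _ p.1.2 _ (hSP p.1.2), hS0 _ p.1.2 _ (hMP p.2.1.2),
        H_eq_zero_comm.1 (hS0 _ p.1.2 _ (hMP p.2.1.2))]
    · intro p p' h
      have h' : (p.1 : Vn) + (p.2.1 : Vn) = (p'.1 : Vn) + (p'.2.1 : Vn) := congrArg Subtype.val h
      have h0 : (p.1 : Vn) - (p'.1 : Vn) = 0 := hdisj _ (sub_mem p.1.2 p'.1.2) (by
        have : (p.1 : Vn) - (p'.1 : Vn) = (p'.2.1 : Vn) - (p.2.1 : Vn) := by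
          linear_combination (norm := module) h'
        rw [this]; exact sub_mem p'.2.1.2 p.2.1.2)
      refine Prod.ext (Subtype.ext (sub_eq_zero.1 h0)) (Subtype.ext (Subtype.ext ?_))
      linear_combination (norm := module) h' - h0
    · rintro ⟨v, hv, hvv⟩
      obtain ⟨s, hs, u, hu, rfl⟩ := hsum v hv
      refine ⟨(⟨s, hs⟩, ⟨⟨u, hu⟩, ?_⟩), rfl⟩
      simpa [hS0 _ hs _ (hSP hs), hS0 _ hs _ (hMP hu), H_eq_zero_comm.1 (hS0 _ hs _ (hMP hu))] using hvv
  have e2 : {u : M // H (u : Vn) (u : Vn) = 0} ≃ {c : Fin d → F // Cfsg.hermForm d F q c c = 0} :=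
    (b.equivFun.toEquiv.subtypeEquiv fun u => by
      rw [← hcoord]
      simp [b.sum_repr])
  rw [Nat.card_congr e1, Nat.card_prod, Nat.card_congr e2, card_iso,
    Module.natCard_eq_pow_finrank (K := F), hSdef, finrank_span_eq_card e.2.1, Fintype.card_fin,
    hQ.card, ← pow_mul]

instance instFiniteTup : Finite (Tup n k F q) := by
  unfold Tup; infer_instance

/-- Extending a tuple by one vector. -/
noncomputable def tupSucc : Tup n (k + 1) F q ≃ Σ p : Tup n k F q,
    {v : Vn // (v ∈ perp q p.1 ∧ H v v = 0) ∧ v ∉ Submodule.span F (Set.range p.1)} where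
  toFun e := ⟨⟨Fin.tail e.1, (linearIndependent_finSucc.1 e.2.1).1, fun i j => e.2.2 i.succ j.succ⟩,
    ⟨e.1 0, ⟨mem_perp.2 fun i => e.2.2 0 i.succ, e.2.2 0 0⟩, (linearIndependent_finSucc.1 e.2.1).2⟩⟩
  invFun s := ⟨Fin.cons s.2.1 s.1.1, linearIndependent_finCons.2 ⟨s.1.2.1, s.2.2.2⟩, by
    have h := mem_perp.1 s.2.2.1.1
    refine Fin.cases (Fin.cases (by simpa using s.2.2.1.2) fun j => ?_) (fun i => Fin.cases ?_ fun j => ?_)
    · simpa using h j
    · simpa using H_eq_zero_comm.1 (h i)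
    · simpa using s.1.2.2 i j⟩
  left_inv e := Subtype.ext (Fin.cons_self_tail _)
  right_inv s := by
    obtain ⟨p, v, hv⟩ := s
    rfl

theorem card_tupExt (p : Tup n k F q) :
    Nat.card {v : Vn // (v ∈ perp q p.1 ∧ H v v = 0) ∧ v ∉ Submodule.span F (Set.range p.1)} =
      q ^ (2 * k) * (ff q (n - 2 * k) * ff q (n - 2 * k - 1)) := by
  classical
  have h1 : Nat.card {v : Vn // v ∈ perp q p.1 ∧ H v v = 0} = Nat.card (Submodule.span F (Set.range p.1)) +
      Nat.card {v : Vn // (v ∈ perp q p.1 ∧ H v v = 0) ∧ v ∉ Submodule.span F (Set.range p.1)} := by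
    have hin : ∀ v ∈ Submodule.span F (Set.range p.1), v ∈ perp q p.1 ∧ H v v = 0 := by
      intro v hv
      refine ⟨span_le_perp p hv, ?_⟩
      have hP := span_le_perp p hv
      have : ∀ u ∈ Submodule.span F (Set.range p.1), H v u = 0 := by
        intro u hu
        induction hu using Submodule.span_induction with
        | mem u hu => obtain ⟨i, rfl⟩ := hu; exact mem_perp.1 hP i
        | zero => simp
        | add u w _ _ h h' => simp [h, h']
        | smul c u _ h => simp [h]
      exact this v hv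
    rw [← Nat.card_sum]
    refine Nat.card_congr
      { toFun := fun v => if h : v.1 ∈ Submodule.span F (Set.range p.1) then Sum.inl ⟨v.1, h⟩
          else Sum.inr ⟨v.1, v.2, h⟩
        invFun := Sum.elim (fun v => ⟨v.1, hin _ v.2⟩) (fun v => ⟨v.1, v.2.1⟩)
        left_inv := fun v => by dsimp only; split_ifs <;> rfl
        right_inv := fun v => by
          rcases v with ⟨v, hv⟩ | ⟨v, hv⟩
          · simp [hv]
          · simp [hv.2] }
  rw [(card_iso_perp p).2, Module.natCard_eq_pow_finrank (K := F), finrank_span_eq_card p.2.1, Fintype.card_fin,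
    hQ.card, ← pow_mul, mul_add, mul_one] at h1
  omega

theorem card_tup (k : ℕ) : Nat.card (Tup n k F q) =
    ∏ i ∈ Finset.range k, (q ^ (2 * i) * (ff q (n - 2 * i) * ff q (n - 2 * i - 1))) := by
  induction k with
  | zero =>
    rw [Finset.range_zero, Finset.prod_empty]
    have : Unique (Tup n 0 F q) :=
      { default := ⟨Fin.elim0, linearIndependent_empty_type, fun i => i.elim0⟩
        uniq := fun p => Subtype.ext (funext fun i => i.elim0) }
    exact Nat.card_unique
  | succ j ih =>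
    have : Fintype (Tup n j F q) := Fintype.ofFinite _
    rw [Nat.card_congr tupSucc, Nat.card_sigma, Finset.sum_congr rfl (fun p _ => card_tupExt p),
      Finset.sum_const, smul_eq_mul, Finset.card_univ, ← Nat.card_eq_fintype_card, ih, Finset.prod_range_succ]

omit [Field F] hQ [Fintype F] in
theorem tup_prod_identity (q n : ℕ) : ∀ k, 2 * k ≤ n →
    (∏ i ∈ Finset.range k, (q ^ (2 * i) * (ff q (n - 2 * i) * ff q (n - 2 * i - 1)))) * PP q (n - 2 * k) =
      q ^ (k * (k - 1)) * PP q n := by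
  intro k
  induction k with
  | zero => simp
  | succ j ih =>
    intro hj
    have h := ih (by omega)
    obtain ⟨d, hd⟩ : ∃ d, n - 2 * j = d + 2 := ⟨n - 2 * j - 2, by omega⟩
    rw [hd, PP_succ, PP_succ] at h
    rw [Finset.prod_range_succ, show n - 2 * (j + 1) = d by omega, hd, show d + 2 - 1 = d + 1 by omega]
    have he : (j + 1) * (j + 1 - 1) = j * (j - 1) + 2 * j := by
      rw [Nat.add_sub_cancel]
      rcases j with _ | i
      · rfl
      · rw [Nat.add_sub_cancel]; ring
    rw [he, pow_add]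
    linear_combination (q ^ (2 * j)) * h

/-- The stabiliser of a totally isotropic subspace in `GU`. -/
theorem card_stab (W : Submodule F Vn) (hWk : Module.finrank F W = k)
    (hW : ∀ u ∈ W, ∀ v ∈ W, H u v = 0) :
    q ^ (k * (k - 1)) * Nat.card {A : GUn // ∀ v, v ∈ W ↔ A.1.1 *ᵥ v ∈ W} =
      (∏ i : Fin k, ((q ^ 2) ^ k - (q ^ 2) ^ (i : ℕ))) * (q ^ (n * (n - 1) / 2) * PP q (n - 2 * k)) := by
  classical
  let b := Module.finBasisOfFinrankEq F W hWk
  let e₀ : Tup n k F q := ⟨fun i => (b i : Vn), b.linearIndependent.map' W.subtype W.ker_subtype,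
    fun i j => hW _ (b i).2 _ (b j).2⟩
  let S : Set (Tup n k F q) := {e | ∀ i, e.1 i ∈ W}
  have e1 : Nat.card {A : GUn // ∀ v, v ∈ W ↔ A.1.1 *ᵥ v ∈ W} = Nat.card {A : GUn // act A e₀ ∈ S} := by
    refine Nat.card_congr (Equiv.subtypeEquivRight fun A => ⟨fun h i => (h _).1 (b i).2, fun h => ?_⟩)
    have hmaps : ∀ v ∈ W, A.1.1 *ᵥ v ∈ W := by
      intro v hv
      have hs := congrArg Subtype.val (b.sum_repr ⟨v, hv⟩)
      rw [Submodule.coe_sum] at hs
      show A.1.1 *ᵥ ((⟨v, hv⟩ : W) : Vn) ∈ W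
      rw [← hs, Matrix.mulVec_sum]
      exact Submodule.sum_mem _ fun i _ => by
        rw [Submodule.coe_smul, Matrix.mulVec_smul]; exact W.smul_mem _ (h i)
    intro v
    refine ⟨hmaps v, fun hv => ?_⟩
    have hinj : Function.Injective fun w : W => (⟨A.1.1 *ᵥ w.1, hmaps _ w.2⟩ : W) := fun a c hac =>
      Subtype.ext (mulVec_injective A (congrArg Subtype.val hac))
    obtain ⟨w, hw⟩ := (Finite.injective_iff_surjective.1 hinj) ⟨A.1.1 *ᵥ v, hv⟩
    rw [← mulVec_injective A (congrArg Subtype.val hw : A.1.1 *ᵥ w.1 = A.1.1 *ᵥ v)]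
    exact w.2
  have e2 : Nat.card S = ∏ i : Fin k, ((q ^ 2) ^ k - (q ^ 2) ^ (i : ℕ)) := by
    have hl := @card_linearIndependent F W _ _ _ _ _ k (by rw [hWk])
    rw [hWk, card_of hQ] at hl
    rw [← hl]
    exact Nat.card_congr
      { toFun := fun e => ⟨fun i => ⟨e.1.1 i, e.2 i⟩, LinearIndependent.of_comp W.subtype e.1.2.1⟩
        invFun := fun f => ⟨⟨fun i => (f.1 i : Vn), f.2.map' W.subtype W.ker_subtype,
          fun i j => hW _ (f.1 i).2 _ (f.1 j).2⟩, fun i => (f.1 i).2⟩
        left_inv := fun e => rfl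
        right_inv := fun f => rfl }
  rw [e1, card_image_mem, e2]
  have h := card_fix e₀
  rw [card_tup, UnitaryOrder.card_GU (card_of hQ), ← PP] at h
  have hid := tup_prod_identity q n k (card_iso_perp e₀).1
  have hpos : 0 < PP q n := Finset.prod_pos fun i _ => by
    have h2 : 2 ≤ q := two_le_q (F := F)
    split_ifs
    · omega
    · exact Nat.sub_pos_of_lt (Nat.one_lt_pow (by omega) (by omega))
  apply Nat.eq_of_mul_eq_mul_left hpos
  calc PP q n * (q ^ (k * (k - 1)) * ((∏ i : Fin k, ((q ^ 2) ^ k - (q ^ 2) ^ (i : ℕ))) *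
        Nat.card {A : GUn // act A e₀ = e₀}))
      = (∏ i : Fin k, ((q ^ 2) ^ k - (q ^ 2) ^ (i : ℕ))) * ((q ^ (k * (k - 1)) * PP q n) *
        Nat.card {A : GUn // act A e₀ = e₀}) := by ring
    _ = (∏ i : Fin k, ((q ^ 2) ^ k - (q ^ 2) ^ (i : ℕ))) *
        (((∏ i ∈ Finset.range k, (q ^ (2 * i) * (ff q (n - 2 * i) * ff q (n - 2 * i - 1)))) *
          Nat.card {A : GUn // act A e₀ = e₀}) * PP q (n - 2 * k)) := by rw [← hid]; ring
    _ = _ := by rw [h]; ring

/-- Every norm-one scalar is the determinant of a stabiliser of a non-zero isotropic subspace. -/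
theorem exists_det (W : Submodule F Vn) (hW : ∀ u ∈ W, ∀ v ∈ W, H u v = 0) (hW0 : W ≠ ⊥) (ν : F)
    (hν : ν * σ ν = 1) : ∃ A : GUn, (∀ v ∈ W, A.1.1 *ᵥ v ∈ W) ∧ A.1.1.det = ν := by
  obtain ⟨x, hxW, hx0⟩ := (Submodule.ne_bot_iff _).1 hW0
  have hxx := hW x hxW x hxW
  obtain ⟨f, hf, hff⟩ := exists_partner (q := q) hx0 hxx
  have hxf : H x f = 1 := by rw [← H_flip f x, hf, map_one]
  obtain ⟨c, hc⟩ := qb_ne (F := F) (q := q)
  obtain ⟨a, ha, ha'⟩ := FormCentral.exists_of_norm_one ((σ : F ≃+* F) : F →+* F) (fun y => qb_qb y)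
    (c := c) (isUnit_iff_ne_zero.2 (sub_ne_zero.2 (Ne.symm hc))) hν
  have ha0 : a ≠ 0 := ha.ne_zero
  have ha2 : a = σ a * ν := ha'
  have hsa : σ a ≠ 0 := (map_ne_zero_iff _ (RingEquiv.injective _)).2 ha0
  let U : Matrix (Fin n) (Fin 2) F := Matrix.of fun i j => ![x i, f i] j
  let Vt : Matrix (Fin 2) (Fin n) F :=
    Matrix.of fun j i => ![(a - 1) * σ (f i), ((σ a)⁻¹ - 1) * σ (x i)] j
  have happ : ∀ v : Vn, (1 + U * Vt) *ᵥ v = v + ((a - 1) * H v f) • x + (((σ a)⁻¹ - 1) * H v x) • f := by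
    intro v
    have hVt : Vt *ᵥ v = ![(a - 1) * H v f, ((σ a)⁻¹ - 1) * H v x] := by
      funext j
      fin_cases j <;>
        simp [Matrix.mulVec, dotProduct, Vt, H_eq, Finset.mul_sum] <;>
        exact Finset.sum_congr rfl fun i _ => by ring
    have hU : ∀ w : Fin 2 → F, U *ᵥ w = w 0 • x + w 1 • f := fun w => by
      funext i
      simp [Matrix.mulVec, dotProduct, U, Fin.sum_univ_two, mul_comm]
    rw [Matrix.add_mulVec, Matrix.one_mulVec, ← Matrix.mulVec_mulVec, hVt, hU]
    simp [add_assoc]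
  have hdet : (1 + U * Vt).det = ν := by
    rw [Matrix.det_one_add_mul_comm, Matrix.det_fin_two]
    have e00 : (Vt * U) 0 0 = (a - 1) * H x f := by
      simp [Matrix.mul_apply, U, Vt, H_eq, Finset.mul_sum]; exact Finset.sum_congr rfl fun j _ => by ring
    have e01 : (Vt * U) 0 1 = (a - 1) * H f f := by
      simp [Matrix.mul_apply, U, Vt, H_eq, Finset.mul_sum]; exact Finset.sum_congr rfl fun j _ => by ring
    have e10 : (Vt * U) 1 0 = ((σ a)⁻¹ - 1) * H x x := by
      simp [Matrix.mul_apply, U, Vt, H_eq, Finset.mul_sum]; exact Finset.sum_congr rfl fun j _ => by ring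
    have e11 : (Vt * U) 1 1 = ((σ a)⁻¹ - 1) * H f x := by
      simp [Matrix.mul_apply, U, Vt, H_eq, Finset.mul_sum]; exact Finset.sum_congr rfl fun j _ => by ring
    simp [e00, e01, e10, e11, hxf, hff, hxx, hf]
    field_simp
    linear_combination ha2
  have hne : (1 + U * Vt).det ≠ 0 := by
    rw [hdet]
    exact left_ne_zero_of_mul (by rw [hν]; exact one_ne_zero)
  obtain ⟨g, hg⟩ : ∃ g : Matrix.GeneralLinearGroup (Fin n) F, g.1 = 1 + U * Vt :=
    (Matrix.isUnit_iff_isUnit_det _).2 (isUnit_iff_ne_zero.2 hne)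
  have hmem : g ∈ Cfsg.GU n F q := by
    refine UnitaryOrder.mem_GU_iff.2 fun u v => ?_
    rw [hg, happ, happ]
    simp only [H_add_left, H_add_right, H_smul_left, H_smul_right, hxx, hff, hxf, hf, mul_zero, mul_one,
      add_zero, zero_add, map_mul, map_sub, map_one, map_inv₀, qb_qb, H_flip]
    have k1 : σ a * (σ a)⁻¹ = 1 := mul_inv_cancel₀ hsa
    have k2 : a * a⁻¹ = 1 := mul_inv_cancel₀ ha0
    linear_combination (H u f * H x v) * k2 + (H u x * H f v) * k1
  refine ⟨⟨g, hmem⟩, fun v hv => ?_, by show g.1.det = ν; rw [hg, hdet]⟩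
  show g.1 *ᵥ v ∈ W
  rw [hg, happ, hW v hv x hxW, mul_zero, zero_smul, add_zero]
  exact add_mem hv (W.smul_mem _ hxW)

end Cfsg.Agent.UnitaryParabolic
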